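import Mathlib.LinearAlgebra.FiniteDimensional.Lemmas
import Mathlib.Algebra.Module.Equiv.Basic
import Mathlib.Tactic
import Mathlib
import Cfsg.Agent.Lib.MatDec
import Cfsg.Agent.Lib.FinFast
import Cfsg.Prelude.Def_Spor_Mathieu
import Cfsg.Agent.H994.TwoGen.Suz
import Cfsg.Agent.H994.TwoGen.Chain
import Cfsg.Agent.MTwelveType.SylowModel
import Cfsg.Agent.J4.M24Hom
import Cfsg.Agent.H807.El.Mathieu
import Cfsg.Agent.Cit.Eleven
import Cfsg.Agent.Lib.GenFitting
import Cfsg.Agent.H912.ElevenPSL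
import Cfsg.Agent.UGT.End.OfFix
import Cfsg.Agent.TwoFusion.SLTwoFacts
import Cfsg.Agent.LieClassical.FieldTransfer
import Cfsg.Agent.H238.E8.Frame
import Cfsg.Agent.H540.E8C.Centre
import Cfsg.Agent.FastGrp
import Cfsg.Agent.Prune
set_option linter.all false

section
prune_inst 0x7ffcadfbeff9addfdf7f7e7da69ccffdf9b9bfffe6dff9cbffe061ff0bbf4b00c9c56b8d0fe850fc0ef6e01410f87b53fbfffeffe26fd87ffffd1ff41ffbffcfedf7b508519488340fbc0ffe03f0778e7f3fffffffffffffffffffffffffffbeffbfffffffff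

-- part: H791/E8L/Rel
section
prune_inst 0x25204000612202000018001432000024400001000000000018e00f040b4df262094228006a902d0090228cc02800004000100110024000000e00000000010120802b5206b378ad04160019002084000000000000000000000000000000041000000000000
set_option linter.all false
open scoped Cfsg.Agent.FastGrp

/-!
# S5925, box D (helper791): `L₂(11)`-relations and vectors fixed by the Borel subgroup
-/

set_option autoImplicit false
set_option linter.unusedSectionVars false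

namespace Cfsg.Agent.H791.E8L

/-- the relations -/
structure Rel {M : Type*} [Group M] (x y t : M) : Prop where
  x11 : x ^ 11 = 1
  y5 : y ^ 5 = 1
  t2 : t * t = 1
  xt : (x * t) ^ 3 = 1
  yx : y * x * y⁻¹ = x ^ 3
  ty : t * y * t = y⁻¹

theorem Rel.map {M N : Type*} [Group M] [Group N] {x y t : M} (h : Rel x y t) (f : M →* N) :
    Rel (f x) (f y) (f t) where
  x11 := by rw [← map_pow, h.x11, map_one]
  y5 := by rw [← map_pow, h.y5, map_one]
  t2 := by rw [← map_mul, h.t2, map_one]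
  xt := by rw [← map_mul, ← map_pow, h.xt, map_one]
  yx := by rw [← map_inv, ← map_mul, ← map_mul, h.yx, map_pow]
  ty := by rw [← map_mul, ← map_mul, h.ty, map_inv]

section

variable {K V : Type*} [Field K] [AddCommGroup V] [Module K V] {x y t : V ≃ₗ[K] V}

/-- the sum of `x ^ i` over the nonzero squares modulo 11 -/
def XQ (x : V ≃ₗ[K] V) : V →ₗ[K] V :=
  ((x ^ 1 : V ≃ₗ[K] V) : V →ₗ[K] V) + ((x ^ 3 : V ≃ₗ[K] V) : V →ₗ[K] V) + ((x ^ 4 : V ≃ₗ[K] V) : V →ₗ[K] V) +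
    ((x ^ 5 : V ≃ₗ[K] V) : V →ₗ[K] V) + ((x ^ 9 : V ≃ₗ[K] V) : V →ₗ[K] V)

/-- the sum of `x ^ i` over the nonsquares modulo 11 -/
def XN (x : V ≃ₗ[K] V) : V →ₗ[K] V :=
  ((x ^ 2 : V ≃ₗ[K] V) : V →ₗ[K] V) + ((x ^ 6 : V ≃ₗ[K] V) : V →ₗ[K] V) + ((x ^ 7 : V ≃ₗ[K] V) : V →ₗ[K] V) +
    ((x ^ 8 : V ≃ₗ[K] V) : V →ₗ[K] V) + ((x ^ 10 : V ≃ₗ[K] V) : V →ₗ[K] V)

theorem XQ_apply (v : V) : XQ x v = (x ^ 1) v + (x ^ 3) v + (x ^ 4) v + (x ^ 5) v + (x ^ 9) v := rfl

theorem XN_apply (v : V) : XN x v = (x ^ 2) v + (x ^ 6) v + (x ^ 7) v + (x ^ 8) v + (x ^ 10) v := rfl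

theorem pow_app (i j : ℕ) (v : V) : (x ^ i) ((x ^ j) v) = (x ^ (i + j)) v := by
  rw [pow_add]; rfl

theorem app_pow (j : ℕ) (v : V) : x ((x ^ j) v) = (x ^ (j + 1)) v := by
  rw [pow_succ']; rfl

theorem pow_mod' (h : x ^ 11 = 1) (i : ℕ) (v : V) : (x ^ i) v = (x ^ (i % 11)) v := by
  rw [pow_eq_pow_mod i h]

/-- `y x ^ i = x ^ (3 i) y` -/
theorem Rel.y_pow {M : Type*} [Group M] {x y t : M} (h : Rel x y t) (i : ℕ) : y * x ^ i = x ^ (3 * i) * y := by
  rw [pow_mul, ← h.yx, conj_pow]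
  group

theorem Rel.y_app (h : Rel x y t) (i : ℕ) (v : V) : y ((x ^ i) v) = (x ^ (3 * i)) (y v) :=
  congrArg (fun g : V ≃ₗ[K] V => g v) (h.y_pow i)

theorem Rel.tt (h : Rel x y t) (v : V) : t (t v) = v :=
  congrArg (fun g : V ≃ₗ[K] V => g v) h.t2

/-- `y t = t y⁻¹` -/
theorem Rel.yt (h : Rel x y t) {v : V} (hy : y v = v) : y (t v) = t v := by
  have h1 : t * y⁻¹ = y * t := by
    rw [← h.ty, ← mul_assoc, ← mul_assoc, h.t2, one_mul]
  have h2 : y⁻¹ v = v := by
    have h3 : y⁻¹ (y v) = v := y.symm_apply_apply v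
    rwa [hy] at h3
  have h4 : t (y⁻¹ v) = y (t v) := congrArg (fun g : V ≃ₗ[K] V => g v) h1
  rw [← h4, h2]

theorem Rel.y_w (h : Rel x y t) {v : V} (hy : y v = v) (i : ℕ) : y ((x ^ i) (t v)) = (x ^ (3 * i)) (t v) := by
  rw [h.y_app, h.yt hy]

theorem Rel.base (h : Rel x y t) {v : V} (hx : x v = v) : t ((x ^ 1) (t v)) = (x ^ 10) (t v) := by
  have h1 : t * x ^ 1 * t * x = x ^ 10 * t := by
    have h2 : x * (t * x * t * x * t) = 1 := by
      have h3 := h.xt
      rw [pow_succ, pow_two] at h3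
      rw [← h3]; simp only [mul_assoc]
    have h4 : x * x ^ 10 = 1 := by rw [← pow_succ', h.x11]
    have h5 : t * x * t * x * t = x ^ 10 := mul_left_cancel (h2.trans h4.symm)
    rw [← h5, pow_one]
    rw [mul_assoc _ t t, h.t2, mul_one]
  have h6 : t ((x ^ 1) (t (x v))) = (x ^ 10) (t v) := congrArg (fun g : V ≃ₗ[K] V => g v) h1
  rwa [hx] at h6

theorem Rel.flip (h : Rel x y t) {v : V} {i j : ℕ} (hij : t ((x ^ i) (t v)) = (x ^ j) (t v)) :
    t ((x ^ j) (t v)) = (x ^ i) (t v) := by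
  rw [← hij, h.tt]

theorem Rel.step (h : Rel x y t) {v : V} (hy : y v = v) {i j : ℕ} (hij : t ((x ^ i) (t v)) = (x ^ j) (t v)) :
    t ((x ^ (3 * i % 11)) (t v)) = (x ^ (4 * j % 11)) (t v) := by
  rw [← pow_mod' h.x11, ← pow_mod' h.x11, ← h.y_w hy i]
  have h1 : t * y = y⁻¹ * t := by
    rw [← h.ty, mul_assoc _ t t, h.t2, mul_one]
  have h2 : t (y ((x ^ i) (t v))) = y⁻¹ (t ((x ^ i) (t v))) :=
    congrArg (fun g : V ≃ₗ[K] V => g ((x ^ i) (t v))) h1
  rw [h2, hij]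
  have h3 : (x ^ j) (t v) = y ((x ^ (4 * j)) (t v)) := by
    rw [h.y_w hy, pow_mod' h.x11 (3 * (4 * j)), pow_mod' h.x11 j]
    congr 2
    omega
  rw [h3]
  exact y.symm_apply_apply _

/-- `t x ^ i t v = x ^ (-1/i) t v` -/
theorem Rel.t_pow (h : Rel x y t) {v : V} (hx : x v = v) (hy : y v = v) {i j : ℕ} (hij : i * j % 11 = 10) :
    t ((x ^ i) (t v)) = (x ^ j) (t v) := by
  rw [pow_mod' h.x11 i, pow_mod' h.x11 j]
  have a1 := h.base hx
  have a2 := h.step hy a1
  have a3 := h.step hy a2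
  have a4 := h.step hy a3
  have a5 := h.step hy a4
  have b1 := h.flip a1
  have b2 := h.flip a2
  have b3 := h.flip a3
  have b4 := h.flip a4
  have b5 := h.flip a5
  norm_num at a2 a3 a4 a5 b2 b3 b4 b5
  have h1 : (i % 11) * (j % 11) % 11 = 10 := by rw [← Nat.mul_mod, hij]
  have h2 : i % 11 < 11 := Nat.mod_lt _ (by norm_num)
  have h3 : j % 11 < 11 := Nat.mod_lt _ (by norm_num)
  generalize i % 11 = i' at h1 h2 ⊢
  generalize j % 11 = j' at h1 h3 ⊢
  interval_cases i'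
  · omega
  · obtain rfl : j' = 10 := by omega
    exact a1
  · obtain rfl : j' = 5 := by omega
    assumption
  · obtain rfl : j' = 7 := by omega
    assumption
  · obtain rfl : j' = 8 := by omega
    assumption
  · obtain rfl : j' = 2 := by omega
    assumption
  · obtain rfl : j' = 9 := by omega
    assumption
  · obtain rfl : j' = 3 := by omega
    assumption
  · obtain rfl : j' = 4 := by omega
    assumption
  · obtain rfl : j' = 6 := by omega
    assumption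
  · obtain rfl : j' = 1 := by omega
    exact b1

/-- the orbit sum -/
def sv (x t : V ≃ₗ[K] V) (v : V) : V := v + ∑ i ∈ Finset.range 11, (x ^ i) (t v)

/-- the orbit sum is fixed -/
theorem Rel.s_fix (h : Rel x y t) {v : V} (hx : x v = v) (hy : y v = v) :
    x (sv x t v) = sv x t v ∧ y (sv x t v) = sv x t v ∧ t (sv x t v) = sv x t v := by
  have h0 : t ((x ^ 0) (t v)) = v := h.tt v
  refine ⟨?_, ?_, ?_⟩
  · simp only [sv, Finset.sum_range_succ, Finset.sum_range_zero, zero_add, map_add, hx, app_pow]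
    rw [pow_mod' h.x11 (10 + 1)]
    norm_num only
    abel
  · simp only [sv, Finset.sum_range_succ, Finset.sum_range_zero, zero_add, map_add, hy, h.y_w hy]
    rw [pow_mod' h.x11 (3 * 4), pow_mod' h.x11 (3 * 5), pow_mod' h.x11 (3 * 6), pow_mod' h.x11 (3 * 7),
      pow_mod' h.x11 (3 * 8), pow_mod' h.x11 (3 * 9), pow_mod' h.x11 (3 * 10)]
    norm_num only
    abel
  · simp only [sv, Finset.sum_range_succ, Finset.sum_range_zero, zero_add, map_add, h0]
    rw [h.t_pow hx hy (i := 1) (j := 10) (by norm_num), h.t_pow hx hy (i := 2) (j := 5) (by norm_num),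
      h.t_pow hx hy (i := 3) (j := 7) (by norm_num), h.t_pow hx hy (i := 4) (j := 8) (by norm_num),
      h.t_pow hx hy (i := 5) (j := 2) (by norm_num), h.t_pow hx hy (i := 6) (j := 9) (by norm_num),
      h.t_pow hx hy (i := 7) (j := 3) (by norm_num), h.t_pow hx hy (i := 8) (j := 4) (by norm_num),
      h.t_pow hx hy (i := 9) (j := 6) (by norm_num), h.t_pow hx hy (i := 10) (j := 1) (by norm_num)]
    have h1 : (x ^ 0) (t v) = t v := rfl
    rw [h1]
    abel

/-- `t` exchanges the two parts -/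
theorem Rel.t_XQ (h : Rel x y t) {v : V} (hx : x v = v) (hy : y v = v) : t (XQ x (t v)) = XN x (t v) := by
  rw [XQ_apply, XN_apply]
  simp only [map_add]
  rw [h.t_pow hx hy (i := 1) (j := 10) (by norm_num), 
      h.t_pow hx hy (i := 3) (j := 7) (by norm_num), h.t_pow hx hy (i := 4) (j := 8) (by norm_num),
      h.t_pow hx hy (i := 5) (j := 2) (by norm_num), 
      h.t_pow hx hy (i := 9) (j := 6) (by norm_num)]
  abel

theorem Rel.t_XN (h : Rel x y t) {v : V} (hx : x v = v) (hy : y v = v) : t (XN x (t v)) = XQ x (t v) := by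
  rw [← h.t_XQ hx hy, h.tt]

/-- the map `v ↦ (1 + X_Q) t v` -/
def fv (x t : V ≃ₗ[K] V) : V →ₗ[K] V := (LinearMap.id + XQ x) ∘ₗ (t : V →ₗ[K] V)

theorem fv_apply (v : V) : fv x t v = t v + XQ x (t v) := rfl

/-- if there are no common fixed vectors then `v ↦ (1 + X_Q) t v` is injective on the vectors fixed by `x`, `y` -/
theorem Rel.f_inj (h : Rel x y t) (h2 : (2 : K) ≠ 0)
    (hfix : ∀ u, x u = u → y u = u → t u = u → u = 0) {v : V} (hx : x v = v) (hy : y v = v)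
    (hv : fv x t v = 0) : v = 0 := by
  refine hfix v hx hy ?_
  rw [fv_apply, XQ_apply] at hv
  have h0 : t ((x ^ 0) (t v)) = v := h.tt v
  have hA0 : (x ^ 0) (t v) + (x ^ 1) (t v) + (x ^ 3) (t v) + (x ^ 4) (t v) + (x ^ 5) (t v) + (x ^ 9) (t v) = 0 := by
    rw [← hv]
    have h1 : (x ^ 0) (t v) = t v := rfl
    rw [h1]
    abel
  have hA2 : (x ^ 2) (t v) + (x ^ 3) (t v) + (x ^ 5) (t v) + (x ^ 6) (t v) + (x ^ 7) (t v) + (x ^ 0) (t v) = 0 := by
    have h1 := congrArg (fun u => (x ^ 2) u) hA0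
    simp only [map_add, map_zero, pow_app] at h1
    norm_num only at h1
    rw [pow_mod' h.x11 11] at h1
    norm_num only at h1
    exact h1
  have hB2 : (x ^ 5) (t v) + (x ^ 7) (t v) + (x ^ 2) (t v) + (x ^ 9) (t v) + (x ^ 3) (t v) + v = 0 := by
    have h1 := congrArg (fun u => t u) hA2
    simp only [map_add, map_zero, h0] at h1
    rw [h.t_pow hx hy (i := 2) (j := 5) (by norm_num), h.t_pow hx hy (i := 3) (j := 7) (by norm_num),
      h.t_pow hx hy (i := 5) (j := 2) (by norm_num), h.t_pow hx hy (i := 6) (j := 9) (by norm_num),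
      h.t_pow hx hy (i := 7) (j := 3) (by norm_num)] at h1
    exact h1
  have hB7 : (x ^ 5) (t v) + (x ^ 6) (t v) + (x ^ 3) (t v) + (x ^ 2) v + (x ^ 1) (t v) + (x ^ 4) (t v) = 0 := by
    have h1 := congrArg (fun u => (x ^ 7) u) hA0
    simp only [map_add, map_zero, pow_app] at h1
    norm_num only at h1
    rw [pow_mod' h.x11 11, pow_mod' h.x11 12, pow_mod' h.x11 16] at h1
    norm_num only at h1
    have h2 := congrArg (fun u => t u) h1
    simp only [map_add, map_zero, h0] at h2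
    rw [h.t_pow hx hy (i := 7) (j := 3) (by norm_num), h.t_pow hx hy (i := 8) (j := 4) (by norm_num),
      h.t_pow hx hy (i := 10) (j := 1) (by norm_num), h.t_pow hx hy (i := 1) (j := 10) (by norm_num),
      h.t_pow hx hy (i := 5) (j := 2) (by norm_num)] at h2
    have h3 := congrArg (fun u => (x ^ 2) u) h2
    simp only [map_add, map_zero, pow_app] at h3
    norm_num only at h3
    rw [pow_mod' h.x11 12] at h3
    norm_num only at h3
    rw [← h3]
  have hv2 : (x ^ 2) v = v := by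
    rw [pow_two]
    change x (x v) = v
    rw [hx, hx]
  rw [hv2] at hB7
  have h5 : (2 : K) • ((x ^ 0) (t v) - v) = 0 := by
    linear_combination (norm := module) hA0 + hA2 - hB2 - hB7
  rcases smul_eq_zero.1 h5 with h6 | h6
  · exact absurd h6 h2
  · exact sub_eq_zero.1 h6

/-- `y` fixes `f v` -/
theorem Rel.f_y (h : Rel x y t) {v : V} (hy : y v = v) : y (fv x t v) = fv x t v := by
  rw [fv_apply, XQ_apply]
  simp only [map_add, h.y_w hy, h.yt hy]
  rw [pow_mod' h.x11 (3 * 4), pow_mod' h.x11 (3 * 5), pow_mod' h.x11 (3 * 9)]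
  norm_num only
  abel

/-- `X_Q (1 + X_Q) = 0` in characteristic three -/
theorem XQ_one_add (h3 : (3 : K) = 0) (h : x ^ 11 = 1) (v : V) : XQ x (v + XQ x v) = 0 := by
  have h4 : ∀ u : V, (3 : K) • u = 0 := fun u => by rw [h3, zero_smul]
  rw [XQ_apply, XQ_apply]
  simp only [map_add, pow_app]
  norm_num only
  rw [pow_mod' h 12, pow_mod' h 13, pow_mod' h 14, pow_mod' h 18]
  norm_num only
  linear_combination (norm := module) h4 ((x ^ 1) v) + h4 ((x ^ 3) v) + h4 ((x ^ 4) v) + h4 ((x ^ 5) v) + h4 ((x ^ 9) v)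
    + h4 ((x ^ 2) v) + h4 ((x ^ 6) v) + h4 ((x ^ 7) v) + h4 ((x ^ 8) v) + h4 ((x ^ 10) v)

theorem f_part (h3 : (3 : K) = 0) (h : x ^ 11 = 1) (v : V) : XQ x (fv x t v) = 0 :=
  XQ_one_add h3 h (t v)

/-- the vectors fixed by `x` and `y` -/
def fixB (x y : V ≃ₗ[K] V) : Submodule K V where
  carrier := {v | x v = v ∧ y v = v}
  zero_mem' := ⟨map_zero _, map_zero _⟩
  add_mem' := fun {a b} ha hb => ⟨by rw [map_add, ha.1, hb.1], by rw [map_add, ha.2, hb.2]⟩
  smul_mem' := fun c a ha => ⟨by rw [map_smul, ha.1], by rw [map_smul, ha.2]⟩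

/-- the quintic part of the vectors fixed by `y` -/
def partQ (x y : V ≃ₗ[K] V) : Submodule K V where
  carrier := {v | y v = v ∧ XQ x v = 0}
  zero_mem' := ⟨map_zero _, map_zero _⟩
  add_mem' := fun {a b} ha hb => ⟨by rw [map_add, ha.1, hb.1], by rw [map_add, ha.2, hb.2, add_zero]⟩
  smul_mem' := fun c a ha => ⟨by rw [map_smul, ha.1], by rw [map_smul, ha.2, smul_zero]⟩

open Module in
/-- the count -/
theorem Rel.finrank_le [FiniteDimensional K V] (h : Rel x y t) (h3 : (3 : K) = 0)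
    (hfix : ∀ u, x u = u → y u = u → t u = u → u = 0) : finrank K (fixB x y) ≤ finrank K (partQ x y) := by
  have h2 : (2 : K) ≠ 0 := by
    intro h2
    have h4 : (1 : K) = 0 := by linear_combination h3 - h2
    exact one_ne_zero h4
  refine LinearMap.finrank_le_finrank_of_injective (f := (fv x t).restrict (p := fixB x y) (q := partQ x y)
    fun v hv => ⟨h.f_y hv.2, f_part h3 h.x11 v⟩) ?_
  intro v w hvw
  have h5 : fv x t ((v : V) - w) = 0 := by
    rw [map_sub, sub_eq_zero]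
    exact congrArg Subtype.val hvw
  have h6 := (v - w).2
  have h7 : (v : V) - w = 0 := h.f_inj h2 hfix h6.1 h6.2 h5
  exact Subtype.ext (sub_eq_zero.1 h7)

end

end Cfsg.Agent.H791.E8L

private theorem dce_3c0930e52568 : _root_.True := by
  try have : _root_.True := by simp only [_root_.Cfsg.Agent.H791.E8L.sv.eq_1]
  exact _root_.True.intro
end

-- part: H791/E8L/Rel2
section
prune_inst 0x34200100652202000018001032000064600001020000000038e00f04034df262a94628016aa02d1090228c402800004000100110020000000a0000000001012080225206b348a104060019000000000000000000000000000000000000041000000000000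
set_option linter.all false
open scoped Cfsg.Agent.FastGrp

/-!
# S5925, boxes D, M (helper791): relations with the orbit sum; the count when there are fixed vectors
-/

set_option autoImplicit false
set_option linter.unusedSectionVars false

namespace Cfsg.Agent.H791.E8L

theorem Rel.inv {M : Type*} [Group M] {x y t : M} (h : Rel x y t) : Rel x⁻¹ y t where
  x11 := by rw [inv_pow, h.x11, inv_one]
  y5 := h.y5
  t2 := h.t2
  xt := by
    have ht : t⁻¹ = t := inv_eq_of_mul_eq_one_right h.t2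
    have h1 : x⁻¹ * t = x⁻¹ * (t * x⁻¹) * x⁻¹⁻¹ := by group
    rw [h1, conj_pow]
    have h2 : t * x⁻¹ = (x * t)⁻¹ := by rw [mul_inv_rev, ht]
    rw [h2, inv_pow, h.xt]
    group
  yx := by
    have h1 : y * x⁻¹ * y⁻¹ = (y * x * y⁻¹)⁻¹ := by group
    rw [h1, h.yx, inv_pow]
  ty := h.ty

section

variable {K V : Type*} [Field K] [AddCommGroup V] [Module K V] {x y t : V ≃ₗ[K] V}

theorem inv_pow_eq (h : x ^ 11 = 1) {i j : ℕ} (hij : i + j = 11) : (x⁻¹) ^ i = x ^ j := by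
  have h1 : x ^ i * x ^ j = 1 := by rw [← pow_add, hij, h]
  rw [inv_pow]
  exact inv_eq_of_mul_eq_one_right h1

theorem XQ_inv (h : x ^ 11 = 1) : XQ x⁻¹ = XN x := by
  ext v
  rw [XQ_apply, XN_apply, inv_pow_eq h (show 1 + 10 = 11 from rfl), inv_pow_eq h (show 3 + 8 = 11 from rfl),
    inv_pow_eq h (show 4 + 7 = 11 from rfl), inv_pow_eq h (show 5 + 6 = 11 from rfl),
    inv_pow_eq h (show 9 + 2 = 11 from rfl)]
  abel

theorem XN_inv (h : x ^ 11 = 1) : XN x⁻¹ = XQ x := by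
  have h1 : (x⁻¹) ^ 11 = 1 := by rw [inv_pow, h, inv_one]
  rw [← XQ_inv h1, inv_inv]

theorem sv_eq (v : V) : sv x t v = v + t v + XQ x (t v) + XN x (t v) := by
  rw [sv, XQ_apply, XN_apply]
  simp only [Finset.sum_range_succ, Finset.sum_range_zero, zero_add]
  have h1 : (x ^ 0) (t v) = t v := rfl
  rw [h1]
  abel

theorem sv_inv (h : x ^ 11 = 1) (v : V) : sv x⁻¹ t v = sv x t v := by
  rw [sv_eq, sv_eq, XQ_inv h, XN_inv h]
  abel

/-- the map `v ↦ (1 + X_N) t v` -/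
def gv (x t : V ≃ₗ[K] V) : V →ₗ[K] V := (LinearMap.id + XN x) ∘ₗ (t : V →ₗ[K] V)

theorem gv_apply (v : V) : gv x t v = t v + XN x (t v) := rfl

theorem fv_inv (h : x ^ 11 = 1) (v : V) : fv x⁻¹ t v = gv x t v := by
  rw [fv_apply, gv_apply, XQ_inv h]

/-- `t a = - a + s` -/
theorem Rel.t_fv (h : Rel x y t) {v : V} (hx : x v = v) (hy : y v = v) :
    t (fv x t v) = - fv x t v + sv x t v := by
  rw [fv_apply, map_add, h.tt, h.t_XQ hx hy, sv_eq]
  abel

/-- `t b = - b + s` -/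
theorem Rel.t_gv (h : Rel x y t) {v : V} (hx : x v = v) (hy : y v = v) :
    t (gv x t v) = - gv x t v + sv x t v := by
  rw [gv_apply, map_add, h.tt, h.t_XN hx hy, sv_eq]
  abel

theorem inv_app {v : V} (hx : x v = v) : x⁻¹ v = v := by
  have h3 : x⁻¹ (x v) = v := x.symm_apply_apply v
  rwa [hx] at h3

/-- `a = 0` implies that `v` is fixed by `t` (no hypothesis on fixed vectors) -/
theorem Rel.t_of_fv (h : Rel x y t) (h2 : (2 : K) ≠ 0) {v : V} (hx : x v = v) (hy : y v = v)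
    (hv : fv x t v = 0) : t v = v ∧ sv x t v = 0 := by
  have hs : sv x t v = 0 := by
    have h1 := h.t_fv hx hy
    rw [hv, map_zero, neg_zero, zero_add] at h1
    exact h1.symm
  refine ⟨?_, hs⟩
  rw [fv_apply, XQ_apply] at hv
  have h0 : t ((x ^ 0) (t v)) = v := h.tt v
  have hA0 : (x ^ 0) (t v) + (x ^ 1) (t v) + (x ^ 3) (t v) + (x ^ 4) (t v) + (x ^ 5) (t v) + (x ^ 9) (t v) = 0 := by
    rw [← hv]
    have h1 : (x ^ 0) (t v) = t v := rfl
    rw [h1]
    abel
  have hA2 : (x ^ 2) (t v) + (x ^ 3) (t v) + (x ^ 5) (t v) + (x ^ 6) (t v) + (x ^ 7) (t v) + (x ^ 0) (t v) = 0 := by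
    have h1 := congrArg (fun u => (x ^ 2) u) hA0
    simp only [map_add, map_zero, pow_app] at h1
    norm_num only at h1
    rw [pow_mod' h.x11 11] at h1
    norm_num only at h1
    exact h1
  have hB2 : (x ^ 5) (t v) + (x ^ 7) (t v) + (x ^ 2) (t v) + (x ^ 9) (t v) + (x ^ 3) (t v) + v = 0 := by
    have h1 := congrArg (fun u => t u) hA2
    simp only [map_add, map_zero, h0] at h1
    rw [h.t_pow hx hy (i := 2) (j := 5) (by norm_num), h.t_pow hx hy (i := 3) (j := 7) (by norm_num),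
      h.t_pow hx hy (i := 5) (j := 2) (by norm_num), h.t_pow hx hy (i := 6) (j := 9) (by norm_num),
      h.t_pow hx hy (i := 7) (j := 3) (by norm_num)] at h1
    exact h1
  have hB7 : (x ^ 5) (t v) + (x ^ 6) (t v) + (x ^ 3) (t v) + (x ^ 2) v + (x ^ 1) (t v) + (x ^ 4) (t v) = 0 := by
    have h1 := congrArg (fun u => (x ^ 7) u) hA0
    simp only [map_add, map_zero, pow_app] at h1
    norm_num only at h1
    rw [pow_mod' h.x11 11, pow_mod' h.x11 12, pow_mod' h.x11 16] at h1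
    norm_num only at h1
    have h2 := congrArg (fun u => t u) h1
    simp only [map_add, map_zero, h0] at h2
    rw [h.t_pow hx hy (i := 7) (j := 3) (by norm_num), h.t_pow hx hy (i := 8) (j := 4) (by norm_num),
      h.t_pow hx hy (i := 10) (j := 1) (by norm_num), h.t_pow hx hy (i := 1) (j := 10) (by norm_num),
      h.t_pow hx hy (i := 5) (j := 2) (by norm_num)] at h2
    have h3 := congrArg (fun u => (x ^ 2) u) h2
    simp only [map_add, map_zero, pow_app] at h3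
    norm_num only at h3
    rw [pow_mod' h.x11 12] at h3
    norm_num only at h3
    rw [← h3]
  have hv2 : (x ^ 2) v = v := by
    rw [pow_two]
    change x (x v) = v
    rw [hx, hx]
  rw [hv2] at hB7
  have h5 : (2 : K) • ((x ^ 0) (t v) - v) = 0 := by
    linear_combination (norm := module) hA0 + hA2 - hB2 - hB7
  rcases smul_eq_zero.1 h5 with h6 | h6
  · exact absurd h6 h2
  · exact sub_eq_zero.1 h6

/-- `b = 0` implies that `v` is fixed by `t` -/
theorem Rel.t_of_gv (h : Rel x y t) (h2 : (2 : K) ≠ 0) {v : V} (hx : x v = v) (hy : y v = v)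
    (hv : gv x t v = 0) : t v = v ∧ sv x t v = 0 := by
  have h1 := h.inv.t_of_fv h2 (inv_app hx) hy (by rw [fv_inv h.x11, hv])
  rwa [sv_inv h.x11] at h1

/-- `y` fixes `g v` -/
theorem Rel.g_y (h : Rel x y t) {v : V} (hy : y v = v) : y (gv x t v) = gv x t v := by
  have h1 := h.inv.f_y (v := v) hy
  rwa [fv_inv h.x11] at h1

/-- the other quintic part of the vectors fixed by `y` -/
def partN (x y : V ≃ₗ[K] V) : Submodule K V where
  carrier := {v | y v = v ∧ XN x v = 0}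
  zero_mem' := ⟨map_zero _, map_zero _⟩
  add_mem' := fun {a b} ha hb => ⟨by rw [map_add, ha.1, hb.1], by rw [map_add, ha.2, hb.2, add_zero]⟩
  smul_mem' := fun c a ha => ⟨by rw [map_smul, ha.1], by rw [map_smul, ha.2, smul_zero]⟩

/-- the vectors fixed by `x`, `y` and `t` -/
def fixS (x y t : V ≃ₗ[K] V) : Submodule K V where
  carrier := {v | x v = v ∧ y v = v ∧ t v = v}
  zero_mem' := ⟨map_zero _, map_zero _, map_zero _⟩
  add_mem' := fun {a b} ha hb =>
    ⟨by rw [map_add, ha.1, hb.1], by rw [map_add, ha.2.1, hb.2.1], by rw [map_add, ha.2.2, hb.2.2]⟩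
  smul_mem' := fun c a ha => ⟨by rw [map_smul, ha.1], by rw [map_smul, ha.2.1], by rw [map_smul, ha.2.2]⟩

theorem Rel.sv_mem (h : Rel x y t) {v : V} (hx : x v = v) (hy : y v = v) : sv x t v ∈ fixS x y t :=
  h.s_fix hx hy

/-- a vector fixed by `x` in a quintic part is zero -/
theorem eq_zero_of_fix (h3 : (3 : K) = 0) {u : V} (hx : x u = u) (hu : XQ x u = 0) : u = 0 := by
  have hp : ∀ i : ℕ, (x ^ i) u = u := by
    intro i
    induction i with
    | zero => rfl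
    | succ i ih =>
      rw [pow_succ']
      change x ((x ^ i) u) = u
      rw [ih, hx]
  rw [XQ_apply, hp, hp, hp, hp, hp] at hu
  have h4 : (3 : K) • u = 0 := by rw [h3, zero_smul]
  linear_combination (norm := module) (2 : K) • h4 - hu

open Module in
/-- the count when there are fixed vectors: `g` is an injective map of the fixed vectors of `⟨x, y, t⟩` into the
quintic part with values fixed by `t` -/
theorem Rel.count [FiniteDimensional K V] (h : Rel x y t) (h3 : (3 : K) = 0) (g : fixS x y t →ₗ[K] V)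
    (hg : ∀ w, g w = 0 → w = 0) (hgp : ∀ w, g w ∈ partQ x y) (hgt : ∀ w, t (g w) = g w) :
    finrank K (fixB x y) ≤ finrank K (partQ x y) := by
  have h2 : (2 : K) ≠ 0 := by
    intro h2
    have h4 : (1 : K) = 0 := by linear_combination h3 - h2
    exact one_ne_zero h4
  let Φ : (fixB x y × fixS x y t) →ₗ[K] V :=
    LinearMap.coprod (fv x t ∘ₗ (fixB x y).subtype) g
  have hΦ : ∀ p, Φ p = fv x t (p.1 : V) + g p.2 := fun p => rfl
  have hker : ∀ p, Φ p = 0 → t (p.1 : V) = p.1 ∧ p.2 = 0 := by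
    rintro ⟨v, w⟩ hp
    rw [hΦ] at hp
    simp only at hp ⊢
    have hx : x (v : V) = v := v.2.1
    have hy : y (v : V) = v := v.2.2
    have h4 := congrArg (fun u => t u) hp
    simp only [map_add, map_zero, h.t_fv hx hy, hgt] at h4
    have h5 : fv x t (v : V) + sv x t (v : V) = 0 := by
      have h6 : (3 : K) • fv x t (v : V) = 0 := by rw [h3, zero_smul]
      linear_combination (norm := module) h4 - hp + h6
    have h7 : x (sv x t (v : V)) = sv x t (v : V) := (h.s_fix hx hy).1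
    have h8 : XQ x (sv x t (v : V)) = 0 := by
      have h9 : sv x t (v : V) = - fv x t (v : V) := (neg_eq_of_add_eq_zero_right h5).symm
      rw [h9, map_neg, f_part h3 h.x11, neg_zero]
    have h9 : sv x t (v : V) = 0 := eq_zero_of_fix h3 h7 h8
    rw [h9, add_zero] at h5
    refine ⟨(h.t_of_fv h2 hx hy h5).1, hg w ?_⟩
    rwa [h5, zero_add] at hp
  have h4 := LinearMap.finrank_range_add_finrank_ker Φ
  have h5 : finrank K (LinearMap.range Φ) ≤ finrank K (partQ x y) := by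
    apply Submodule.finrank_mono
    rintro _ ⟨p, rfl⟩
    rw [hΦ]
    exact (partQ x y).add_mem ⟨h.f_y p.1.2.2, f_part h3 h.x11 _⟩ (hgp p.2)
  have h6 : finrank K (LinearMap.ker Φ) ≤ finrank K (fixS x y t) := by
    let ψ : LinearMap.ker Φ →ₗ[K] fixS x y t :=
      { toFun := fun p => ⟨(p.1.1 : V), p.1.1.2.1, p.1.1.2.2, (hker p.1 p.2).1⟩
        map_add' := fun p q => rfl
        map_smul' := fun c p => rfl }
    refine LinearMap.finrank_le_finrank_of_injective (f := ψ) ?_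
    intro p q hpq
    have h7 : ((p.1.1 : fixB x y) : V) = (q.1.1 : V) := congrArg (fun u : fixS x y t => (u : V)) hpq
    exact Subtype.ext (Prod.ext (Subtype.ext h7) (((hker p.1 p.2).2).trans ((hker q.1 q.2).2).symm))
  rw [finrank_prod] at h4
  omega

theorem partQ_inv (h : x ^ 11 = 1) : partQ x⁻¹ y = partN x y := by
  ext v
  change (y v = v ∧ XQ x⁻¹ v = 0) ↔ (y v = v ∧ XN x v = 0)
  rw [XQ_inv h]

theorem fixB_inv : fixB x⁻¹ y = fixB x y := by
  ext v
  refine ⟨fun hv => ⟨?_, hv.2⟩, fun hv => ⟨inv_app hv.1, hv.2⟩⟩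
  have h1 := inv_app hv.1
  rwa [inv_inv] at h1

theorem fixS_inv : fixS x⁻¹ y t = fixS x y t := by
  ext v
  refine ⟨fun hv => ⟨?_, hv.2⟩, fun hv => ⟨inv_app hv.1, hv.2⟩⟩
  have h1 := inv_app hv.1
  rwa [inv_inv] at h1

open Module in
/-- the count for the other quintic part -/
theorem Rel.countN [FiniteDimensional K V] (h : Rel x y t) (h3 : (3 : K) = 0) (g : fixS x y t →ₗ[K] V)
    (hg : ∀ w, g w = 0 → w = 0) (hgp : ∀ w, g w ∈ partN x y) (hgt : ∀ w, t (g w) = g w) :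
    finrank K (fixB x y) ≤ finrank K (partN x y) := by
  have h1 := h.inv.count h3 (g ∘ₗ (LinearEquiv.ofEq _ _ fixS_inv).toLinearMap)
    (fun w hw => by
      have h2 := hg _ hw
      exact (LinearEquiv.map_eq_zero_iff _).1 h2)
    (fun w => by rw [partQ_inv h.x11]; exact hgp _) (fun w => hgt _)
  rwa [partQ_inv h.x11, fixB_inv] at h1

end

end Cfsg.Agent.H791.E8L
end

-- part: H788/E83/Mat
section
prune_inst 0x350041006522020808002596330020646400019200234001d9a00f440b4ff32209422f007ab03f1080aaaa9068080040001001d0025000000e008c0000010120848b5206a37ca90427001fc09084000000000000000000000000000000041004000000000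
set_option linter.all false
open scoped Cfsg.Agent.FastGrp

/-!
# The matrices of `M₁₁ < SL₅(3)` (ternary Golay code) and their words in transvections (helper788, S5925, box J)

* `Ax Ay At Afa Afb As : SL₅(3)`: `x^11 = y^5 = t^2 = (x t)^3 = 1`, `y x = x^3 y`, `t y t y = 1`; `fa`, `fb` are the two elements `f` with
  `f^2 = t`, `f y = y^2 f` generating with `x, y, t` a group `M₁₁` (`(x fa)^8 = 1`, `(x fb)^11 = 1`); `s` has order 121, `s^11 = x`;
* `wx wy wt wfa wfb ws` : the words, a letter `(i, j, c)` is the transvection `1 + c e_ij`; `ev` : the value of a word;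
* `it` : inverse transpose, `it_ev : it (ev w) = ev (w.map trl)`, `trl (i, j, c) = (j, i, -c)`.
-/

set_option autoImplicit false
set_option maxRecDepth 10000

namespace Cfsg.Agent.H788.E83

open Matrix

/-- letters -/
abbrev Lt : Type := Fin 5 × Fin 5 × ZMod 3

abbrev SL5 : Type := SpecialLinearGroup (Fin 5) (ZMod 3)

abbrev M5 : Type := Matrix (Fin 5) (Fin 5) (ZMod 3)

/-- the matrix with the base 3 digits of `n` -/
def mm (n : ℕ) : M5 := fun i j => (⟨(n / 3 ^ (5 * (i : ℕ) + j)) % 3, Nat.mod_lt _ (by norm_num)⟩ : Fin 3)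

/-- the transvection of a letter -/
def tv (l : Lt) : SL5 := if h : l.1 ≠ l.2.1 then SpecialLinearGroup.transvection h l.2.2 else 1

/-- the value of a word -/
def ev (w : List Lt) : SL5 := (w.map tv).prod

@[simp] theorem ev_nil : ev [] = 1 := rfl

theorem ev_cons (l : Lt) (w : List Lt) : ev (l :: w) = tv l * ev w := by
  unfold ev; rw [List.map_cons, List.prod_cons]

theorem ev_append (w w' : List Lt) : ev (w ++ w') = ev w * ev w' := by
  unfold ev; rw [List.map_append, List.prod_append]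

theorem tv_val {l : Lt} (h : l.1 ≠ l.2.1) : (tv l).1 = Matrix.transvection l.1 l.2.1 l.2.2 := by
  unfold tv; rw [dif_pos h]; rfl

theorem step {l : Lt} {w : List Lt} {a b : M5} (h : l.1 ≠ l.2.1) (h1 : (ev w).1 = a)
    (h2 : Matrix.transvection l.1 l.2.1 l.2.2 * a = b) : (ev (l :: w)).1 = b := by
  rw [ev_cons]
  show (tv l).1 * (ev w).1 = b
  rw [tv_val h, h1, h2]

/-- transposed letter -/
def trl (l : Lt) : Lt := (l.2.1, l.1, -l.2.2)

/-- inverse transpose -/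
def it (K : Type*) [Field K] : SpecialLinearGroup (Fin 5) K →* SpecialLinearGroup (Fin 5) K where
  toFun A := (A⁻¹).transpose
  map_one' := by
    apply Subtype.ext
    rw [inv_one]
    show (1 : Matrix (Fin 5) (Fin 5) K)ᵀ = 1
    exact Matrix.transpose_one
  map_mul' A B := by
    apply Subtype.ext
    rw [_root_.mul_inv_rev]
    show ((B⁻¹ : SpecialLinearGroup (Fin 5) K).1 * (A⁻¹ : SpecialLinearGroup (Fin 5) K).1)ᵀ =
      (A⁻¹ : SpecialLinearGroup (Fin 5) K).1ᵀ * (B⁻¹ : SpecialLinearGroup (Fin 5) K).1ᵀ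
    rw [Matrix.transpose_mul]

theorem it_transvection {K : Type*} [Field K] {i j : Fin 5} (h : i ≠ j) (c : K) :
    it K (SpecialLinearGroup.transvection h c) = SpecialLinearGroup.transvection h.symm (-c) := by
  have h1 : (SpecialLinearGroup.transvection h c)⁻¹ = SpecialLinearGroup.transvection h (-c) := by
    rw [inv_eq_iff_mul_eq_one]
    apply Subtype.ext
    show Matrix.transvection i j c * Matrix.transvection i j (-c) = 1
    rw [Matrix.transvection_mul_transvection_same _ _ h, add_neg_cancel, Matrix.transvection_zero]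
  apply Subtype.ext
  show ((SpecialLinearGroup.transvection h c)⁻¹ : SpecialLinearGroup (Fin 5) K).1ᵀ = Matrix.transvection j i (-c)
  rw [h1]
  show (Matrix.transvection i j (-c))ᵀ = _
  unfold Matrix.transvection
  rw [Matrix.transpose_add, Matrix.transpose_one, Matrix.transpose_single]

theorem it_tv (l : Lt) : it (ZMod 3) (tv l) = tv (trl l) := by
  unfold tv
  by_cases h : l.1 ≠ l.2.1
  · have h' : (trl l).1 ≠ (trl l).2.1 := fun h1 => h h1.symm
    rw [dif_pos h, dif_pos h', it_transvection]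
    rfl
  · have h' : ¬ (trl l).1 ≠ (trl l).2.1 := fun h1 => h fun h2 => h1 h2.symm
    rw [dif_neg h, dif_neg h', map_one]

theorem it_ev (w : List Lt) : it (ZMod 3) (ev w) = ev (w.map trl) := by
  induction w with
  | nil => rw [ev_nil, map_one, List.map_nil, ev_nil]
  | cons l w ih => rw [ev_cons, map_mul, it_tv, ih, List.map_cons, ev_cons]

/-- the word of `x` -/
def wx : List Lt := [(2, 3, 2), (4, 0, 1), (3, 4, 1), (4, 1, 2), (1, 2, 1), (0, 3, 1), (2, 0, 1), (0, 2, 1), (0, 4, 2)]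

def Ax : SL5 := ev wx

theorem vx : (Ax).1 = mm 463215476017 := by
  have h0 : (ev []).1 = mm 282817489141 := by
    rw [ev_nil]; show (1 : M5) = _; decide +kernel
  have h1 := step (l := (0, 4, 2)) (b := mm 282817489303) (by decide) h0 (by (set_option synthInstance.maxSize 20000 in open scoped Cfsg.Agent.Lib.MatDec in decide +kernel))
  have h2 := step (l := (0, 2, 1)) (b := mm 282817489312) (by decide) h1 (by (set_option synthInstance.maxSize 20000 in open scoped Cfsg.Agent.Lib.MatDec in decide +kernel))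
  have h3 := step (l := (2, 0, 1)) (b := mm 282827645740) (by decide) h2 (by decide +kernel)
  have h4 := step (l := (0, 3, 1)) (b := mm 282827645767) (by decide) h3 (by (set_option synthInstance.maxSize 20000 in open scoped Cfsg.Agent.Lib.MatDec in decide +kernel))
  have h5 := step (l := (1, 2, 1)) (b := mm 282827689750) (by decide) h4 (by (set_option synthInstance.maxSize 20000 in open scoped Cfsg.Agent.Lib.MatDec in decide +kernel))
  have h6 := step (l := (4, 1, 2)) (b := mm 624532561048) (by decide) h5 (by decide +kernel)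
  have h7 := step (l := (3, 4, 1)) (b := mm 627101015401) (by decide) h6 (by (set_option synthInstance.maxSize 20000 in open scoped Cfsg.Agent.Lib.MatDec in decide +kernel))
  have h8 := step (l := (4, 0, 1)) (b := mm 463222148554) (by decide) h7 (by decide +kernel)
  have h9 := step (l := (2, 3, 2)) (b := mm 463215476017) (by decide) h8 (by decide +kernel)
  exact h9

/-- the matrix -/
theorem Ax_eq : (Ax).1 = !![1, 0, 1, 1, 2; 1, 1, 2, 0, 2; 2, 1, 1, 2, 0; 2, 2, 1, 1, 2; 0, 2, 2, 1, 1] := by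
  rw [vx]; decide +kernel

/-- the word of `y` -/
def wy : List Lt := [(2, 4, 1), (1, 2, 2), (1, 3, 2), (3, 1, 1), (0, 3, 2), (2, 3, 1), (1, 4, 1), (4, 3, 2)]

def Ay : SL5 := ev wy

theorem vy : (Ay).1 = mm 471926527723 := by
  have h0 : (ev []).1 = mm 282817489141 := by
    rw [ev_nil]; show (1 : M5) = _; decide +kernel
  have h1 := step (l := (4, 3, 2)) (b := mm 471103846795) (by decide) h0 (by decide +kernel)
  have h2 := step (l := (1, 4, 1)) (b := mm 471103879600) (by decide) h1 (by decide +kernel)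
  have h3 := step (l := (2, 3, 1)) (b := mm 471105473923) (by decide) h2 (by decide +kernel)
  have h4 := step (l := (0, 3, 2)) (b := mm 471105473977) (by decide) h3 (by decide +kernel)
  have h5 := step (l := (3, 1, 1)) (b := mm 471923361676) (by decide) h4 (by (set_option synthInstance.maxSize 20000 in open scoped Cfsg.Agent.Lib.MatDec in decide +kernel))
  have h6 := step (l := (1, 3, 2)) (b := mm 471923341264) (by decide) h5 (by (set_option synthInstance.maxSize 20000 in open scoped Cfsg.Agent.Lib.MatDec in decide +kernel))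
  have h7 := step (l := (1, 2, 2)) (b := mm 471923339077) (by decide) h6 (by (set_option synthInstance.maxSize 20000 in open scoped Cfsg.Agent.Lib.MatDec in decide +kernel))
  have h8 := step (l := (2, 4, 1)) (b := mm 471926527723) (by decide) h7 (by decide +kernel)
  exact h8

/-- the matrix -/
theorem Ay_eq : (Ay).1 = !![1, 0, 0, 2, 0; 0, 0, 2, 1, 0; 0, 0, 1, 0, 1; 0, 1, 0, 0, 1; 0, 0, 0, 2, 1] := by
  rw [vy]; decide +kernel

/-- the word of `t` -/
def wt : List Lt := [(1, 2, 2), (4, 1, 2), (3, 1, 1), (0, 1, 2), (1, 2, 2), (1, 3, 1), (3, 1, 1), (1, 3, 1)]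

def At : SL5 := ev wt

theorem vt : (At).1 = mm 325304605696 := by
  have h0 : (ev []).1 = mm 282817489141 := by
    rw [ev_nil]; show (1 : M5) = _; decide +kernel
  have h1 := step (l := (1, 3, 1)) (b := mm 282817495702) (by decide) h0 (by (set_option synthInstance.maxSize 20000 in open scoped Cfsg.Agent.Lib.MatDec in decide +kernel))
  have h2 := step (l := (3, 1, 1)) (b := mm 283247962912) (by decide) h1 (by decide +kernel)
  have h3 := step (l := (1, 3, 1)) (b := mm 283247957080) (by decide) h2 (by (set_option synthInstance.maxSize 20000 in open scoped Cfsg.Agent.Lib.MatDec in decide +kernel))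
  have h4 := step (l := (1, 2, 2)) (b := mm 283247961454) (by decide) h3 (by (set_option synthInstance.maxSize 20000 in open scoped Cfsg.Agent.Lib.MatDec in decide +kernel))
  have h5 := step (l := (0, 1, 2)) (b := mm 283247961466) (by decide) h4 (by decide +kernel)
  have h6 := step (l := (3, 1, 1)) (b := mm 283463195071) (by decide) h5 (by decide +kernel)
  have h7 := step (l := (4, 1, 2)) (b := mm 325304607883) (by decide) h6 (by decide +kernel)
  have h8 := step (l := (1, 2, 2)) (b := mm 325304605696) (by decide) h7 (by decide +kernel)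
  exact h8

/-- the matrix -/
theorem At_eq : (At).1 = !![1, 1, 1, 0, 0; 0, 2, 1, 0, 0; 0, 0, 1, 0, 0; 0, 0, 2, 2, 0; 0, 1, 1, 0, 1] := by
  rw [vt]; decide +kernel

/-- the word of `fa` -/
def wfa : List Lt := [(0, 4, 2), (4, 0, 2), (1, 2, 2), (0, 4, 2), (0, 3, 1), (3, 1, 1), (1, 3, 1), (4, 0, 2)]

def Afa : SL5 := ev wfa

/-- the word of `fb` -/
def wfb : List Lt := [(2, 0, 1), (3, 2, 2), (4, 3, 1), (0, 4, 2), (4, 0, 2), (1, 4, 2), (2, 3, 1), (0, 1, 1), (3, 0, 1), (4, 3, 1), (2, 4, 2)]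

def Afb : SL5 := ev wfb

/-- the word of `s` -/
def ws : List Lt := [(3, 4, 1), (2, 3, 1), (1, 2, 1), (0, 1, 1), (3, 0, 1), (4, 0, 2), (1, 0, 1), (2, 0, 2)]

def As : SL5 := ev ws

theorem vs : (As).1 = mm 290954915924 := by
  have h0 : (ev []).1 = mm 282817489141 := by
    rw [ev_nil]; show (1 : M5) = _; decide +kernel
  have h1 := step (l := (2, 0, 2)) (b := mm 282817607239) (by decide) h0 (by decide +kernel)
  have h2 := step (l := (1, 0, 1)) (b := mm 282817607482) (by decide) h1 (by (set_option synthInstance.maxSize 20000 in open scoped Cfsg.Agent.Lib.MatDec in decide +kernel))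
  have h3 := step (l := (4, 0, 2)) (b := mm 289791176284) (by decide) h2 (by (set_option synthInstance.maxSize 20000 in open scoped Cfsg.Agent.Lib.MatDec in decide +kernel))
  have h4 := step (l := (3, 0, 1)) (b := mm 289805525191) (by decide) h3 (by decide +kernel)
  have h5 := step (l := (0, 1, 1)) (b := mm 289805525195) (by decide) h4 (by decide +kernel)
  have h6 := step (l := (1, 2, 1)) (b := mm 289805527139) (by decide) h5 (by decide +kernel)
  have h7 := step (l := (2, 3, 1)) (b := mm 289807003364) (by decide) h6 (by decide +kernel)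
  have h8 := step (l := (3, 4, 1)) (b := mm 290954915924) (by decide) h7 (by (set_option synthInstance.maxSize 20000 in open scoped Cfsg.Agent.Lib.MatDec in decide +kernel))
  exact h8

theorem mk {A B : SL5} {a b c : ℕ} (hA : A.1 = mm a) (hB : B.1 = mm b) (h : mm a * mm b = mm c) : (A * B).1 = mm c := by
  show A.1 * B.1 = mm c
  rw [hA, hB, h]

theorem mm_inj {A B : SL5} {a : ℕ} (hA : A.1 = mm a) (hB : B.1 = mm a) : A = B := Subtype.ext (hA.trans hB.symm)

theorem v1 : (1 : SL5).1 = mm 282817489141 := by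
  show (1 : M5) = _; decide +kernel

theorem vx2 : (Ax * Ax).1 = mm 310745251706 := mk vx vx (by decide +kernel)

theorem vx3 : (Ax * Ax * Ax).1 = mm 76814626535 := mk vx2 vx (by decide +kernel)

theorem vx5 : (Ax * Ax * Ax * (Ax * Ax)).1 = mm 687835257069 := mk vx3 vx2 (by decide +kernel)

theorem vx10 : (Ax * Ax * Ax * (Ax * Ax) * (Ax * Ax * Ax * (Ax * Ax))).1 = mm 302603055089 := mk vx5 vx5 (by (set_option synthInstance.maxSize 20000 in open scoped Cfsg.Agent.Lib.MatDec in decide +kernel))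

theorem vx11 : (Ax * Ax * Ax * (Ax * Ax) * (Ax * Ax * Ax * (Ax * Ax)) * Ax).1 = mm 282817489141 := mk vx10 vx (by decide +kernel)

theorem x_pow : Ax ^ 11 = 1 := by
  have h := mm_inj vx11 v1
  calc Ax ^ 11 = Ax * Ax * Ax * (Ax * Ax) * (Ax * Ax * Ax * (Ax * Ax)) * Ax := by
        simp only [pow_succ, pow_zero, one_mul, mul_assoc]
    _ = 1 := h

theorem x_ne : Ax ≠ 1 := by
  intro h
  have h1 := vx.symm.trans ((congrArg Subtype.val h).trans v1)
  exact absurd h1 (by decide +kernel)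

theorem vy2 : (Ay * Ay).1 = mm 210640897204 := mk vy vy (by decide +kernel)

theorem vy4 : (Ay * Ay * (Ay * Ay)).1 = mm 650054586085 := mk vy2 vy2 (by decide +kernel)

theorem vy5 : (Ay * Ay * (Ay * Ay) * Ay).1 = mm 282817489141 := mk vy4 vy (by decide +kernel)

theorem y_pow : Ay ^ 5 = 1 := by
  have h := mm_inj vy5 v1
  calc Ay ^ 5 = Ay * Ay * (Ay * Ay) * Ay := by simp only [pow_succ, pow_zero, one_mul, mul_assoc]
    _ = 1 := h

theorem vyx : (Ay * Ax).1 = mm 600262780820 := mk vy vx (by decide +kernel)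

theorem vx3y : (Ax * Ax * Ax * Ay).1 = mm 600262780820 := mk vx3 vy (by decide +kernel)

theorem y_x : Ay * Ax = Ax ^ 3 * Ay := by
  have h := mm_inj vyx vx3y
  rw [h]; simp only [pow_succ, pow_zero, one_mul]

theorem y_x' : Ay * Ax * Ay⁻¹ = Ax ^ 3 := by rw [y_x, mul_inv_cancel_right]

theorem vt2 : (At * At).1 = mm 282817489141 := mk vt vt (by decide +kernel)

theorem vty : (At * Ay).1 = mm 566371059868 := mk vt vy (by decide +kernel)

theorem vtyt : (At * Ay * At).1 = mm 650054586085 := mk vty vt (by decide +kernel)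

theorem vtyty : (At * Ay * At * Ay).1 = mm 282817489141 := mk vtyt vy (by decide +kernel)

theorem t_sq : At * At = 1 := mm_inj vt2 v1

theorem t_y : At * Ay * At * Ay = 1 := mm_inj vtyty v1

theorem t_y' : At * Ay * At = Ay⁻¹ := eq_inv_of_mul_eq_one_left t_y

theorem vxt : (Ax * At).1 = mm 526234809052 := mk vx vt (by decide +kernel)

theorem vxt2 : (Ax * At * (Ax * At)).1 = mm 124662286547 := mk vxt vxt (by decide +kernel)

theorem vxt3 : (Ax * At * (Ax * At) * (Ax * At)).1 = mm 282817489141 := mk vxt2 vxt (by decide +kernel)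

theorem x_t : (Ax * At) ^ 3 = 1 := by
  have h := mm_inj vxt3 v1
  calc (Ax * At) ^ 3 = Ax * At * (Ax * At) * (Ax * At) := by simp only [pow_succ, pow_zero, one_mul]
    _ = 1 := h

theorem vs2 : (As * As).1 = mm 306099398854 := mk vs vs (by decide +kernel)

theorem vs3 : (As * As * As).1 = mm 373588812644 := mk vs2 vs (by decide +kernel)

theorem vs5 : (As * As * As * (As * As)).1 = mm 82629126886 := mk vs3 vs2 (by decide +kernel)

theorem vs10 : (As * As * As * (As * As) * (As * As * As * (As * As))).1 = mm 117554425938 := mk vs5 vs5 (by decide +kernel)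

theorem vs11 : (As * As * As * (As * As) * (As * As * As * (As * As)) * As).1 = mm 463215476017 := mk vs10 vs (by decide +kernel)

theorem s_pow : As ^ 11 = Ax := by
  have h := mm_inj vs11 vx
  calc As ^ 11 = As * As * As * (As * As) * (As * As * As * (As * As)) * As := by
        simp only [pow_succ, pow_zero, one_mul, mul_assoc]
    _ = Ax := h

theorem s_pow' : As ^ 121 = 1 := by
  rw [show 121 = 11 * 11 by norm_num, pow_mul, s_pow, x_pow]

theorem order_s : orderOf As = 121 := by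
  have h : Fact (Nat.Prime 11) := ⟨by norm_num⟩
  have h1 := orderOf_eq_prime_pow (p := 11) (n := 1) (x := As) (by rw [pow_one, s_pow]; exact x_ne) s_pow'
  exact h1

end Cfsg.Agent.H788.E83
end

-- part: H908/E8L/BConj
section
set_option linter.all false
open scoped Cfsg.Agent.FastGrp

/-- Laplace expansion which skips zero entries -/
private noncomputable def detL_e372d {R : Type*} [CommRing R] [DecidableEq R] (n : ℕ) : Matrix (Fin n) (Fin n) R → R :=
  @Nat.rec (fun n => Matrix (Fin n) (Fin n) R → R) (fun _ => 1) (fun n ih M =>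
    ∑ j : Fin (n + 1), if M 0 j = 0 then 0 else (-1) ^ (j : ℕ) * M 0 j * ih (M.submatrix Fin.succ j.succAbove)) n

private theorem detL_eq_e372d {R : Type*} [CommRing R] [DecidableEq R] {n : ℕ} (M : Matrix (Fin n) (Fin n) R) :
    M.det = detL_e372d n M := by
  induction n with
  | zero => exact Matrix.det_fin_zero
  | succ n ih =>
    rw [Matrix.det_succ_row_zero]
    refine Finset.sum_congr rfl fun j _ => ?_
    by_cases h : M 0 j = 0
    · rw [if_pos h, h, mul_zero, zero_mul]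
    · rw [if_neg h, ih]
      rfl


/-!
# Frobenius subgroups `11:5` of `E₈(3)` (S5925, box C)

`five_conj`: an element `e ≠ 1` of `SL₅(3)` with `e ^ 5 = 1` is conjugate to any other such element.
`bconj_abs`: two commuting homomorphisms `φ₁, φ₂ : SL₅(3) →* G`, the centraliser of `φ₂ Mo` is `φ₁(SL₅(3)) × ⟨φ₂ Sg⟩`;
then every pair `(x, y)` with `x ^ 11 = y ^ 5 = 1`, `y x y⁻¹ = x ^ 3` is conjugate to `(φ₂ Mo, φ₂ Fr)` or to
`(φ₂ Mo, φ₂ Fr φ₁ Fr)`.
-/

set_option autoImplicit false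

namespace Cfsg.Agent.H908.E8L

open Matrix

/-! ### Elements of order five of `SL₅(3)` -/

theorem inv81 : ∀ a b c d : ZMod 3, ¬ (a = 0 ∧ b = 0 ∧ c = 0 ∧ d = 0) → ∃ a' b' c' d' : ZMod 3,
    a' * a - b' * d + c' * (d - c) + d' * (c - b) = 1 ∧ a' * b + b' * (a - d) - c' * c + d' * (d - b) = 0 ∧
    a' * c + b' * (b - d) + c' * (a - c) - d' * b = 0 ∧ a' * d + b' * (c - d) + c' * (b - c) + d' * (a - b) = 0 := by
  (refine of_decide_eq_true ?_; (try (rewrite [Cfsg.Agent.LsF.zadd_pat, Cfsg.Agent.LsF.zmul_pat, Cfsg.Agent.LsF.zsub_pat, Cfsg.Agent.LsF.zdecEq_eq, Cfsg.Agent.LsF.zFintype_eq, Cfsg.Agent.LsF.dForall_eq, Cfsg.Agent.LsF.dExists_eq, Cfsg.Agent.LsF.dAnd_eq, Cfsg.Agent.LsF.dNot_eq, Cfsg.Agent.LsF.dAllP_eq, Cfsg.Agent.LsF.decide_eq])); decide +kernel)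

section lin

variable {V : Type*} [AddCommGroup V] [Module (ZMod 3) V]

theorem indep (f : V →ₗ[ZMod 3] V) {u : V} (hu : u ≠ 0)
    (h : f (f (f (f u))) = -(u + f u + f (f u) + f (f (f u)))) {a b c d : ZMod 3}
    (H : a • u + b • f u + c • f (f u) + d • f (f (f u)) = 0) : a = 0 ∧ b = 0 ∧ c = 0 ∧ d = 0 := by
  by_contra hcon
  obtain ⟨a', b', c', d', e0, e1, e2, e3⟩ := inv81 a b c d hcon
  have H1 : (-d) • u + (a - d) • f u + (b - d) • f (f u) + (c - d) • f (f (f u)) = 0 := by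
    have := congrArg f H
    rw [map_add, map_add, map_add, map_smul, map_smul, map_smul, map_smul, h, map_zero] at this
    rw [← this]; module
  have H2 : (d - c) • u + (-c) • f u + (a - c) • f (f u) + (b - c) • f (f (f u)) = 0 := by
    have := congrArg f H1
    rw [map_add, map_add, map_add, map_smul, map_smul, map_smul, map_smul, h, map_zero] at this
    rw [← this]; module
  have H3 : (c - b) • u + (d - b) • f u + (-b) • f (f u) + (a - b) • f (f (f u)) = 0 := by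
    have := congrArg f H2
    rw [map_add, map_add, map_add, map_smul, map_smul, map_smul, map_smul, h, map_zero] at this
    rw [← this]; module
  apply hu
  have key : (a' * a - b' * d + c' * (d - c) + d' * (c - b)) • u + (a' * b + b' * (a - d) - c' * c + d' * (d - b)) • f u +
      (a' * c + b' * (b - d) + c' * (a - c) - d' * b) • f (f u) +
      (a' * d + b' * (c - d) + c' * (b - c) + d' * (a - b)) • f (f (f u)) =
      a' • (a • u + b • f u + c • f (f u) + d • f (f (f u))) +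
      b' • ((-d) • u + (a - d) • f u + (b - d) • f (f u) + (c - d) • f (f (f u))) +
      c' • ((d - c) • u + (-c) • f u + (a - c) • f (f u) + (b - c) • f (f (f u))) +
      d' • ((c - b) • u + (d - b) • f u + (-b) • f (f u) + (a - b) • f (f (f u))) := by module
  rw [e0, e1, e2, e3, H, H1, H2, H3] at key
  simpa using key

theorem five_ne : (5 : ZMod 3) = -1 := by decide

theorem indep5 (f : V →ₗ[ZMod 3] V) {v₀ u : V} (hv : v₀ ≠ 0) (hu : u ≠ 0)
    (hv₀ : f v₀ = v₀) (h : f (f (f (f u))) = -(u + f u + f (f u) + f (f (f u)))) {a b c d e : ZMod 3}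
    (H : a • (v₀ + u) + b • f (v₀ + u) + c • f (f (v₀ + u)) + d • f (f (f (v₀ + u))) +
      e • f (f (f (f (v₀ + u)))) = 0) : a = 0 ∧ b = 0 ∧ c = 0 ∧ d = 0 ∧ e = 0 := by
  simp only [map_add, hv₀] at H
  rw [h] at H
  -- the two components
  have H' : (a + b + c + d + e) • v₀ + ((a - e) • u + (b - e) • f u + (c - e) • f (f u) + (d - e) • f (f (f u))) = 0 := by
    rw [← H]; module
  -- apply the norm
  have hN : ∀ w : V, f (f (f (f w))) = -(w + f w + f (f w) + f (f (f w))) →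
      w + f w + f (f w) + f (f (f w)) + f (f (f (f w))) = 0 := by
    intro w hw; rw [hw]; abel
  set w := (a - e) • u + (b - e) • f u + (c - e) • f (f u) + (d - e) • f (f (f u)) with hw
  have hw4 : f (f (f (f w))) = -(w + f w + f (f w) + f (f (f w))) := by
    rw [hw]
    simp only [map_add, map_smul, h, map_neg]
    module
  have hs : a + b + c + d + e = 0 := by
    by_contra hs
    have h1 : w = -((a + b + c + d + e) • v₀) := by
      rw [eq_neg_iff_add_eq_zero, add_comm]; exact H'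
    have h2 : f w = w := by
      rw [h1, map_neg, map_smul, hv₀]
    have h3 := hN w hw4
    rw [h2, h2, h2, h2] at h3
    have h4 : (5 : ZMod 3) • w = 0 := by
      rw [← h3]; module
    rw [five_ne, neg_smul, one_smul, neg_eq_zero] at h4
    rw [h1, neg_eq_zero, smul_eq_zero] at h4
    rcases h4 with h4 | h4
    · exact hs h4
    · exact hv h4
  rw [hs, zero_smul, zero_add] at H'
  obtain ⟨h1, h2, h3, h4⟩ := indep f hu h H'
  have he : e = 0 := by
    have e1 : a = e := sub_eq_zero.1 h1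
    have e2 : b = e := sub_eq_zero.1 h2
    have e3 : c = e := sub_eq_zero.1 h3
    have e4 : d = e := sub_eq_zero.1 h4
    rw [e1, e2, e3, e4] at hs
    have h5 : (5 : ZMod 3) * e = 0 := by rw [← hs]; ring
    rw [five_ne, neg_mul, one_mul, neg_eq_zero] at h5
    exact h5
  rw [he, sub_zero] at h1 h2 h3 h4
  exact ⟨h1, h2, h3, h4, he⟩

end lin

/-- the cyclic permutation matrix -/
def cyc : Matrix (Fin 5) (Fin 5) (ZMod 3) := Matrix.of fun k j => if k = j + 1 then 1 else 0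

theorem pow9 : ∀ D : ZMod 3, D ^ 9 = -D → D = 0 := by decide

theorem det_sub_one {e : Matrix (Fin 5) (Fin 5) (ZMod 3)} (hd : e.det = 1) (h5 : e ^ 5 = 1) : (e - 1).det = 0 := by
  apply pow9
  have h3 : (3 : Matrix (Fin 5) (Fin 5) (ZMod 3)) = 0 := by
    have : (3 : Matrix (Fin 5) (Fin 5) (ZMod 3)) = ((3 : ℕ) : Matrix (Fin 5) (Fin 5) (ZMod 3)) := by norm_num
    rw [this]
    have h : ((3 : ℕ) : ZMod 3) = 0 := by decide
    ext i j
    rw [Matrix.natCast_apply]
    split_ifs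
    · exact h
    · rfl
  have hcube : ∀ g : Matrix (Fin 5) (Fin 5) (ZMod 3), (g - 1) ^ 3 = g ^ 3 - 1 := by
    intro g
    have : (g - 1) ^ 3 = g ^ 3 - 1 - 3 * (g ^ 2 - g) := by noncomm_ring
    rw [this, h3, zero_mul, sub_zero]
  have h9 : (e - 1) ^ 9 = -(e ^ 4 * (e - 1)) := by
    have e1 : (e - 1) ^ 9 = ((e - 1) ^ 3) ^ 3 := by rw [← pow_mul]
    rw [e1, hcube, hcube, ← pow_mul, show 3 * 3 = 5 + 4 by norm_num, pow_add, h5, one_mul, mul_sub, mul_one, ← pow_succ,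
      h5, neg_sub]
  have h := congrArg Matrix.det h9
  rw [Matrix.det_pow, Matrix.det_neg, Matrix.det_mul, Matrix.det_pow, hd, one_pow, one_mul, Fintype.card_fin] at h
  rw [h]; ring

theorem exists_cyc {e : Matrix (Fin 5) (Fin 5) (ZMod 3)} (hd : e.det = 1) (h5 : e ^ 5 = 1) (hne : e ≠ 1) :
    ∃ P : Matrix (Fin 5) (Fin 5) (ZMod 3), P.det ≠ 0 ∧ e * P = P * cyc := by
  obtain ⟨v₀, hv, hv₀⟩ := (Matrix.exists_mulVec_eq_zero_iff (M := e - 1)).2 (det_sub_one hd h5)
  rw [Matrix.sub_mulVec, Matrix.one_mulVec, sub_eq_zero] at hv₀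
  obtain ⟨w, hw⟩ : ∃ w : Fin 5 → ZMod 3, e *ᵥ w ≠ w := by
    by_contra hcon
    push Not at hcon
    apply hne
    apply Matrix.ext_of_mulVec_single
    intro i
    rw [hcon, Matrix.one_mulVec]
  set f : (Fin 5 → ZMod 3) →ₗ[ZMod 3] (Fin 5 → ZMod 3) := e.mulVecLin with hf
  have hfa : ∀ z, f z = e *ᵥ z := fun z => rfl
  have hf5 : ∀ z, f (f (f (f (f z)))) = z := by
    intro z
    have : f (f (f (f (f z)))) = (e ^ 5) *ᵥ z := by
      simp only [hfa, Matrix.mulVec_mulVec, pow_succ, pow_zero, one_mul, Matrix.mul_assoc]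
    rw [this, h5, Matrix.one_mulVec]
  set u := f w - w with hu
  have hu0 : u ≠ 0 := by rw [hu, sub_ne_zero]; exact hw
  have hu4 : f (f (f (f u))) = -(u + f u + f (f u) + f (f (f u))) := by
    rw [hu]
    simp only [map_sub, hf5]
    abel
  set v := v₀ + u with hvd
  set c : Fin 5 → (Fin 5 → ZMod 3) := ![v, f v, f (f v), f (f (f v)), f (f (f (f v)))] with hc
  refine ⟨Matrix.of fun i j => c j i, ?_, ?_⟩
  · intro hdet
    obtain ⟨k, hk, hk0⟩ := (Matrix.exists_mulVec_eq_zero_iff).2 hdet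
    apply hk
    have H : k 0 • v + k 1 • f v + k 2 • f (f v) + k 3 • f (f (f v)) + k 4 • f (f (f (f v))) = 0 := by
      rw [← hk0]
      ext i
      simp only [Matrix.mulVec, dotProduct, Matrix.of_apply, Fin.sum_univ_five, Pi.add_apply, Pi.smul_apply, smul_eq_mul, hc]
      simp only [Matrix.cons_val_zero, Matrix.cons_val_one, Matrix.cons_val]
      ring
    obtain ⟨h0, h1, h2, h3, h4⟩ := indep5 f hv hu0 hv₀ hu4 H
    ext i
    fin_cases i
    · exact h0
    · exact h1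
    · exact h2
    · exact h3
    · exact h4
  · have hcol : ∀ j, e *ᵥ (c j) = c (j + 1) := by
      intro j
      fin_cases j
      · rfl
      · rfl
      · rfl
      · rfl
      · exact hf5 v
    ext i j
    have h1 : (e * Matrix.of fun i j => c j i) i j = (e *ᵥ (c j)) i := rfl
    rw [h1, hcol, Matrix.mul_apply]
    simp only [cyc, Matrix.of_apply, mul_ite, mul_one, mul_zero, Finset.sum_ite_eq', Finset.mem_univ, if_true]

/-- Two elements of order five of `SL₅(3)` are conjugate in `SL₅(3)`. -/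
theorem five_conj {e e' : Matrix.SpecialLinearGroup (Fin 5) (ZMod 3)} (h5 : e ^ 5 = 1) (hne : e ≠ 1) (h5' : e' ^ 5 = 1)
    (hne' : e' ≠ 1) : ∃ d : Matrix.SpecialLinearGroup (Fin 5) (ZMod 3), d * e * d⁻¹ = e' := by
  have cast5 : ∀ g : Matrix.SpecialLinearGroup (Fin 5) (ZMod 3), g ^ 5 = 1 → (g : Matrix (Fin 5) (Fin 5) (ZMod 3)) ^ 5 = 1 := by
    intro g hg
    have h := Matrix.SpecialLinearGroup.coe_pow g 5
    rw [hg, Matrix.SpecialLinearGroup.coe_one] at h
    exact h.symm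
  have castne : ∀ g : Matrix.SpecialLinearGroup (Fin 5) (ZMod 3), g ≠ 1 → (g : Matrix (Fin 5) (Fin 5) (ZMod 3)) ≠ 1 := by
    intro g hg h
    exact hg (Subtype.ext h)
  obtain ⟨P, hP, hP1⟩ := exists_cyc e.2 (cast5 e h5) (castne e hne)
  obtain ⟨Q, hQ, hQ1⟩ := exists_cyc e'.2 (cast5 e' h5') (castne e' hne')
  have hPu : IsUnit P.det := isUnit_iff_ne_zero.2 hP
  have hPi : P * P⁻¹ = 1 := Matrix.mul_nonsing_inv P hPu
  have hiP : P⁻¹ * P = 1 := Matrix.nonsing_inv_mul P hPu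
  set D := Q * P⁻¹ with hD
  have hDe : D * (e : Matrix (Fin 5) (Fin 5) (ZMod 3)) = (e' : Matrix (Fin 5) (Fin 5) (ZMod 3)) * D := by
    have h1 : P⁻¹ * (e : Matrix (Fin 5) (Fin 5) (ZMod 3)) = cyc * P⁻¹ := by
      have h2 : P⁻¹ * ((e : Matrix (Fin 5) (Fin 5) (ZMod 3)) * P) * P⁻¹ = P⁻¹ * (P * cyc) * P⁻¹ := by rw [hP1]
      rw [← Matrix.mul_assoc, ← Matrix.mul_assoc, hiP, Matrix.one_mul, Matrix.mul_assoc _ P, hPi, Matrix.mul_one] at h2
      exact h2
    rw [hD, Matrix.mul_assoc, h1, ← Matrix.mul_assoc, ← hQ1, Matrix.mul_assoc]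
  have hDd : D.det ≠ 0 := by
    rw [hD, Matrix.det_mul]
    refine mul_ne_zero hQ ?_
    intro h0
    have := congrArg Matrix.det hPi
    rw [Matrix.det_mul, h0, mul_zero, Matrix.det_one] at this
    exact zero_ne_one this
  obtain ⟨s, hs⟩ : ∃ s : ZMod 3, (s • D).det = 1 := by
    have : ∀ x : ZMod 3, x ≠ 0 → ∃ s : ZMod 3, s ^ 5 * x = 1 := by decide
    obtain ⟨s, hs⟩ := this _ hDd
    refine ⟨s, ?_⟩
    rw [Matrix.det_smul, Fintype.card_fin]
    exact hs
  obtain ⟨X, hX⟩ : ∃ X : Matrix.SpecialLinearGroup (Fin 5) (ZMod 3), (X : Matrix (Fin 5) (Fin 5) (ZMod 3)) = s • D :=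
    ⟨⟨s • D, hs⟩, rfl⟩
  have hXe : X * e = e' * X := by
    apply Subtype.ext
    show (X : Matrix (Fin 5) (Fin 5) (ZMod 3)) * (e : Matrix (Fin 5) (Fin 5) (ZMod 3)) =
      (e' : Matrix (Fin 5) (Fin 5) (ZMod 3)) * (X : Matrix (Fin 5) (Fin 5) (ZMod 3))
    rw [hX, Matrix.smul_mul, hDe, Matrix.mul_smul]
  exact ⟨X, by rw [hXe, mul_assoc, mul_inv_cancel, mul_one]⟩

/-! ### The abstract statement -/

section group

variable {G L : Type*} [Group G] [Group L]

theorem pow_conj {Fr Sg : L} (h2 : Fr * Sg * Fr⁻¹ = Sg ^ 3) (n : ℕ) : Fr * Sg ^ n = Sg ^ (3 * n) * Fr := by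
  rw [pow_mul, ← h2, conj_pow]
  group

theorem conj_sg {Fr Sg : L} (h2 : Fr * Sg * Fr⁻¹ = Sg ^ 3) (h4 : Sg ^ 121 = 1) (i : ℕ) :
    Sg ^ (180 * i) * Fr * (Sg ^ (180 * i))⁻¹ = Fr * Sg ^ i := by
  rw [mul_inv_eq_iff_eq_mul]
  have h : Sg ^ (180 * i) * Fr = Fr * Sg ^ (60 * i) := by
    rw [pow_conj h2, show 3 * (60 * i) = 180 * i by ring]
  rw [h, mul_assoc, ← pow_add]
  congr 1
  have : i + 180 * i = 60 * i + 121 * i := by ring
  rw [this, pow_add, pow_mul Sg 121 i, h4, one_pow, mul_one]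

/-- **BCONJ, abstract form.** -/
theorem bconj_abs (φ₁ φ₂ : L →* G) (hc : ∀ a b, φ₁ a * φ₂ b = φ₂ b * φ₁ a) (hinj : Function.Injective φ₁)
    {Mo Fr Sg : L} (h1 : Fr * Mo * Fr⁻¹ = Mo ^ 3) (h2 : Fr * Sg * Fr⁻¹ = Sg ^ 3) (h3 : Sg * Mo = Mo * Sg)
    (h4 : Sg ^ 121 = 1) (h5 : Fr ^ 5 = 1)
    (hB : ∀ g : G, g * φ₂ Mo = φ₂ Mo * g → ∃ e : L, ∃ i : ℕ, g = φ₁ e * φ₂ Sg ^ i)
    (hB2 : ∀ x : G, x ^ 11 = 1 → x ≠ 1 → ∃ g : G, g * x * g⁻¹ = φ₂ Mo)
    (hE : ∀ e : L, e ^ 5 = 1 → e = 1 ∨ ∃ d : L, d * e * d⁻¹ = Fr)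
    (x y : G) (hx : x ^ 11 = 1) (hx1 : x ≠ 1) (hy : y ^ 5 = 1) (hxy : y * x * y⁻¹ = x ^ 3) :
    ∃ g : G, g * x * g⁻¹ = φ₂ Mo ∧ (g * y * g⁻¹ = φ₂ Fr ∨ g * y * g⁻¹ = φ₂ Fr * φ₁ Fr) := by
  obtain ⟨g₀, hg₀⟩ := hB2 x hx hx1
  set y' := g₀ * y * g₀⁻¹ with hy'
  have hy'5 : y' ^ 5 = 1 := by
    rw [hy', conj_pow, hy, mul_one, mul_inv_cancel]
  have hy'x : y' * φ₂ Mo * y'⁻¹ = φ₂ Mo ^ 3 := by
    rw [← hg₀, conj_pow, ← hxy, hy']; group
  have hF : φ₂ Fr * φ₂ Mo * (φ₂ Fr)⁻¹ = φ₂ Mo ^ 3 := by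
    rw [← map_mul, ← map_inv, ← map_mul, h1, map_pow]
  obtain ⟨e, i, hei⟩ := hB ((φ₂ Fr)⁻¹ * y') (by
    have e1 : y' * φ₂ Mo = φ₂ Mo ^ 3 * y' := by rw [← hy'x]; group
    have e2 : φ₂ Fr * φ₂ Mo = φ₂ Mo ^ 3 * φ₂ Fr := by rw [← hF]; group
    have e3 : (φ₂ Fr)⁻¹ * φ₂ Mo ^ 3 = φ₂ Mo * (φ₂ Fr)⁻¹ := by
      rw [inv_mul_eq_iff_eq_mul, ← mul_assoc, e2, mul_assoc, mul_inv_cancel, mul_one]
    rw [mul_assoc, e1, ← mul_assoc, e3, mul_assoc])
  have hy'' : y' = φ₁ e * φ₂ (Fr * Sg ^ i) := by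
    have : y' = φ₂ Fr * (φ₁ e * φ₂ Sg ^ i) := by rw [← hei]; group
    rw [this, ← mul_assoc, ← hc, mul_assoc, map_mul, map_pow]
  have hconj := conj_sg h2 h4 i
  have h55 : (Fr * Sg ^ i) ^ 5 = 1 := by
    rw [← hconj, conj_pow, h5, mul_one, mul_inv_cancel]
  have he5 : e ^ 5 = 1 := by
    apply hinj
    have hcom : Commute (φ₁ e) (φ₂ (Fr * Sg ^ i)) := hc _ _
    rw [hy'', hcom.mul_pow, ← map_pow, ← map_pow, h55, map_one, mul_one] at hy'5
    rw [hy'5, map_one]
  set s := φ₂ (Sg ^ (180 * i)) with hs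
  have hsM : s * φ₂ Mo * s⁻¹ = φ₂ Mo := by
    have : Commute Sg Mo := h3
    have h := (this.pow_left (180 * i)).eq
    rw [mul_inv_eq_iff_eq_mul, hs, ← map_mul, h, map_mul]
  have hsM' : s⁻¹ * φ₂ Mo * s = φ₂ Mo := by
    conv_lhs => rw [← hsM]
    group
  have hsy : s⁻¹ * y' * s = φ₁ e * φ₂ Fr := by
    have h6 : φ₂ (Fr * Sg ^ i) = s * φ₂ Fr * s⁻¹ := by
      rw [← hconj, hs, map_mul, map_mul, map_inv]
    have h7 : s⁻¹ * φ₁ e = φ₁ e * s⁻¹ := by
      rw [inv_mul_eq_iff_eq_mul, ← mul_assoc, hs, ← hc, mul_assoc, mul_inv_cancel, mul_one]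
    rw [hy'', h6]
    calc s⁻¹ * (φ₁ e * (s * φ₂ Fr * s⁻¹)) * s = s⁻¹ * φ₁ e * s * φ₂ Fr := by group
      _ = φ₁ e * φ₂ Fr := by rw [h7]; group
  rcases hE e he5 with he | ⟨d, hd⟩
  · refine ⟨s⁻¹ * g₀, ?_, Or.inl ?_⟩
    · have : s⁻¹ * g₀ * x * (s⁻¹ * g₀)⁻¹ = s⁻¹ * (g₀ * x * g₀⁻¹) * s := by group
      rw [this, hg₀, hsM']
    · have : s⁻¹ * g₀ * y * (s⁻¹ * g₀)⁻¹ = s⁻¹ * y' * s := by rw [hy']; group
      rw [this, hsy, he, map_one, one_mul]
  · refine ⟨φ₁ d * (s⁻¹ * g₀), ?_, Or.inr ?_⟩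
    · have : φ₁ d * (s⁻¹ * g₀) * x * (φ₁ d * (s⁻¹ * g₀))⁻¹ = φ₁ d * (s⁻¹ * (g₀ * x * g₀⁻¹) * s) * (φ₁ d)⁻¹ := by group
      rw [this, hg₀, hsM', hc, mul_assoc, mul_inv_cancel, mul_one]
    · have : φ₁ d * (s⁻¹ * g₀) * y * (φ₁ d * (s⁻¹ * g₀))⁻¹ = φ₁ d * (s⁻¹ * y' * s) * (φ₁ d)⁻¹ := by rw [hy']; group
      rw [this, hsy, mul_assoc, mul_assoc (φ₁ e), ← map_inv, ← hc, ← mul_assoc, ← mul_assoc, ← map_mul, ← map_mul, hd, hc]

end group

/-! ### The matrices of `tools/plans/S5925_code/frame.txt` -/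

/-- the element of order 11 -/
def MoM : Matrix (Fin 5) (Fin 5) (ZMod 3) :=
  !![1, 0, 1, 1, 2; 1, 1, 2, 0, 2; 2, 1, 1, 2, 0; 2, 2, 1, 1, 2; 0, 2, 2, 1, 1]

/-- the element of order 5 -/
def FrM : Matrix (Fin 5) (Fin 5) (ZMod 3) :=
  !![1, 0, 0, 2, 0; 0, 0, 2, 1, 0; 0, 0, 1, 0, 1; 0, 1, 0, 0, 1; 0, 0, 0, 2, 1]

/-- the element of order 121 with `Sg ^ 11 = Mo` -/
def SgM : Matrix (Fin 5) (Fin 5) (ZMod 3) :=
  !![0, 0, 0, 2, 0; 0, 0, 0, 1, 2; 1, 0, 0, 0, 1; 0, 1, 0, 0, 0; 0, 0, 1, 0, 0]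

theorem MoM_det : MoM.det = 1 := by
  (simp only [detL_eq_e372d]; decide +kernel)

theorem FrM_det : FrM.det = 1 := by
  (simp only [detL_eq_e372d]; decide +kernel)

theorem SgM_det : SgM.det = 1 := by
  (simp only [detL_eq_e372d]; decide +kernel)

theorem MoM_two : MoM * MoM = !![2, 1, 1, 0, 0; 0, 1, 0, 1, 0; 0, 0, 1, 0, 1; 2, 0, 0, 1, 0; 2, 2, 0, 0, 1] := by decide +kernel
theorem MoM_four : (!![2, 1, 1, 0, 0; 0, 1, 0, 1, 0; 0, 0, 1, 0, 1; 2, 0, 0, 1, 0; 2, 2, 0, 0, 1] : Matrix (Fin 5) (Fin 5) (ZMod 3)) * !![2, 1, 1, 0, 0; 0, 1, 0, 1, 0; 0, 0, 1, 0, 1; 2, 0, 0, 1, 0; 2, 2, 0, 0, 1] = !![1, 0, 0, 1, 1; 2, 1, 0, 2, 0; 2, 2, 1, 0, 2; 0, 2, 2, 1, 0; 0, 0, 2, 2, 1] := by decide +kernel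
theorem MoM_eight : (!![1, 0, 0, 1, 1; 2, 1, 0, 2, 0; 2, 2, 1, 0, 2; 0, 2, 2, 1, 0; 0, 0, 2, 2, 1] : Matrix (Fin 5) (Fin 5) (ZMod 3)) * !![1, 0, 0, 1, 1; 2, 1, 0, 2, 0; 2, 2, 1, 0, 2; 0, 2, 2, 1, 0; 0, 0, 2, 2, 1] = !![1, 2, 1, 1, 2; 1, 2, 1, 0, 2; 2, 1, 2, 1, 0; 2, 2, 1, 2, 1; 1, 2, 2, 1, 2] := by decide +kernel
theorem SgM_two : SgM * SgM = !![0, 2, 0, 0, 0; 0, 1, 2, 0, 0; 0, 0, 1, 2, 0; 0, 0, 0, 1, 2; 1, 0, 0, 0, 1] := by decide +kernel
theorem SgM_four : (!![0, 2, 0, 0, 0; 0, 1, 2, 0, 0; 0, 0, 1, 2, 0; 0, 0, 0, 1, 2; 1, 0, 0, 0, 1] : Matrix (Fin 5) (Fin 5) (ZMod 3)) * !![0, 2, 0, 0, 0; 0, 1, 2, 0, 0; 0, 0, 1, 2, 0; 0, 0, 0, 1, 2; 1, 0, 0, 0, 1] = !![0, 2, 1, 0, 0; 0, 1, 1, 1, 0; 0, 0, 1, 1, 1; 2, 0, 0, 1, 1; 1, 2, 0, 0, 1] := by decide +kernel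
theorem SgM_eight : (!![0, 2, 1, 0, 0; 0, 1, 1, 1, 0; 0, 0, 1, 1, 1; 2, 0, 0, 1, 1; 1, 2, 0, 0, 1] : Matrix (Fin 5) (Fin 5) (ZMod 3)) * !![0, 2, 1, 0, 0; 0, 1, 1, 1, 0; 0, 0, 1, 1, 1; 2, 0, 0, 1, 1; 1, 2, 0, 0, 1] = !![0, 2, 0, 0, 1; 2, 1, 2, 0, 2; 0, 2, 1, 2, 0; 0, 0, 2, 1, 2; 1, 0, 0, 2, 1] := by decide +kernel
theorem FrM_two : FrM * FrM = !![1, 2, 0, 2, 2; 0, 1, 2, 0, 0; 0, 0, 1, 2, 2; 0, 0, 2, 0, 1; 0, 2, 0, 2, 0] := by decide +kernel
theorem FrM_four : (!![1, 2, 0, 2, 2; 0, 1, 2, 0, 0; 0, 0, 1, 2, 2; 0, 0, 2, 0, 1; 0, 2, 0, 2, 0] : Matrix (Fin 5) (Fin 5) (ZMod 3)) * !![1, 2, 0, 2, 2; 0, 1, 2, 0, 0; 0, 0, 1, 2, 2; 0, 0, 2, 0, 1; 0, 2, 0, 2, 0] = !![1, 2, 2, 0, 1; 0, 1, 1, 1, 1; 0, 1, 2, 0, 1; 0, 2, 2, 0, 1; 0, 2, 2, 0, 2] := by decide +kernel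

theorem MoM_pow : MoM ^ 11 = 1 := by
  have : MoM ^ 11 = ((MoM * MoM) * (MoM * MoM)) * ((MoM * MoM) * (MoM * MoM)) * ((MoM * MoM) * MoM) := by noncomm_ring
  rw [this, MoM_two, MoM_four, MoM_eight]
  decide +kernel

theorem SgM_pow : SgM ^ 11 = MoM := by
  have : SgM ^ 11 = ((SgM * SgM) * (SgM * SgM)) * ((SgM * SgM) * (SgM * SgM)) * ((SgM * SgM) * SgM) := by noncomm_ring
  rw [this, SgM_two, SgM_four, SgM_eight]
  decide +kernel

theorem FrM_pow : FrM ^ 5 = 1 := by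
  have : FrM ^ 5 = ((FrM * FrM) * (FrM * FrM)) * FrM := by noncomm_ring
  rw [this, FrM_two, FrM_four]
  decide +kernel

theorem FrM_SgM : FrM * SgM = SgM ^ 3 * FrM := by
  have : SgM ^ 3 * FrM = (SgM * SgM) * (SgM * FrM) := by noncomm_ring
  rw [this, SgM_two]
  decide +kernel

/-- the element of order 11 of `SL₅(3)` -/
def Mo : Matrix.SpecialLinearGroup (Fin 5) (ZMod 3) := ⟨MoM, MoM_det⟩

/-- the element of order 5 of `SL₅(3)` -/
def Fr : Matrix.SpecialLinearGroup (Fin 5) (ZMod 3) := ⟨FrM, FrM_det⟩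

/-- the Singer element of order 121 of `SL₅(3)` -/
def Sg : Matrix.SpecialLinearGroup (Fin 5) (ZMod 3) := ⟨SgM, SgM_det⟩

theorem sg_pow11 : Sg ^ 11 = Mo := by
  apply Subtype.ext
  rw [Matrix.SpecialLinearGroup.coe_pow]
  exact SgM_pow

theorem mo_pow11 : Mo ^ 11 = 1 := by
  apply Subtype.ext
  rw [Matrix.SpecialLinearGroup.coe_pow]
  exact MoM_pow

theorem sg_pow121 : Sg ^ 121 = 1 := by
  rw [show 121 = 11 * 11 by norm_num, pow_mul, sg_pow11, mo_pow11]

theorem fr_pow5 : Fr ^ 5 = 1 := by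
  apply Subtype.ext
  rw [Matrix.SpecialLinearGroup.coe_pow]
  exact FrM_pow

theorem fr_sg : Fr * Sg = Sg ^ 3 * Fr := by
  apply Subtype.ext
  rw [Matrix.SpecialLinearGroup.coe_mul, Matrix.SpecialLinearGroup.coe_mul, Matrix.SpecialLinearGroup.coe_pow]
  exact FrM_SgM

theorem fr_sg' : Fr * Sg * Fr⁻¹ = Sg ^ 3 := by
  rw [fr_sg, mul_assoc, mul_inv_cancel, mul_one]

theorem sg_mo : Sg * Mo = Mo * Sg := by
  rw [← sg_pow11, ← pow_succ, ← pow_succ']

theorem fr_mo' : Fr * Mo * Fr⁻¹ = Mo ^ 3 := by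
  rw [← sg_pow11, ← conj_pow, fr_sg', ← pow_mul, ← pow_mul, mul_comm]

theorem fr_ne : Fr ≠ 1 := by
  intro h
  have h1 := congrArg (fun g : Matrix.SpecialLinearGroup (Fin 5) (ZMod 3) => (g : Matrix (Fin 5) (Fin 5) (ZMod 3)) 0 3) h
  revert h1
  show ¬ FrM 0 3 = (1 : Matrix (Fin 5) (Fin 5) (ZMod 3)) 0 3
  decide

theorem mo_ne : Mo ≠ 1 := by
  intro h
  have h1 := congrArg (fun g : Matrix.SpecialLinearGroup (Fin 5) (ZMod 3) => (g : Matrix (Fin 5) (Fin 5) (ZMod 3)) 0 2) h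
  revert h1
  show ¬ MoM 0 2 = (1 : Matrix (Fin 5) (Fin 5) (ZMod 3)) 0 2
  decide

theorem five_or (e : Matrix.SpecialLinearGroup (Fin 5) (ZMod 3)) (he : e ^ 5 = 1) :
    e = 1 ∨ ∃ d : Matrix.SpecialLinearGroup (Fin 5) (ZMod 3), d * e * d⁻¹ = Fr := by
  by_cases h : e = 1
  · exact Or.inl h
  · exact Or.inr (five_conj he h fr_pow5 fr_ne)

/-- **BCONJ.** -/
theorem bconj {G : Type*} [Group G] (φ₁ φ₂ : Matrix.SpecialLinearGroup (Fin 5) (ZMod 3) →* G)
    (hc : ∀ a b, φ₁ a * φ₂ b = φ₂ b * φ₁ a) (hinj : Function.Injective φ₁)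
    (hB : ∀ g : G, g * φ₂ Mo = φ₂ Mo * g →
      ∃ e : Matrix.SpecialLinearGroup (Fin 5) (ZMod 3), ∃ i : ℕ, g = φ₁ e * φ₂ Sg ^ i)
    (hB2 : ∀ x : G, x ^ 11 = 1 → x ≠ 1 → ∃ g : G, g * x * g⁻¹ = φ₂ Mo)
    (x y : G) (hx : x ^ 11 = 1) (hx1 : x ≠ 1) (hy : y ^ 5 = 1) (hxy : y * x * y⁻¹ = x ^ 3) :
    ∃ g : G, g * x * g⁻¹ = φ₂ Mo ∧ (g * y * g⁻¹ = φ₂ Fr ∨ g * y * g⁻¹ = φ₂ Fr * φ₁ Fr) :=
  bconj_abs φ₁ φ₂ hc hinj fr_mo' fr_sg' sg_mo sg_pow121 fr_pow5 hB hB2 five_or x y hx hx1 hy hxy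

end Cfsg.Agent.H908.E8L

private theorem dce_e372d709c723 : _root_.True := by
  try have : _root_.True := by simp only [_root_.Cfsg.Agent.H908.E8L.cyc.eq_1]
  exact _root_.True.intro
end

-- part: H879/E83/Hecke
section
prune_inst 0x35204100652202080018209433000024640001900003000098a00f44034f322229420e017ab02d00902a08502800004000100190024000000e0004000001012080a850041200ad0416000f802880000000000000000000000000000000041004000000000
set_option linter.all false
open scoped Cfsg.Agent.FastGrp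

/-!
# S5925: Hecke relations of `PSL₂(11) = ⟨x, y, t⟩` over `B = ⟨x, y⟩ = 11:5` in characteristic 3

`A` is a ring with `3 = 0` (the endomorphisms of a module over a field of characteristic 3), `X, Y, T : A` the images
of `x, y, t`: `x ^ 11 = 1`, `y ^ 5 = 1`, `t * t = 1`, `y * x = x ^ 3 * y`, `t * y = y⁻¹ * t`, `t * x * t = x⁻¹ * t * x⁻¹`.
`ey` is the projection on the fixed space of `y`, `ex` the projection on the fixed space of `x`, `pP = ey X ey`,
`pM = ey X⁻¹ ey` are commuting idempotents with product `p0 = ex ey`, `ey = pP + pM - p0`.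
-/

set_option autoImplicit false

namespace Cfsg.Agent.H879.E83

variable {A : Type*} [Ring A]

structure Rel (X Y T : A) : Prop where
  x11 : X ^ 11 = 1
  y5 : Y ^ 5 = 1
  tt : T * T = 1
  yx : Y * X = X ^ 3 * Y
  ty : T * Y = Y ^ 4 * T
  txt : T * X * T = X ^ 10 * T * X ^ 10
  three : (3 : A) = 0

def sY (Y : A) : A := 1 + Y + Y ^ 2 + Y ^ 3 + Y ^ 4
def sX (X : A) : A := 1 + X + X ^ 2 + X ^ 3 + X ^ 4 + X ^ 5 + X ^ 6 + X ^ 7 + X ^ 8 + X ^ 9 + X ^ 10
def xR (X : A) : A := X + X ^ 3 + X ^ 4 + X ^ 5 + X ^ 9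
def xN (X : A) : A := X ^ 2 + X ^ 6 + X ^ 7 + X ^ 8 + X ^ 10
def ey (Y : A) : A := - sY Y
def ex (X : A) : A := - sX X
def pP (X Y : A) : A := ey Y * X * ey Y
def pM (X Y : A) : A := ey Y * X ^ 10 * ey Y
def p0 (X Y : A) : A := ex X * ey Y

section
variable {X Y T : A}

theorem smul_three (h3 : (3 : A) = 0) (a : A) : (3 : ℕ) • a = 0 := by
  have : (3 : ℕ) • a = (3 : A) * a := by
    rw [nsmul_eq_mul]; norm_num
  rw [this, h3, zero_mul]

theorem Y_mul_sY (h : Y ^ 5 = 1) : Y * sY Y = sY Y := by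
  have h5 : Y * Y ^ 4 = 1 := by rw [← pow_succ', h]
  have h2 : Y * Y = Y ^ 2 := (sq Y).symm
  have h3 : Y * Y ^ 2 = Y ^ 3 := (pow_succ' Y 2).symm
  have h4 : Y * Y ^ 3 = Y ^ 4 := (pow_succ' Y 3).symm
  simp only [sY, mul_add, mul_one, h5, h2, h3, h4]
  abel

theorem Y_pow_mul_sY (h : Y ^ 5 = 1) (n : ℕ) : Y ^ n * sY Y = sY Y := by
  induction n with
  | zero => simp
  | succ n ih => rw [pow_succ, mul_assoc, Y_mul_sY h, ih]

theorem X_mul_sX (h : X ^ 11 = 1) : X * sX X = sX X := by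
  have h10 : X * X ^ 10 = 1 := by rw [← pow_succ', h]
  simp only [sX, mul_add, mul_one, h10, ← pow_succ', Nat.reduceAdd, ← sq]
  abel

theorem sX_eq : sX X = 1 + xR X + xN X := by
  simp only [sX, xR, xN]; abel

theorem pow_fix {Y Z : A} (hZ : Y * Z = Z) (n : ℕ) : Y ^ n * Z = Z := by
  induction n with
  | zero => simp
  | succ n ih => rw [pow_succ, mul_assoc, hZ, ih]

theorem sY_mul_of_fix {Z : A} (hZ : Y * Z = Z) : sY Y * Z = (5 : ℕ) • Z := by
  simp only [sY, add_mul, one_mul, hZ, pow_fix hZ]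
  abel

theorem five_smul (h3 : (3 : A) = 0) (a : A) : (5 : ℕ) • a = - a := by
  have h2 := smul_three h3 a
  have : (5 : ℕ) • a = (3 : ℕ) • a + (3 : ℕ) • a + - a := by abel
  rw [this, h2]; simp

theorem ey_mul_of_fix (h3 : (3 : A) = 0) {Z : A} (hZ : Y * Z = Z) : ey Y * Z = Z := by
  rw [ey, neg_mul, sY_mul_of_fix hZ, five_smul h3, neg_neg]

theorem Y_mul_ey (h : Rel X Y T) : Y * ey Y = ey Y := by
  rw [ey, mul_neg, Y_mul_sY h.y5]

theorem X_mul_ex (h : Rel X Y T) : X * ex X = ex X := by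
  rw [ex, mul_neg, X_mul_sX h.x11]

theorem ey_mul_ey (h : Rel X Y T) : ey Y * ey Y = ey Y := ey_mul_of_fix h.three (Y_mul_ey h)

/-- `Y ^ i * X = X ^ (3 ^ i) * Y ^ i`, reduced -/
theorem yx1 (h : Rel X Y T) (n : ℕ) : Y * X ^ n = X ^ (3 * n) * Y := by
  induction n with
  | zero => simp
  | succ n ih =>
    rw [pow_succ, ← mul_assoc, ih, mul_assoc, h.yx, ← mul_assoc, ← pow_add]
    ring_nf

theorem yx2 (h : Rel X Y T) (i n : ℕ) : Y ^ i * X ^ n = X ^ (3 ^ i * n) * Y ^ i := by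
  induction i generalizing n with
  | zero => simp
  | succ i ih =>
    rw [pow_succ, mul_assoc, yx1 h, ← mul_assoc, ih, mul_assoc, ← pow_succ]
    congr 2
    ring

theorem X_mod (h : Rel X Y T) (n : ℕ) : X ^ n = X ^ (n % 11) := by
  conv_lhs => rw [← Nat.div_add_mod n 11]
  rw [pow_add, pow_mul, h.x11, one_pow, one_mul]

theorem sY_X (h : Rel X Y T) : sY Y * X * sY Y = xR X * sY Y := by
  have e1 : Y * X = X ^ 3 * Y := h.yx
  have e2 : Y ^ 2 * X = X ^ 9 * Y ^ 2 := by simpa using yx2 h 2 1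
  have e3 : Y ^ 3 * X = X ^ 5 * Y ^ 3 := by
    have := yx2 h 3 1
    rw [X_mod h (3 ^ 3 * 1)] at this; simpa using this
  have e4 : Y ^ 4 * X = X ^ 4 * Y ^ 4 := by
    have := yx2 h 4 1
    rw [X_mod h (3 ^ 4 * 1)] at this; simpa using this
  have hY := Y_mul_sY h.y5
  have hY2 := fun n => Y_pow_mul_sY h.y5 n
  generalize hs : sY Y = s at hY hY2 ⊢
  rw [← hs, sY]
  simp only [add_mul, one_mul, e1, e2, e3, e4, mul_assoc]
  rw [← sY, hs]
  simp only [hY, hY2, xR, add_mul]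
  abel

theorem sY_X10 (h : Rel X Y T) : sY Y * X ^ 10 * sY Y = xN X * sY Y := by
  have e1 : Y * X ^ 10 = X ^ 8 * Y := by
    have := yx2 h 1 10
    rw [X_mod h (3 ^ 1 * 10)] at this; simpa using this
  have e2 : Y ^ 2 * X ^ 10 = X ^ 2 * Y ^ 2 := by
    have := yx2 h 2 10
    rw [X_mod h (3 ^ 2 * 10)] at this; simpa using this
  have e3 : Y ^ 3 * X ^ 10 = X ^ 6 * Y ^ 3 := by
    have := yx2 h 3 10
    rw [X_mod h (3 ^ 3 * 10)] at this; simpa using this
  have e4 : Y ^ 4 * X ^ 10 = X ^ 7 * Y ^ 4 := by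
    have := yx2 h 4 10
    rw [X_mod h (3 ^ 4 * 10)] at this; simpa using this
  have hY := Y_mul_sY h.y5
  have hY2 := fun n => Y_pow_mul_sY h.y5 n
  generalize hs : sY Y = s at hY hY2 ⊢
  rw [← hs, sY]
  simp only [add_mul, one_mul, e1, e2, e3, e4, mul_assoc]
  rw [← sY, hs]
  simp only [hY, hY2, xN, add_mul]
  abel

theorem pP_eq (h : Rel X Y T) : pP X Y = - (xR X * ey Y) := by
  simp only [pP, ey, mul_neg, neg_mul, neg_neg]
  exact sY_X h

theorem pM_eq (h : Rel X Y T) : pM X Y = - (xN X * ey Y) := by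
  simp only [pM, ey, mul_neg, neg_mul, neg_neg]
  exact sY_X10 h


theorem hmul (h : Rel X Y T) (m n : ℕ) : X ^ m * X ^ n = X ^ ((m + n) % 11) := by
  rw [← pow_add, X_mod h]

theorem hl (h : Rel X Y T) (n : ℕ) : X * X ^ n = X ^ ((n + 1) % 11) := by
  rw [← pow_succ', X_mod h]

theorem hr (h : Rel X Y T) (n : ℕ) : X ^ n * X = X ^ ((n + 1) % 11) := by
  rw [← pow_succ, X_mod h]

theorem two_smul' (h3 : (3 : A) = 0) (a : A) : (2 : ℕ) • a = - a := by
  have h2 := smul_three h3 a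
  have : (2 : ℕ) • a = (3 : ℕ) • a + - a := by abel
  rw [this, h2, zero_add]

theorem xR_mul_xN (h : Rel X Y T) : xR X * xN X = - sX X := by
  have e : xR X * xN X = (3 : ℕ) • 1 + (2 : ℕ) • sX X := by
    rw [sX_eq]
    simp only [xR, xN, mul_add, add_mul, hmul h, hl h, Nat.reduceAdd, Nat.reduceMod, pow_one, pow_zero]
    abel
  rw [e, smul_three h.three, zero_add, two_smul' h.three]

theorem xN_mul_xR (h : Rel X Y T) : xN X * xR X = - sX X := by
  have e : xN X * xR X = (3 : ℕ) • 1 + (2 : ℕ) • sX X := by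
    rw [sX_eq]
    simp only [xR, xN, mul_add, add_mul, hmul h, hr h, Nat.reduceAdd, Nat.reduceMod, pow_one, pow_zero]
    abel
  rw [e, smul_three h.three, zero_add, two_smul' h.three]

theorem Y_mul_X_pow (h : Rel X Y T) (n : ℕ) : Y * X ^ n = X ^ ((3 * n) % 11) * Y := by
  rw [yx1 h, X_mod h]

theorem Y_mul_xR (h : Rel X Y T) : Y * xR X = xR X * Y := by
  simp only [xR, mul_add, add_mul, h.yx, Y_mul_X_pow h, Nat.reduceMul, Nat.reduceMod, pow_one]
  abel

theorem Y_mul_xN (h : Rel X Y T) : Y * xN X = xN X * Y := by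
  simp only [xN, mul_add, add_mul, Y_mul_X_pow h, Nat.reduceMul, Nat.reduceMod]
  abel

theorem ey_comm {Z : A} (hZ : Y * Z = Z * Y) : ey Y * Z = Z * ey Y := by
  have hc : Commute Y Z := hZ
  have : Commute (ey Y) Z := by
    unfold ey sY
    refine Commute.neg_left ?_
    refine ((((Commute.one_left Z).add_left hc).add_left ?_).add_left ?_).add_left ?_
    · exact hc.pow_left 2
    · exact hc.pow_left 3
    · exact hc.pow_left 4
  exact this

theorem ey_mul_xR (h : Rel X Y T) : ey Y * xR X = xR X * ey Y := ey_comm (Y_mul_xR h)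
theorem ey_mul_xN (h : Rel X Y T) : ey Y * xN X = xN X * ey Y := ey_comm (Y_mul_xN h)
theorem pP_mul_pM (h : Rel X Y T) : pP X Y * pM X Y = p0 X Y := by
  rw [pP_eq h, pM_eq h, neg_mul_neg]
  calc xR X * ey Y * (xN X * ey Y) = xR X * (ey Y * xN X) * ey Y := by noncomm_ring
    _ = (xR X * xN X) * (ey Y * ey Y) := by rw [ey_mul_xN h]; noncomm_ring
    _ = _ := by rw [xR_mul_xN h, ey_mul_ey h, p0, ex]

theorem pM_mul_pP (h : Rel X Y T) : pM X Y * pP X Y = p0 X Y := by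
  rw [pP_eq h, pM_eq h, neg_mul_neg]
  calc xN X * ey Y * (xR X * ey Y) = xN X * (ey Y * xR X) * ey Y := by noncomm_ring
    _ = (xN X * xR X) * (ey Y * ey Y) := by rw [ey_mul_xR h]; noncomm_ring
    _ = _ := by rw [xN_mul_xR h, ey_mul_ey h, p0, ex]

/-- the three projections -/
theorem ey_eq (h : Rel X Y T) : ey Y = pP X Y + pM X Y - p0 X Y := by
  rw [pP_eq h, pM_eq h, p0, ex, sX_eq]
  noncomm_ring

theorem X_mul_p0 (h : Rel X Y T) : X * p0 X Y = p0 X Y := by
  rw [p0, ← mul_assoc, X_mul_ex h]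

theorem YT (h : Rel X Y T) : Y * T = T * Y ^ 4 := by
  have h1 : T * Y * T = Y ^ 4 := by rw [h.ty, mul_assoc, h.tt, mul_one]
  have h2 : T * Y ^ 4 * T = Y := by
    have e : T * Y ^ 4 * T = (T * Y * T) ^ 4 := by
      have : ∀ n : ℕ, (T * Y * T) ^ n = T * Y ^ n * T := by
        intro n
        induction n with
        | zero => rw [pow_zero, pow_zero, mul_one, h.tt]
        | succ n ih =>
          rw [pow_succ, ih, pow_succ]
          calc T * Y ^ n * T * (T * Y * T) = T * Y ^ n * (T * T) * Y * T := by noncomm_ring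
            _ = _ := by rw [h.tt]; noncomm_ring
      rw [this]
    rw [e, h1, ← pow_mul]
    have : Y ^ (4 * 4) = (Y ^ 5) ^ 3 * Y := by rw [← pow_mul, ← pow_succ]
    rw [this, h.y5, one_pow, one_mul]
  calc Y * T = (T * Y ^ 4 * T) * T := by rw [h2]
    _ = T * Y ^ 4 * (T * T) := by noncomm_ring
    _ = _ := by rw [h.tt, mul_one]

theorem Y_mod (h : Rel X Y T) (n : ℕ) : Y ^ n = Y ^ (n % 5) := by
  conv_lhs => rw [← Nat.div_add_mod n 5]
  rw [pow_add, pow_mul, h.y5, one_pow, one_mul]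

theorem TY_pow (h : Rel X Y T) (n : ℕ) : T * Y ^ n = Y ^ ((4 * n) % 5) * T := by
  rw [← Y_mod h]
  induction n with
  | zero => simp
  | succ n ih => rw [pow_succ, ← mul_assoc, ih, mul_assoc, h.ty, ← mul_assoc, ← pow_add]; ring_nf

theorem YT_pow (h : Rel X Y T) (n : ℕ) : Y ^ n * T = T * Y ^ ((4 * n) % 5) := by
  rw [TY_pow h, Y_mod h n]
  congr 2
  omega

theorem T_mul_ey (h : Rel X Y T) : T * ey Y = ey Y * T := by
  simp only [ey, sY, mul_neg, neg_mul, mul_add, add_mul, mul_one, one_mul, TY_pow h, h.ty, Nat.reduceMul,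
    Nat.reduceMod, pow_one]
  abel

end

/-! ## on a module -/
section mod
variable {M : Type*} [AddCommGroup M] [Module A M] {X Y T : A}

theorem pow_smul_fix {Z : A} {v : M} (hv : Z • v = v) (n : ℕ) : Z ^ n • v = v := by
  induction n with
  | zero => simp
  | succ n ih => rw [pow_succ, mul_smul, hv, ih]

theorem Y_T (h : Rel X Y T) {v : M} (hy : Y • v = v) : Y • T • v = T • v := by
  rw [← mul_smul, YT h, mul_smul, pow_smul_fix hy]

theorem ey_of_fix (h : Rel X Y T) {v : M} (hy : Y • v = v) : ey Y • v = v := by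
  have h3 : (3 : ℕ) • v = 0 := by
    have : (3 : ℕ) • v = (3 : A) • v := by
      rw [← Nat.cast_smul_eq_nsmul A]; norm_num
    rw [this, h.three, zero_smul]
  have e : ey Y • v = - ((5 : ℕ) • v) := by
    simp only [ey, sY, neg_smul, add_smul, one_smul, hy, pow_smul_fix hy]
    abel
  have e2 : (5 : ℕ) • v = (3 : ℕ) • v + (3 : ℕ) • v + - v := by abel
  rw [e, e2, h3]; simp

/-- (C3): `t π₊ t v = π₋ t v` for `v` fixed by `B` -/
theorem C3 (h : Rel X Y T) {v : M} (hx : X • v = v) (hy : Y • v = v) :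
    T • pP X Y • T • v = pM X Y • T • v := by
  have hTy : Y • T • v = T • v := Y_T h hy
  have e1 : ey Y • T • v = T • v := ey_of_fix h hTy
  have e2 : pP X Y • T • v = ey Y • X • T • v := by
    rw [pP, mul_smul, mul_smul, e1]
  have e3 : pM X Y • T • v = ey Y • X ^ 10 • T • v := by
    rw [pM, mul_smul, mul_smul, e1]
  have e4 : T * ey Y = ey Y * T := T_mul_ey h
  rw [e2, e3, ← mul_smul T, e4, mul_smul]
  congr 1
  rw [← mul_smul X, ← mul_smul T, ← mul_assoc, h.txt, mul_smul, mul_smul, pow_smul_fix hx]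

theorem T_X_T (h : Rel X Y T) (k : ℕ) : T * X ^ (3 ^ k) * T = Y ^ ((4 * k) % 5) * (X ^ 10 * T * X ^ 10) * Y ^ (k % 5) := by
  have e : X ^ (3 ^ k) = Y ^ k * X * Y ^ ((4 * k) % 5) := by
    have := yx2 h k 1
    rw [pow_one, mul_one] at this
    rw [this, mul_assoc, ← Y_mod h, ← pow_add]
    have e5 : k + 4 * k = 5 * k := by ring
    rw [e5, pow_mul, h.y5, one_pow, mul_one]
  have e1 : T * Y ^ k = Y ^ ((4 * k) % 5) * T := TY_pow h k
  have e2 : Y ^ ((4 * k) % 5) * T = T * Y ^ (k % 5) := by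
    rw [YT_pow h]; congr 2; omega
  calc T * X ^ (3 ^ k) * T = (T * Y ^ k) * X * (Y ^ ((4 * k) % 5) * T) := by rw [e]; noncomm_ring
    _ = Y ^ ((4 * k) % 5) * (T * X * T) * Y ^ (k % 5) := by rw [e1]; nth_rewrite 2 [e2]; simp only [mul_assoc]
    _ = _ := by rw [h.txt]

/-- the image of `T v` under `T X^(3^k)` -/
theorem T_Xr (h : Rel X Y T) {v : M} (hx : X • v = v) (hy : Y • v = v) (k : ℕ) :
    T • X ^ (3 ^ k) • T • v = X ^ ((10 * 3 ^ (4 * k)) % 11) • T • v := by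
  have e1 : T • X ^ (3 ^ k) • T • v = (T * X ^ (3 ^ k) * T) • v := by
    rw [mul_smul, mul_smul]
  rw [e1, T_X_T h, mul_smul, pow_smul_fix hy, mul_smul, mul_smul, mul_smul, pow_smul_fix hx]
  have hTy : Y • T • v = T • v := Y_T h hy
  rw [← mul_smul, ← Y_mod h, yx2 h, mul_smul, pow_smul_fix hTy, X_mod h, mul_comm (3 ^ (4 * k))]

theorem T_Xn (h : Rel X Y T) {v : M} (hx : X • v = v) (hy : Y • v = v) (k : ℕ) :
    T • X ^ ((10 * 3 ^ (4 * k)) % 11) • T • v = X ^ (3 ^ k) • T • v := by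
  rw [← T_Xr h hx hy k, ← mul_smul, h.tt, one_smul]

/-- the sum over the twelve conjugates of `B` is fixed by `T` -/
theorem T_sum (h : Rel X Y T) {v : M} (hx : X • v = v) (hy : Y • v = v) :
    T • (v + sX X • T • v) = v + sX X • T • v := by
  have r0 := T_Xr h hx hy 0
  have r1 := T_Xr h hx hy 1
  have r2 := T_Xr h hx hy 2
  have r3 := T_Xr h hx hy 3
  have r4 := T_Xr h hx hy 4
  have n0 := T_Xn h hx hy 0
  have n1 := T_Xn h hx hy 1
  have n2 := T_Xn h hx hy 2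
  have n3 := T_Xn h hx hy 3
  have n4 := T_Xn h hx hy 4
  rw [X_mod h (3 ^ _)] at r0 r1 r2 r3 r4
  rw [X_mod h (3 ^ _)] at n0 n1 n2 n3 n4
  norm_num only [_root_.pow_one] at r0 r1 r2 r3 r4 n0 n1 n2 n3 n4
  have t0 : T • T • v = v := by rw [← mul_smul, h.tt, one_smul]
  simp only [sX, add_smul, one_smul, smul_add, t0, r0, r1, r2, r3, r4, n0, n1, n2, n3, n4]
  abel

/-- (C1) if `⟨X, Y, T⟩` has no nonzero fixed vector: the sum over the conjugates of `v` vanishes -/
theorem sum_zero (h : Rel X Y T) (hinv : ∀ w : M, X • w = w → Y • w = w → T • w = w → w = 0) {v : M} (hx : X • v = v)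
    (hy : Y • v = v) : v + sX X • T • v = 0 := by
  have hTy : Y • T • v = T • v := Y_T h hy
  refine hinv _ ?_ ?_ (T_sum h hx hy)
  · rw [smul_add, hx, ← mul_smul, X_mul_sX h.x11]
  · rw [smul_add, hy, ← mul_smul, sX_eq, mul_add, mul_add, Y_mul_xR h, Y_mul_xN h, mul_one]
    simp only [add_smul, mul_smul, hTy, one_smul]

/-- (C1) `π₀ t v = v` -/
theorem C1 (h : Rel X Y T) (hinv : ∀ w : M, X • w = w → Y • w = w → T • w = w → w = 0) {v : M} (hx : X • v = v)
    (hy : Y • v = v) : p0 X Y • T • v = v := by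
  have hTy : Y • T • v = T • v := Y_T h hy
  have e := sum_zero h hinv hx hy
  rw [p0, mul_smul, ey_of_fix h hTy, ex, neg_smul, eq_comm, ← sub_eq_zero, sub_neg_eq_add, e]

theorem pM_of_fix (h : Rel X Y T) {v : M} (hx : X • v = v) (hy : Y • v = v) : pM X Y • v = v := by
  rw [pM, mul_smul, mul_smul, ey_of_fix h hy, pow_smul_fix hx, ey_of_fix h hy]

/-- `a` is in `ker π₋`, `im π₊` -/
theorem pM_a (h : Rel X Y T) (hinv : ∀ w : M, X • w = w → Y • w = w → T • w = w → w = 0) {v : M} (hx : X • v = v)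
    (hy : Y • v = v) : pM X Y • (pP X Y • T • v - v) = 0 := by
  rw [smul_sub, ← mul_smul, pM_mul_pP h, C1 h hinv hx hy, pM_of_fix h hx hy, sub_self]

end mod

/-! ## traces -/
section trace
variable {R : Type*} [AddCommGroup R] {X Y T : A}

theorem T_X10_T (h : Rel X Y T) : T * X ^ 10 * T = X * T * X := by
  have e : (T * X ^ 10 * T) * (T * X * T) = 1 := by
    calc (T * X ^ 10 * T) * (T * X * T) = T * X ^ 10 * (T * T) * X * T := by noncomm_ring
      _ = T * (X ^ 10 * X) * T := by rw [h.tt]; noncomm_ring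
      _ = 1 := by rw [← pow_succ, h.x11, mul_one, h.tt]
  have e2 : (T * X * T) * (X * T * X) = 1 := by
    rw [h.txt]
    calc X ^ 10 * T * X ^ 10 * (X * T * X) = X ^ 10 * T * (X ^ 10 * X) * T * X := by noncomm_ring
      _ = X ^ 10 * (T * T) * X := by rw [← pow_succ, h.x11]; noncomm_ring
      _ = 1 := by rw [h.tt, mul_one, ← pow_succ, h.x11]
  calc T * X ^ 10 * T = T * X ^ 10 * T * ((T * X * T) * (X * T * X)) := by rw [e2, mul_one]
    _ = ((T * X ^ 10 * T) * (T * X * T)) * (X * T * X) := by noncomm_ring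
    _ = _ := by rw [e, one_mul]

end trace

/-! ## from a group representation -/
section rep
variable {F G M : Type*} [Field F] [CharP F 3] [Group G] [AddCommGroup M] [Module F M]

theorem Rel.of_rep (ρ : Representation F G M) {x y t : G} (hx : x ^ 11 = 1) (hy : y ^ 5 = 1) (ht : t * t = 1)
    (hyx : y * x = x ^ 3 * y) (hty : t * y * t = y⁻¹) (hxt : (x * t) ^ 3 = 1) : Rel (ρ x) (ρ y) (ρ t) where
  x11 := by rw [← map_pow, hx, map_one]
  y5 := by rw [← map_pow, hy, map_one]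
  tt := by rw [← map_mul, ht, map_one]
  yx := by rw [← map_mul, hyx, map_mul, map_pow]
  ty := by
    have e : t * y = y ^ 4 * t := by
      have : y⁻¹ = y ^ 4 := inv_eq_of_mul_eq_one_right (by rw [← pow_succ', hy])
      rw [← this, ← hty, mul_assoc, ht, mul_one]
    rw [← map_mul, e, map_mul, map_pow]
  txt := by
    have e : t * x * t = x ^ 10 * t * x ^ 10 := by
      have hi : x ^ 10 = x⁻¹ := (inv_eq_of_mul_eq_one_right (by rw [← pow_succ', hx])).symm
      have h3 : x * t * (x * t) * (x * t) = 1 := by rw [← hxt, pow_succ, sq]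
      have ht' : t⁻¹ = t := inv_eq_of_mul_eq_one_left ht
      rw [hi]
      calc t * x * t = x⁻¹ * (x * t * (x * t) * (x * t)) * t⁻¹ * x⁻¹ := by group
        _ = x⁻¹ * t * x⁻¹ := by rw [h3, ht', mul_one]
    rw [← map_mul, ← map_mul, e, map_mul, map_mul, map_pow]
  three := by
    have h3 : (3 : F) = 0 := by exact_mod_cast CharP.cast_eq_zero F 3
    have e : (3 : Module.End F M) = algebraMap F (Module.End F M) 3 := (map_ofNat (algebraMap F (Module.End F M)) 3).symm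
    rw [e, h3, map_zero]

end rep

end Cfsg.Agent.H879.E83

private theorem dce_dfbb37ad3691 : _root_.True := by
  try have : _root_.True := by simp only [_root_.Cfsg.Agent.H879.E83.ex.eq_1]
  try have : _root_.True := by simp only [_root_.Cfsg.Agent.H879.E83.xN.eq_1]
  try have : _root_.True := by simp only [_root_.Cfsg.Agent.H879.E83.sY.eq_1]
  try have : _root_.True := by simp only [_root_.Cfsg.Agent.H879.E83.pP.eq_1]
  try have : _root_.True := by simp only [_root_.Cfsg.Agent.H879.E83.ey.eq_1]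
  try have : _root_.True := by simp only [_root_.Cfsg.Agent.H879.E83.p0.eq_1]
  try have : _root_.True := by simp only [_root_.Cfsg.Agent.H879.E83.pM.eq_1]
  try have : _root_.True := by simp only [_root_.Cfsg.Agent.H879.E83.xR.eq_1]
  try have : _root_.True := by simp only [_root_.Cfsg.Agent.H879.E83.sX.eq_1]
  exact _root_.True.intro
end

-- part: H395/E83/Dim
section
prune_inst 0x342041006522020800182092330000646000000200000000a8a00f040b496262a94628003ab0251090aa18c0180000400010019000000000000034004003012080ab50063334af041e001f800880000000000000000000000000000000000004000000000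
set_option linter.all false
open scoped Cfsg.Agent.FastGrp

/-!
# S5925, box E: dimensions

`X, Y, T` as in `H879/E83/Hecke` (`PSL₂(11)` acting on a module of characteristic 3, no nonzero fixed vector).

* `inj_pP`: `v ↦ π₊ T v - v` is injective on the fixed vectors of `B = ⟨X, Y⟩`.
* `five_le`: `5 dim {w | Y w = w, xN X w = 0} ≤ dim ker (xN X)`.
* `no24`: the case `dim M = 248`, `dim M^B ≥ 24` is impossible when `dim ker (xN X) = dim ker (xR X)`.
-/

set_option autoImplicit false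

namespace Cfsg.Agent.H395.E83

open Cfsg.Agent.H879.E83 Module

section mod
variable {A : Type*} [Ring A] {M : Type*} [AddCommGroup M] [Module A M] {X Y T : A}

theorem three_zero (h3 : (3 : A) = 0) (v : M) : (3 : ℕ) • v = 0 := by
  have : (3 : ℕ) • v = (3 : A) • v := by
    rw [← Nat.cast_smul_eq_nsmul A]; norm_num
  rw [this, h3, zero_smul]

/-- **Injectivity.** -/
theorem inj_pP (h : _root_.Cfsg.Agent.H879.E83.Rel X Y T) (hinv : ∀ w : M, X • w = w → Y • w = w → T • w = w → w = 0) {v : M} (hx : X • v = v)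
    (hy : Y • v = v) (ha : pP X Y • T • v = v) : v = 0 := by
  have hTy : Y • T • v = T • v := Y_T h hy
  have t0 : T • T • v = v := by rw [← mul_smul, h.tt, one_smul]
  have r0 := T_Xr h hx hy 0
  have r1 := T_Xr h hx hy 1
  have r2 := T_Xr h hx hy 2
  have r3 := T_Xr h hx hy 3
  have r4 := T_Xr h hx hy 4
  have n0 := T_Xn h hx hy 0
  have n1 := T_Xn h hx hy 1
  have n2 := T_Xn h hx hy 2
  have n3 := T_Xn h hx hy 3
  have n4 := T_Xn h hx hy 4
  rw [X_mod h (3 ^ _)] at r0 r1 r2 r3 r4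
  rw [X_mod h (3 ^ _)] at n0 n1 n2 n3 n4
  norm_num only [_root_.pow_one] at r0 r1 r2 r3 r4 n0 n1 n2 n3 n4
  have eR : xR X • T • v = - v := by
    have h1 := ha
    rw [pP_eq h, neg_smul, mul_smul, ey_of_fix h hTy] at h1
    rw [← neg_neg (xR X • T • v), h1]
  have eN : T • v + xN X • T • v = 0 := by
    have e0 := sum_zero h hinv hx hy
    rw [sX_eq, add_smul, add_smul, one_smul, eR] at e0
    have e1 : T • v + xN X • T • v = v + (T • v + - v + xN X • T • v) := by abel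
    rw [e1, e0]
  generalize hu0 : T • v = u at hTy t0 r0 r1 r2 r3 r4 n0 n1 n2 n3 n4 eR eN
  -- shifts
  have hX : ∀ n : ℕ, X ^ n • v = v := fun n => pow_smul_fix hx n
  have sh : ∀ i j : ℕ, X ^ i • X ^ j • u = X ^ ((i + j) % 11) • u := fun i j => by
    rw [← mul_smul, hmul h]
  have sh1 : ∀ i : ℕ, X ^ i • X • u = X ^ ((i + 1) % 11) • u := fun i => by
    have := sh i 1
    rwa [pow_one] at this
  have R1 : X ^ 2 • u + X ^ 4 • u + X ^ 5 • u + X ^ 6 • u + X ^ 10 • u = - v := by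
    have h1 : X ^ 1 • (xR X • u) = X ^ 1 • (- v) := by rw [eR]
    rw [smul_neg, hX] at h1
    simp only [xR, add_smul, smul_add, sh, sh1, Nat.reduceAdd, Nat.reduceMod] at h1
    exact h1
  have R5 : X ^ 6 • u + X ^ 8 • u + X ^ 9 • u + X ^ 10 • u + X ^ 3 • u = - v := by
    have h1 : X ^ 5 • (xR X • u) = X ^ 5 • (- v) := by rw [eR]
    rw [smul_neg, hX] at h1
    simp only [xR, add_smul, smul_add, sh, sh1, Nat.reduceAdd, Nat.reduceMod] at h1
    exact h1
  have N9 : X ^ 9 • u + (u + X ^ 4 • u + X ^ 5 • u + X ^ 6 • u + X ^ 8 • u) = 0 := by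
    have h1 : X ^ 9 • (u + xN X • u) = 0 := by rw [eN, smul_zero]
    simp only [xN, add_smul, smul_add, sh, sh1, Nat.reduceAdd, Nat.reduceMod, pow_zero, one_smul] at h1
    exact h1
  -- apply `T` to `R1`
  have S0 : X ^ 5 • u + X ^ 8 • u + X ^ 2 • u + X ^ 9 • u + X • u = - u := by
    have h1 : T • (X ^ 2 • u + X ^ 4 • u + X ^ 5 • u + X ^ 6 • u + X ^ 10 • u) = T • (- v) := by rw [R1]
    rw [smul_neg, hu0] at h1
    simp only [smul_add, r0, r1, r2, r3, r4, n0, n1, n2, n3, n4] at h1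
    exact h1
  have S1 : X ^ 6 • u + X ^ 9 • u + X ^ 3 • u + X ^ 10 • u + X ^ 2 • u = - (X • u) := by
    have h1 : X ^ 1 • (X ^ 5 • u + X ^ 8 • u + X ^ 2 • u + X ^ 9 • u + X • u) = X ^ 1 • (- u) := by rw [S0]
    rw [pow_one] at h1
    have sh2 : ∀ j : ℕ, X • X ^ j • u = X ^ ((1 + j) % 11) • u := fun j => by
      have := sh 1 j
      rwa [pow_one] at this
    have sh3 : X • X • u = X ^ 2 • u := by rw [← mul_smul, ← sq]
    simp only [smul_neg, smul_add, sh2, sh3, Nat.reduceAdd, Nat.reduceMod] at h1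
    exact h1
  have S4 : X ^ 9 • u + X • u + X ^ 6 • u + X ^ 2 • u + X ^ 5 • u = - (X ^ 4 • u) := by
    have h1 : X ^ 4 • (X ^ 5 • u + X ^ 8 • u + X ^ 2 • u + X ^ 9 • u + X • u) = X ^ 4 • (- u) := by rw [S0]
    simp only [smul_neg, smul_add, sh, sh1, Nat.reduceAdd, Nat.reduceMod, pow_one] at h1
    exact h1
  have hu : u = v := by
    have e : u = - (X ^ 6 • u + X ^ 8 • u + X ^ 9 • u + X ^ 10 • u + X ^ 3 • u)
        + (X ^ 9 • u + (u + X ^ 4 • u + X ^ 5 • u + X ^ 6 • u + X ^ 8 • u))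
        + ((X ^ 6 • u + X ^ 9 • u + X ^ 3 • u + X ^ 10 • u + X ^ 2 • u) + X • u)
        - ((X ^ 9 • u + X • u + X ^ 6 • u + X ^ 2 • u + X ^ 5 • u) + X ^ 4 • u) := by abel
    rw [R5, N9, S1, S4] at e
    rw [e]
    abel
  exact hinv v hx hy (hu0.trans hu)

/-- the relations among five vectors of `ker (Y - 1) ∩ ker (xN X)` -/
theorem sY_X_pow (h : _root_.Cfsg.Agent.H879.E83.Rel X Y T) {w : M} (hy : Y • w = w) (n : ℕ) :
    sY Y • X ^ n • w = X ^ n • w + X ^ ((3 * n) % 11) • w + X ^ ((9 * n) % 11) • w + X ^ ((27 * n) % 11) • w +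
      X ^ ((81 * n) % 11) • w := by
  have e : ∀ i : ℕ, Y ^ i • X ^ n • w = X ^ ((3 ^ i * n) % 11) • w := fun i => by
    rw [← mul_smul, yx2 h, mul_smul, pow_smul_fix hy, X_mod h]
  have e1 : Y • X ^ n • w = X ^ ((3 * n) % 11) • w := by
    have := e 1
    rwa [pow_one, pow_one] at this
  simp only [sY, add_smul, one_smul, e1, e]
  norm_num

/-- `Σ X^i w_i = 0` for `w_i` in `ker (Y - 1) ∩ ker (xN X)` implies `w_i = 0` -/
theorem five_zero (h : _root_.Cfsg.Agent.H879.E83.Rel X Y T) (w : Fin 5 → M) (hy : ∀ i, Y • w i = w i) (hN : ∀ i, xN X • w i = 0)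
    (h0 : w 0 + X • w 1 + X ^ 2 • w 2 + X ^ 3 • w 3 + X ^ 4 • w 4 = 0) : ∀ i, w i = 0 := by
  have hs : ∀ i, sX X • w i = 0 := fun i => by
    have h1 : (xR X * xN X) • w i = 0 := by rw [mul_smul, hN, smul_zero]
    rw [xR_mul_xN h, neg_smul, neg_eq_zero] at h1
    exact h1
  have hR : ∀ i, xR X • w i = - w i := fun i => by
    have h1 := hs i
    rw [sX_eq, add_smul, add_smul, one_smul, hN, add_zero] at h1
    exact (neg_eq_of_add_eq_zero_right h1).symm
  have t0 : ∀ i, sY Y • w i = - w i := fun i => by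
    have h3 := three_zero h.three (w i)
    have e : sY Y • w i = (5 : ℕ) • w i := by
      have := sY_X_pow h (hy i) 0
      simp only [pow_zero, one_smul, mul_zero, Nat.zero_mod] at this
      rw [this]
      abel
    have e2 : (5 : ℕ) • w i = (3 : ℕ) • w i + (3 : ℕ) • w i + - w i := by abel
    rw [e, e2, h3]; simp
  have tR : ∀ i, ∀ n ∈ ([1, 3, 4, 5, 9] : List ℕ), sY Y • X ^ n • w i = - w i := fun i n hn => by
    have h1 := hR i
    simp only [xR, add_smul] at h1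
    rw [sY_X_pow h (hy i), ← h1]
    simp only [List.mem_cons, List.not_mem_nil, or_false] at hn
    rcases hn with rfl | rfl | rfl | rfl | rfl <;> norm_num only [_root_.pow_one, _root_.add_left_inj] <;> abel
  have tN : ∀ i, ∀ n ∈ ([2, 6, 7, 8, 10] : List ℕ), sY Y • X ^ n • w i = 0 := fun i n hn => by
    have h1 := hN i
    simp only [xN, add_smul] at h1
    rw [sY_X_pow h (hy i), ← h1]
    simp only [List.mem_cons, List.not_mem_nil, or_false] at hn
    rcases hn with rfl | rfl | rfl | rfl | rfl <;> norm_num only [_root_.add_left_inj] <;> abel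
  have sh : ∀ (i : Fin 5) (a b : ℕ), X ^ a • X ^ b • w i = X ^ ((a + b) % 11) • w i := fun i a b => by
    rw [← mul_smul, hmul h]
  have E : ∀ m : ℕ, sY Y • X ^ m • w 0 + sY Y • X ^ ((m + 1) % 11) • w 1 + sY Y • X ^ ((m + 2) % 11) • w 2 +
      sY Y • X ^ ((m + 3) % 11) • w 3 + sY Y • X ^ ((m + 4) % 11) • w 4 = 0 := fun m => by
    have h1 : sY Y • X ^ m • (w 0 + X ^ 1 • w 1 + X ^ 2 • w 2 + X ^ 3 • w 3 + X ^ 4 • w 4) = 0 := by
      rw [pow_one, h0, smul_zero, smul_zero]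
    simp only [smul_add, sh] at h1
    exact h1
  have E0 := E 0
  have E8 := E 8
  have E7 := E 7
  have E10 := E 10
  have E3 := E 3
  have E4 := E 4
  have E6 := E 6
  have E1 := E 1
  have E9 := E 9
  simp only [pow_zero, one_smul, Nat.reduceAdd, Nat.reduceMod, t0] at E0 E8 E7 E10 E3 E4 E6 E1 E9
  simp only [tR _ 1 (by simp), tR _ 3 (by simp), tR _ 4 (by simp), tR _ 5 (by simp), tR _ 9 (by simp),
    tN _ 2 (by simp), tN _ 6 (by simp), tN _ 7 (by simp), tN _ 8 (by simp), tN _ 10 (by simp), zero_add, add_zero]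
    at E0 E8 E7 E10 E3 E4 E6 E1 E9
  have w0 : w 0 = 0 := by
    have e : w 0 = (- w 1 + - w 3 + - w 4) - (- w 0 + - w 1 + - w 3 + - w 4) := by abel
    rw [e, E8, E0, sub_self]
  have w1 : w 1 = 0 := by
    have e : w 1 = (- w 2 + - w 4) - (- w 1 + - w 2 + - w 4) := by abel
    rw [e, E7, E10, sub_self]
  have w2 : w 2 = 0 := by
    have e : w 2 = (- w 0 + - w 1) - (- w 0 + - w 1 + - w 2) := by abel
    rw [e, E3, E4, sub_self]
  have w3 : w 3 = 0 := neg_eq_zero.1 E6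
  have w4 : w 4 = 0 := by
    have e : w 4 = (- w 0 + - w 2 + - w 3) - (- w 0 + - w 2 + - w 3 + - w 4) := by abel
    rw [e, E1, E9, sub_self]
  intro i
  fin_cases i
  · exact w0
  · exact w1
  · exact w2
  · exact w3
  · exact w4

end mod

/-! ## dimensions -/
section dim
variable {F M : Type*} [Field F] [AddCommGroup M] [Module F M] [FiniteDimensional F M] {X Y T : Module.End F M}

/-- the fixed vectors of `Y` in the kernel of `xN X`, the space of the factor on which `xR X = -1`, `xN X = 0` -/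
def partR (X Y : Module.End F M) : Submodule F M := LinearMap.ker (Y - 1) ⊓ LinearMap.ker (xN X)

omit [FiniteDimensional F M] in
theorem mem_partR {X Y : Module.End F M} {w : M} : w ∈ partR X Y ↔ Y w = w ∧ xN X w = 0 := by
  unfold partR
  rw [Submodule.mem_inf, LinearMap.mem_ker, LinearMap.mem_ker, LinearMap.sub_apply, sub_eq_zero]
  rfl

/-- **five copies**: `5 dim ≤ dim ker (xN X)` -/
theorem five_le (h : _root_.Cfsg.Agent.H879.E83.Rel X Y T) : 5 * finrank F (partR X Y) ≤ finrank F (LinearMap.ker (xN X)) := by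
  have hc : ∀ (n : ℕ) (w : M), xN X w = 0 → xN X ((X ^ n) w) = 0 := fun n w hw => by
    have h1 : xN X * X ^ n = X ^ n * xN X := by
      have : Commute (xN X) X := by
        unfold xN
        refine ((((Commute.refl X).pow_left 2 |>.add_left ?_).add_left ?_).add_left ?_).add_left ?_
        · exact (Commute.refl X).pow_left 6
        · exact (Commute.refl X).pow_left 7
        · exact (Commute.refl X).pow_left 8
        · exact (Commute.refl X).pow_left 10
      exact (this.pow_right n)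
    have h2 : (xN X * X ^ n) w = (X ^ n * xN X) w := by rw [h1]
    rw [Module.End.mul_apply, Module.End.mul_apply, hw, map_zero] at h2
    exact h2
  let f : (Fin 5 → partR X Y) →ₗ[F] LinearMap.ker (xN X) :=
    { toFun := fun w => ⟨∑ i : Fin 5, (X ^ (i : ℕ)) (w i : M), by
        rw [LinearMap.mem_ker, map_sum]
        exact Finset.sum_eq_zero fun i _ => hc _ _ (mem_partR.1 (w i).2).2⟩
      map_add' := fun v w => by
        ext
        simp only [Finset.sum_add_distrib, _root_.Pi.add_apply, _root_.Submodule.coe_add, _root_.map_add, _root_.AddMemClass.mk_add_mk]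
      map_smul' := fun c w => by
        ext
        simp only [Finset.smul_sum, _root_.Pi.smul_apply, _root_.SetLike.val_smul, _root_.map_smul, _root_.RingHom.id_apply, _root_.SetLike.mk_smul_mk] }
  have hf : Function.Injective f := by
    rw [← LinearMap.ker_eq_bot, LinearMap.ker_eq_bot']
    intro w hw
    have h0 : ∑ i : Fin 5, (X ^ (i : ℕ)) (w i : M) = 0 := congrArg Subtype.val hw
    simp only [Fin.sum_univ_five] at h0
    have h1 := five_zero h (fun i => (w i : M)) (fun i => (mem_partR.1 (w i).2).1) (fun i => (mem_partR.1 (w i).2).2)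
      (by
        have h2 : (w 0 : M) + X (w 1 : M) + (X ^ 2) (w 2 : M) + (X ^ 3) (w 3 : M) + (X ^ 4) (w 4 : M) = 0 := by
          rw [← h0]
          simp only [_root_.Fin.isValue, _root_.Fin.coe_ofNat_eq_mod, _root_.Nat.zero_mod, _root_.pow_zero, _root_.Module.End.one_apply, _root_.Nat.one_mod, _root_.pow_one, _root_.Nat.reduceMod, _root_.Nat.mod_succ]
        exact h2)
    funext i
    exact Subtype.ext (h1 i)
  have h1 := LinearMap.finrank_le_finrank_of_injective hf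
  rw [Module.finrank_pi_fintype] at h1
  simpa only [_root_.ge_iff_le, _root_.Finset.sum_const, _root_.Finset.card_univ, _root_.Fintype.card_fin, _root_.smul_eq_mul] using h1

/-- the three kernels are independent -/
theorem three_le (h : _root_.Cfsg.Agent.H879.E83.Rel X Y T) : finrank F (LinearMap.ker (X - 1)) + finrank F (LinearMap.ker (xN X)) +
    finrank F (LinearMap.ker (xR X)) ≤ finrank F M := by
  let f : (LinearMap.ker (X - 1) × LinearMap.ker (xN X)) × LinearMap.ker (xR X) →ₗ[F] M :=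
    (((LinearMap.ker (X - 1)).subtype).coprod (LinearMap.ker (xN X)).subtype).coprod (LinearMap.ker (xR X)).subtype
  have hf : Function.Injective f := by
    rw [← LinearMap.ker_eq_bot, LinearMap.ker_eq_bot']
    rintro ⟨⟨⟨a, ha⟩, ⟨b, hb⟩⟩, ⟨c, hc⟩⟩ h0
    have h0' : a + b + c = 0 := h0
    rw [LinearMap.mem_ker, LinearMap.sub_apply, sub_eq_zero] at ha
    rw [LinearMap.mem_ker] at hb hc
    have ha' : X • a = a := ha
    have hb' : xN X • b = 0 := hb
    have hc' : xR X • c = 0 := hc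
    have e3 := three_zero h.three a
    have e3c := three_zero h.three c
    have s5 : ∀ n : ℕ, X ^ n • a = a := fun n => pow_smul_fix ha' n
    have aR : xR X • a = - a := by
      simp only [xR, add_smul, s5, ha']
      have : a + a + a + a + a = (3 : ℕ) • a + (3 : ℕ) • a + - a := by abel
      rw [this, e3]; simp
    have aN : xN X • a = - a := by
      simp only [xN, add_smul, s5]
      have : a + a + a + a + a = (3 : ℕ) • a + (3 : ℕ) • a + - a := by abel
      rw [this, e3]; simp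
    have bs : sX X • b = 0 := by
      have h1 : (xR X * xN X) • b = 0 := by rw [mul_smul, hb', smul_zero]
      rw [xR_mul_xN h, neg_smul, neg_eq_zero] at h1
      exact h1
    have bR : xR X • b = - b := by
      rw [sX_eq, add_smul, add_smul, one_smul, hb', add_zero] at bs
      exact (neg_eq_of_add_eq_zero_right bs).symm
    have cs : sX X • c = 0 := by
      have h1 : (xN X * xR X) • c = 0 := by rw [mul_smul, hc', smul_zero]
      rw [xN_mul_xR h, neg_smul, neg_eq_zero] at h1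
      exact h1
    have cN : xN X • c = - c := by
      rw [sX_eq, add_smul, add_smul, one_smul, hc', add_zero] at cs
      exact (neg_eq_of_add_eq_zero_right cs).symm
    have h1 : - a + - b = 0 := by
      have h2 : xR X • (a + b + c) = 0 := by rw [h0', smul_zero]
      rwa [smul_add, smul_add, aR, bR, hc', add_zero] at h2
    have h2 : - a + - c = 0 := by
      have h2 : xN X • (a + b + c) = 0 := by rw [h0', smul_zero]
      rwa [smul_add, smul_add, aN, hb', cN, add_zero] at h2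
    have ea : a = 0 := by
      have e : a = -((a + b + c) + (- a + - b) + (- a + - c)) + 0 := by abel
      rw [e, h0', h1, h2]; simp
    have eb : b = 0 := by
      rw [ea, neg_zero, zero_add, neg_eq_zero] at h1; exact h1
    have ec : c = 0 := by
      rw [ea, neg_zero, zero_add, neg_eq_zero] at h2; exact h2
    subst ea; subst eb; subst ec
    rfl
  have h1 := LinearMap.finrank_le_finrank_of_injective hf
  rw [Module.finrank_prod, Module.finrank_prod] at h1
  exact h1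

/-- the relations for `X⁻¹` -/
theorem rel_inv {A : Type*} [Ring A] {X Y T : A} (h : _root_.Cfsg.Agent.H879.E83.Rel X Y T) : _root_.Cfsg.Agent.H879.E83.Rel (X ^ 10) Y T where
  x11 := by rw [← pow_mul, mul_comm, pow_mul, h.x11, one_pow]
  y5 := h.y5
  tt := h.tt
  yx := by
    rw [Y_mul_X_pow h, ← pow_mul, X_mod h (10 * 3)]
  ty := h.ty
  txt := by
    rw [← pow_mul, X_mod h (10 * 10)]
    norm_num
    exact T_X10_T h
  three := h.three

theorem xN_inv {A : Type*} [Ring A] {X Y T : A} (h : _root_.Cfsg.Agent.H879.E83.Rel X Y T) : xN (X ^ 10) = xR X := by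
  simp only [xN, xR, ← pow_mul]
  rw [X_mod h (10 * 2), X_mod h (10 * 6), X_mod h (10 * 7), X_mod h (10 * 8), X_mod h (10 * 10)]
  norm_num only [_root_.pow_one]
  abel

theorem xR_inv {A : Type*} [Ring A] {X Y T : A} (h : _root_.Cfsg.Agent.H879.E83.Rel X Y T) : xR (X ^ 10) = xN X := by
  simp only [xN, xR, ← pow_mul]
  rw [X_mod h (10 * 3), X_mod h (10 * 4), X_mod h (10 * 5), X_mod h (10 * 9)]
  norm_num only []
  abel

/-- the other half -/
def partN (X Y : Module.End F M) : Submodule F M := LinearMap.ker (Y - 1) ⊓ LinearMap.ker (xR X)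

omit [FiniteDimensional F M] in
theorem partN_eq (h : _root_.Cfsg.Agent.H879.E83.Rel X Y T) : partN X Y = partR (X ^ 10) Y := by
  unfold partN partR
  rw [xN_inv h]

omit [FiniteDimensional F M] in
theorem mem_partN {X Y : Module.End F M} {w : M} : w ∈ partN X Y ↔ Y w = w ∧ xR X w = 0 := by
  unfold partN
  rw [Submodule.mem_inf, LinearMap.mem_ker, LinearMap.mem_ker, LinearMap.sub_apply, sub_eq_zero]
  rfl

/-- **the halves have dimension at most 22** (`X` of order 11 with at least 24-dimensional fixed space on the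
248-dimensional module, the two kernels being of the same dimension) -/
theorem partR_le (h : _root_.Cfsg.Agent.H879.E83.Rel X Y T) (hM : finrank F M = 248)
    (hk : finrank F (LinearMap.ker (xN X)) = finrank F (LinearMap.ker (xR X)))
    (h24 : 24 ≤ finrank F (LinearMap.ker (X - 1))) : finrank F (partR X Y) ≤ 22 := by
  have h1 := five_le h
  have h2 := three_le h
  omega

theorem partN_le (h : _root_.Cfsg.Agent.H879.E83.Rel X Y T) (hM : finrank F M = 248)
    (hk : finrank F (LinearMap.ker (xN X)) = finrank F (LinearMap.ker (xR X)))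
    (h24 : 24 ≤ finrank F (LinearMap.ker (X - 1))) : finrank F (partN X Y) ≤ 22 := by
  rw [partN_eq h]
  refine partR_le (rel_inv h) hM ?_ ?_
  · rw [xN_inv h, xR_inv h, hk]
  · refine h24.trans (Submodule.finrank_mono ?_)
    intro v hv
    rw [LinearMap.mem_ker, LinearMap.sub_apply, sub_eq_zero] at hv ⊢
    exact pow_smul_fix (A := Module.End F M) hv 10

/-- **the case `dim M^B ≥ 24` is impossible** (no nonzero fixed vector of `⟨X, Y, T⟩`) -/
theorem no24 (h : _root_.Cfsg.Agent.H879.E83.Rel X Y T) (hinv : ∀ w : M, X w = w → Y w = w → T w = w → w = 0) (hM : finrank F M = 248)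
    (hk : finrank F (LinearMap.ker (xN X)) = finrank F (LinearMap.ker (xR X)))
    (h24 : 24 ≤ finrank F ↥(LinearMap.ker (X - 1) ⊓ LinearMap.ker (Y - 1))) : False := by
  have hinv' : ∀ w : M, X • w = w → Y • w = w → T • w = w → w = 0 := hinv
  let D : Submodule F M := LinearMap.ker (X - 1) ⊓ LinearMap.ker (Y - 1)
  have hD : ∀ v ∈ D, X • v = v ∧ Y • v = v := fun v hv => by
    obtain ⟨h1, h2⟩ := Submodule.mem_inf.1 hv
    rw [LinearMap.mem_ker, LinearMap.sub_apply, sub_eq_zero] at h1 h2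
    exact ⟨h1, h2⟩
  let g : M →ₗ[F] M := pP X Y * T - 1
  have hg : ∀ v ∈ D, g v ∈ partR X Y := fun v hv => by
    obtain ⟨hx, hy⟩ := hD v hv
    have e : g v = pP X Y • T • v - v := rfl
    rw [mem_partR, e]
    have h1 : Y • (pP X Y • T • v - v) = pP X Y • T • v - v := by
      rw [smul_sub, hy, ← mul_smul, pP, ← mul_assoc, ← mul_assoc, Y_mul_ey h]
    refine ⟨h1, ?_⟩
    have h2 := pM_a h hinv' hx hy
    rw [pM_eq h, neg_smul, mul_smul, ey_of_fix h h1, neg_eq_zero] at h2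
    exact h2
  let f : D →ₗ[F] partR X Y := (g.restrict hg)
  have hf : Function.Injective f := by
    rw [← LinearMap.ker_eq_bot, LinearMap.ker_eq_bot']
    rintro ⟨v, hv⟩ h0
    obtain ⟨hx, hy⟩ := hD v hv
    have e : pP X Y • T • v - v = 0 := congrArg Subtype.val h0
    exact Subtype.ext (inj_pP h hinv' hx hy (sub_eq_zero.1 e))
  have h1 := LinearMap.finrank_le_finrank_of_injective hf
  have h2 := partR_le h hM hk (h24.trans (Submodule.finrank_mono inf_le_left))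
  have h3 : 24 ≤ finrank F D := h24
  omega

end dim

end Cfsg.Agent.H395.E83
end

-- part: H879/E83/GThree
section
prune_inst 0x350041006522020800182596330000646400010200000000a8a00f000349e220a94728013ab0051090aa1c506800004000100180020000000a000c000003010000804000a30803040e001e800084000000000000000000000000000000000004000000000
set_option linter.all false
open scoped Cfsg.Agent.FastGrp

-- part: H879/E83/Tab
section
/-!
# S5925, box G3: tables of `pr_u (x_z .)` on `sl(W₀) ⊕ sl(W₁)` and their scalar identities (`g ^ 4 = 1 - g`, `3 = 0`)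
-/

set_option autoImplicit false
set_option linter.unusedVariables false
set_option linter.style.longLine false

namespace Cfsg.Agent.H879.E83

section scalars
variable {F : Type*} [Field F]

def k00 (g : F) : Fin 5 → F := ![0, g ^ 63, g ^ 26, g ^ 74, g ^ 7]
def k01 (g : F) : Fin 5 → F := ![g ^ 7, g ^ 63, g ^ 69, 0, g ^ 61]
def k10 (g : F) : Fin 5 → F := ![g ^ 63, g ^ 69, 0, g ^ 61, g ^ 7]
def k11 (g : F) : Fin 5 → F := ![0, g ^ 78, g ^ 21, g ^ 29, g ^ 62]
def m00 (g : F) : Fin 5 → F := ![0, g ^ 7, g ^ 74, g ^ 26, g ^ 63]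
def m01 (g : F) : Fin 5 → F := ![g ^ 63, g ^ 7, g ^ 61, 0, g ^ 69]
def m10 (g : F) : Fin 5 → F := ![g ^ 7, g ^ 61, 0, g ^ 69, g ^ 63]
def m11 (g : F) : Fin 5 → F := ![0, g ^ 62, g ^ 29, g ^ 21, g ^ 78]
def s00 : Fin 5 → F := ![0, 1, -1, -1, 1]
def s01 : Fin 5 → F := ![1, 1, -1, 0, -1]
def c1 (g : F) : Fin 5 → F := ![g ^ 16, g ^ 24, g ^ 48, g ^ 60, g ^ 72]
def c4 (g : F) : Fin 5 → F := ![g ^ 8, g ^ 64, g ^ 56, g ^ 32, g ^ 20]
def d3 (g : F) : Fin 5 → F := ![g ^ 48, g ^ 24, g ^ 16, g ^ 72, g ^ 60]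
def d2 (g : F) : Fin 5 → F := ![g ^ 64, g ^ 8, g ^ 20, g ^ 32, g ^ 56]

/-- exponents of the leading coefficients (box C1) -/
def bE : Fin 5 → Fin 5 → ℕ := ![![0, 0, 0, 0, 0], ![0, 69, 61, 13, 5], ![0, 31, 23, 55, 47], ![0, 23, 15, 47, 39], ![0, 45, 37, 69, 61]]
/-- `p(j, l) ∈ - δ_jl + {0, ± g ^ (eE j l)}` -/
def eE : Fin 5 → Fin 5 → ℕ := ![![0, 0, 0, 0, 0], ![0, 30, 24, 8, 22], ![0, 16, 10, 34, 8], ![0, 32, 26, 10, 24], ![0, 38, 32, 16, 30]]

/-- the character `a ↦ w ^ (j a)`, `w = g ^ 16` -/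
def ch (g : F) (j a : Fin 5) : F := g ^ (16 * (((j * a : Fin 5) : ℕ)))

variable {g : F}

theorem g80 (hg : g ^ 4 = 1 - g) (h3 : (3 : F) = 0) : g ^ 80 = 1 := by
  grobner
theorem a1 (hg : g ^ 4 = 1 - g) (h3 : (3 : F) = 0) : g ^ 63 + g ^ 7 = 1 := by
  grobner

theorem a2 (hg : g ^ 4 = 1 - g) (h3 : (3 : F) = 0) : g ^ 26 + g ^ 74 = -1 := by
  grobner

theorem a3 (hg : g ^ 4 = 1 - g) (h3 : (3 : F) = 0) : g ^ 69 + g ^ 61 = -1 := by
  grobner

theorem fix_k0 (hg : g ^ 4 = 1 - g) (h3 : (3 : F) = 0) (m : Fin 5) :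
    k00 g (m - 2) - k00 g m + k01 g m - k01 g (m - 1) = (if m = 2 then 1 else 0) - (if m = 0 then 1 else 0) := by
  fin_cases m
  · simp only [k00, k01, _root_.Cfsg.Agent.H879.E83.k00, _root_.Fin.zero_eta, _root_.Fin.isValue, _root_.zero_sub, _root_.Matrix.cons_val, _root_.Matrix.cons_val_zero, _root_.sub_zero, _root_.Cfsg.Agent.H879.E83.k01, _root_.Fin.reduceEq, ↓ _root_.reduceIte]
    try grobner
  · simp [k00, k01]
    try linear_combination (0) * hg + (0) * h3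
  · simp only [k00, k01, _root_.Cfsg.Agent.H879.E83.k00, _root_.Fin.reduceFinMk, _root_.Fin.isValue, _root_.sub_self, _root_.Matrix.cons_val_zero, _root_.Matrix.cons_val, _root_.zero_sub, _root_.Cfsg.Agent.H879.E83.k01, _root_.Fin.reduceSub, _root_.Matrix.cons_val_one, ↓ _root_.reduceIte, _root_.Fin.reduceEq, _root_.sub_zero]
    try grobner
  · simp [k00, k01]
    try linear_combination ((-1)*g^63 + (-1)*g^64 + (-1)*g^65 + (-1)*g^66 + (1)*g^67 + (-1)*g^70) * hg + ((1)*g^67) * h3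
  · simp only [k00, k01, _root_.Cfsg.Agent.H879.E83.k00, _root_.Fin.reduceFinMk, _root_.Fin.isValue, _root_.Fin.reduceSub, _root_.Matrix.cons_val, _root_.Cfsg.Agent.H879.E83.k01, _root_.sub_zero, _root_.Fin.reduceEq, ↓ _root_.reduceIte, _root_.sub_self]
    try grobner

theorem fix_k1 (hg : g ^ 4 = 1 - g) (h3 : (3 : F) = 0) (m : Fin 5) :
    k10 g (m - 2) - k10 g m + k11 g m - k11 g (m - 1) = (if m = 0 then 1 else 0) - (if m = 1 then 1 else 0) := by
  fin_cases m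
  · simp [k10, k11]
    try grobner
  · simp only [k10, k11, _root_.Cfsg.Agent.H879.E83.k10, _root_.Fin.mk_one, _root_.Fin.isValue, _root_.Fin.reduceSub, _root_.Matrix.cons_val, _root_.Matrix.cons_val_one, _root_.Matrix.cons_val_zero, _root_.Cfsg.Agent.H879.E83.k11, _root_.sub_self, _root_.sub_zero, _root_.one_ne_zero, ↓ _root_.reduceIte, _root_.zero_sub]
    try grobner
  · simp only [k10, k11, _root_.Cfsg.Agent.H879.E83.k10, _root_.Fin.reduceFinMk, _root_.Fin.isValue, _root_.sub_self, _root_.Matrix.cons_val_zero, _root_.Matrix.cons_val, _root_.sub_zero, _root_.Cfsg.Agent.H879.E83.k11, _root_.Fin.reduceSub, _root_.Matrix.cons_val_one, _root_.Fin.reduceEq, ↓ _root_.reduceIte]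
    try grobner
  · simp [k10, k11]
    try grobner
  · simp only [k10, k11, _root_.Cfsg.Agent.H879.E83.k10, _root_.Fin.reduceFinMk, _root_.Fin.isValue, _root_.Fin.reduceSub, _root_.Matrix.cons_val, _root_.zero_sub, _root_.Cfsg.Agent.H879.E83.k11, _root_.Fin.reduceEq, ↓ _root_.reduceIte, _root_.sub_self]
    try grobner

theorem fix_m0 (hg : g ^ 4 = 1 - g) (h3 : (3 : F) = 0) (m : Fin 5) :
    m00 g (m - 2) - m00 g m + m01 g m - m01 g (m - 1) = (if m = 2 then 1 else 0) - (if m = 0 then 1 else 0) := by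
  fin_cases m
  · simp only [m00, m01, _root_.Cfsg.Agent.H879.E83.m00, _root_.Fin.zero_eta, _root_.Fin.isValue, _root_.zero_sub, _root_.Matrix.cons_val, _root_.Matrix.cons_val_zero, _root_.sub_zero, _root_.Cfsg.Agent.H879.E83.m01, _root_.Fin.reduceEq, ↓ _root_.reduceIte]
    try grobner
  · simp [m00, m01]
    try linear_combination (0) * hg + (0) * h3
  · simp only [m00, m01, _root_.Cfsg.Agent.H879.E83.m00, _root_.Fin.reduceFinMk, _root_.Fin.isValue, _root_.sub_self, _root_.Matrix.cons_val_zero, _root_.Matrix.cons_val, _root_.zero_sub, _root_.Cfsg.Agent.H879.E83.m01, _root_.Fin.reduceSub, _root_.Matrix.cons_val_one, ↓ _root_.reduceIte, _root_.Fin.reduceEq, _root_.sub_zero]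
    try grobner
  · simp [m00, m01]
    try grobner
  · simp only [m00, m01, _root_.Cfsg.Agent.H879.E83.m00, _root_.Fin.reduceFinMk, _root_.Fin.isValue, _root_.Fin.reduceSub, _root_.Matrix.cons_val, _root_.Cfsg.Agent.H879.E83.m01, _root_.sub_zero, _root_.Fin.reduceEq, ↓ _root_.reduceIte, _root_.sub_self]
    try linear_combination ((1)*g^63 + (1)*g^64 + (1)*g^65 + (1)*g^66 + (-1)*g^67 + (1)*g^70) * hg + ((-1)*g^67) * h3

theorem fix_m1 (hg : g ^ 4 = 1 - g) (h3 : (3 : F) = 0) (m : Fin 5) :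
    m10 g (m - 2) - m10 g m + m11 g m - m11 g (m - 1) = (if m = 0 then 1 else 0) - (if m = 1 then 1 else 0) := by
  fin_cases m
  · simp [m10, m11]
    try grobner
  · simp only [m10, m11, _root_.Cfsg.Agent.H879.E83.m10, _root_.Fin.mk_one, _root_.Fin.isValue, _root_.Fin.reduceSub, _root_.Matrix.cons_val, _root_.Matrix.cons_val_one, _root_.Matrix.cons_val_zero, _root_.Cfsg.Agent.H879.E83.m11, _root_.sub_self, _root_.sub_zero, _root_.one_ne_zero, ↓ _root_.reduceIte, _root_.zero_sub]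
    try grobner
  · simp only [m10, m11, _root_.Cfsg.Agent.H879.E83.m10, _root_.Fin.reduceFinMk, _root_.Fin.isValue, _root_.sub_self, _root_.Matrix.cons_val_zero, _root_.Matrix.cons_val, _root_.sub_zero, _root_.Cfsg.Agent.H879.E83.m11, _root_.Fin.reduceSub, _root_.Matrix.cons_val_one, _root_.Fin.reduceEq, ↓ _root_.reduceIte]
    try grobner
  · simp [m10, m11]
    try grobner
  · simp only [m10, m11, _root_.Cfsg.Agent.H879.E83.m10, _root_.Fin.reduceFinMk, _root_.Fin.isValue, _root_.Fin.reduceSub, _root_.Matrix.cons_val, _root_.zero_sub, _root_.Cfsg.Agent.H879.E83.m11, _root_.Fin.reduceEq, ↓ _root_.reduceIte, _root_.sub_self]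
    try grobner

theorem sum_k00 (hg : g ^ 4 = 1 - g) (h3 : (3 : F) = 0) : ∑ m, k00 g m = 0 := by
  simp only [k00, Fin.sum_univ_five, Matrix.cons_val]
  grobner

theorem sum_k01 (hg : g ^ 4 = 1 - g) (h3 : (3 : F) = 0) : ∑ m, k01 g m = 0 := by
  simp only [k01, Fin.sum_univ_five, Matrix.cons_val]
  grobner

theorem sum_k10 (hg : g ^ 4 = 1 - g) (h3 : (3 : F) = 0) : ∑ m, k10 g m = 0 := by
  simp only [k10, Fin.sum_univ_five, Matrix.cons_val]
  grobner

theorem sum_k11 (hg : g ^ 4 = 1 - g) (h3 : (3 : F) = 0) : ∑ m, k11 g m = 0 := by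
  simp only [k11, Fin.sum_univ_five, Matrix.cons_val]
  grobner

theorem sum_m00 (hg : g ^ 4 = 1 - g) (h3 : (3 : F) = 0) : ∑ m, m00 g m = 0 := by
  simp only [m00, Fin.sum_univ_five, Matrix.cons_val]
  grobner

theorem sum_m01 (hg : g ^ 4 = 1 - g) (h3 : (3 : F) = 0) : ∑ m, m01 g m = 0 := by
  simp only [m01, Fin.sum_univ_five, Matrix.cons_val]
  grobner

theorem sum_m10 (hg : g ^ 4 = 1 - g) (h3 : (3 : F) = 0) : ∑ m, m10 g m = 0 := by
  simp only [m10, Fin.sum_univ_five, Matrix.cons_val]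
  grobner

theorem sum_m11 (hg : g ^ 4 = 1 - g) (h3 : (3 : F) = 0) : ∑ m, m11 g m = 0 := by
  simp only [m11, Fin.sum_univ_five, Matrix.cons_val]
  grobner


theorem gw (hg : g ^ 4 = 1 - g) (h3 : (3 : F) = 0) (n : ℕ) : g ^ (16 * n) = g ^ (16 * (n % 5)) := by
  conv_lhs => rw [← Nat.div_add_mod n 5]
  rw [show 16 * (5 * (n / 5) + n % 5) = 80 * (n / 5) + 16 * (n % 5) by ring, pow_add, pow_mul, g80 hg h3, one_pow, one_mul]

theorem g_ne (hg : g ^ 4 = 1 - g) : g ≠ 0 := by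
  rintro rfl
  norm_num at hg

theorem ch_add (hg : g ^ 4 = 1 - g) (h3 : (3 : F) = 0) (j a b : Fin 5) : ch g j (a + b) = ch g j a * ch g j b := by
  have e : ((j * (a + b) : Fin 5) : ℕ) = (((j * a : Fin 5) : ℕ) + ((j * b : Fin 5) : ℕ)) % 5 := by
    revert j a b; decide +kernel
  rw [ch, ch, ch, e, ← pow_add, ← mul_add, gw hg h3 (_ + _)]

theorem ch_add_left (hg : g ^ 4 = 1 - g) (h3 : (3 : F) = 0) (j l a : Fin 5) : ch g (j + l) a = ch g j a * ch g l a := by
  have e : (((j + l) * a : Fin 5) : ℕ) = (((j * a : Fin 5) : ℕ) + ((l * a : Fin 5) : ℕ)) % 5 := by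
    revert j l a; decide +kernel
  rw [ch, ch, ch, e, ← pow_add, ← mul_add, gw hg h3 (_ + _)]

theorem ch_cube (hg : g ^ 4 = 1 - g) (h3 : (3 : F) = 0) (j a : Fin 5) : ch g j a ^ 3 = ch g j (3 * a) := by
  have e : ((j * (3 * a) : Fin 5) : ℕ) = (3 * ((j * a : Fin 5) : ℕ)) % 5 := by
    revert j a; decide
  rw [ch, ch, e, ← pow_mul, ← gw hg h3]
  congr 1; ring

theorem ch_comm (g : F) (j a : Fin 5) : ch g j a = ch g a j := by rw [ch, ch, mul_comm j a]

theorem ch_zero (g : F) (j : Fin 5) : ch g j 0 = 1 := by rw [ch, mul_zero]; simp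

theorem ch_zero_left (g : F) (a : Fin 5) : ch g 0 a = 1 := by rw [ch_comm, ch_zero]

theorem ch_neg_mul (hg : g ^ 4 = 1 - g) (h3 : (3 : F) = 0) (j a : Fin 5) : ch g (-j) a * ch g j a = 1 := by
  rw [← ch_add_left hg h3, neg_add_cancel, ch_zero_left]

theorem ch_sum (hg : g ^ 4 = 1 - g) (h3 : (3 : F) = 0) (j : Fin 5) (hj : j ≠ 0) : ∑ a, ch g j a = 0 := by
  have k : ∀ a : Fin 5, ch g j a = g ^ (16 * ((j * a : Fin 5) : ℕ)) := fun _ => rfl
  simp only [k, Fin.sum_univ_five]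
  fin_cases j
  · exact absurd rfl hj
  · change g ^ 0 + g ^ 16 + g ^ 32 + g ^ 48 + g ^ 64 = 0
    grobner
  · change g ^ 0 + g ^ 32 + g ^ 64 + g ^ 16 + g ^ 48 = 0
    grobner
  · change g ^ 0 + g ^ 48 + g ^ 16 + g ^ 64 + g ^ 32 = 0
    grobner
  · change g ^ 0 + g ^ 64 + g ^ 48 + g ^ 32 + g ^ 16 = 0
    grobner

def beE : Fin 5 → ℕ := ![0, 52, 44, 76, 68]
def alE : Fin 5 → ℕ := ![0, 70, 50, 50, 70]

theorem ft_s01 (hg : g ^ 4 = 1 - g) (h3 : (3 : F) = 0) (l : Fin 5) (hl : l ≠ 0) : ∑ m, ch g (-l) m * s01 m = g ^ (beE l) := by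
  simp only [Fin.sum_univ_five, s00, s01, Matrix.cons_val]
  fin_cases l
  · exact absurd rfl hl
  · have e : ∀ m : Fin 5, ch g (-(1 : Fin 5)) m = g ^ (16 * ((-(1 : Fin 5) * m : Fin 5) : ℕ)) := fun _ => rfl
    have e0 : ch g (-(1 : Fin 5)) 0 = g ^ 0 := rfl
    have e1 : ch g (-(1 : Fin 5)) 1 = g ^ 64 := rfl
    have e2 : ch g (-(1 : Fin 5)) 2 = g ^ 48 := rfl
    have e3 : ch g (-(1 : Fin 5)) 3 = g ^ 32 := rfl
    have e4 : ch g (-(1 : Fin 5)) 4 = g ^ 16 := rfl
    change ch g (-(1 : Fin 5)) 0 * _ + ch g (-(1 : Fin 5)) 1 * _ + ch g (-(1 : Fin 5)) 2 * _ + ch g (-(1 : Fin 5)) 3 * _ + ch g (-(1 : Fin 5)) 4 * _ = g ^ 52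
    rw [e0, e1, e2, e3, e4]
    grobner
  · have e : ∀ m : Fin 5, ch g (-(2 : Fin 5)) m = g ^ (16 * ((-(2 : Fin 5) * m : Fin 5) : ℕ)) := fun _ => rfl
    have e0 : ch g (-(2 : Fin 5)) 0 = g ^ 0 := rfl
    have e1 : ch g (-(2 : Fin 5)) 1 = g ^ 48 := rfl
    have e2 : ch g (-(2 : Fin 5)) 2 = g ^ 16 := rfl
    have e3 : ch g (-(2 : Fin 5)) 3 = g ^ 64 := rfl
    have e4 : ch g (-(2 : Fin 5)) 4 = g ^ 32 := rfl
    change ch g (-(2 : Fin 5)) 0 * _ + ch g (-(2 : Fin 5)) 1 * _ + ch g (-(2 : Fin 5)) 2 * _ + ch g (-(2 : Fin 5)) 3 * _ + ch g (-(2 : Fin 5)) 4 * _ = g ^ 44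
    rw [e0, e1, e2, e3, e4]
    grobner
  · have e : ∀ m : Fin 5, ch g (-(3 : Fin 5)) m = g ^ (16 * ((-(3 : Fin 5) * m : Fin 5) : ℕ)) := fun _ => rfl
    have e0 : ch g (-(3 : Fin 5)) 0 = g ^ 0 := rfl
    have e1 : ch g (-(3 : Fin 5)) 1 = g ^ 32 := rfl
    have e2 : ch g (-(3 : Fin 5)) 2 = g ^ 64 := rfl
    have e3 : ch g (-(3 : Fin 5)) 3 = g ^ 16 := rfl
    have e4 : ch g (-(3 : Fin 5)) 4 = g ^ 48 := rfl
    change ch g (-(3 : Fin 5)) 0 * _ + ch g (-(3 : Fin 5)) 1 * _ + ch g (-(3 : Fin 5)) 2 * _ + ch g (-(3 : Fin 5)) 3 * _ + ch g (-(3 : Fin 5)) 4 * _ = g ^ 76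
    rw [e0, e1, e2, e3, e4]
    grobner
  · have e : ∀ m : Fin 5, ch g (-(4 : Fin 5)) m = g ^ (16 * ((-(4 : Fin 5) * m : Fin 5) : ℕ)) := fun _ => rfl
    have e0 : ch g (-(4 : Fin 5)) 0 = g ^ 0 := rfl
    have e1 : ch g (-(4 : Fin 5)) 1 = g ^ 16 := rfl
    have e2 : ch g (-(4 : Fin 5)) 2 = g ^ 32 := rfl
    have e3 : ch g (-(4 : Fin 5)) 3 = g ^ 48 := rfl
    have e4 : ch g (-(4 : Fin 5)) 4 = g ^ 64 := rfl
    change ch g (-(4 : Fin 5)) 0 * _ + ch g (-(4 : Fin 5)) 1 * _ + ch g (-(4 : Fin 5)) 2 * _ + ch g (-(4 : Fin 5)) 3 * _ + ch g (-(4 : Fin 5)) 4 * _ = g ^ 68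
    rw [e0, e1, e2, e3, e4]
    grobner

theorem ft_s00 (hg : g ^ 4 = 1 - g) (h3 : (3 : F) = 0) (l : Fin 5) (hl : l ≠ 0) : ∑ m, ch g (-l) m * s00 m - 1 = g ^ (alE l) := by
  simp only [Fin.sum_univ_five, s00, s01, Matrix.cons_val]
  fin_cases l
  · exact absurd rfl hl
  · have e : ∀ m : Fin 5, ch g (-(1 : Fin 5)) m = g ^ (16 * ((-(1 : Fin 5) * m : Fin 5) : ℕ)) := fun _ => rfl
    have e0 : ch g (-(1 : Fin 5)) 0 = g ^ 0 := rfl
    have e1 : ch g (-(1 : Fin 5)) 1 = g ^ 64 := rfl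
    have e2 : ch g (-(1 : Fin 5)) 2 = g ^ 48 := rfl
    have e3 : ch g (-(1 : Fin 5)) 3 = g ^ 32 := rfl
    have e4 : ch g (-(1 : Fin 5)) 4 = g ^ 16 := rfl
    change ch g (-(1 : Fin 5)) 0 * _ + ch g (-(1 : Fin 5)) 1 * _ + ch g (-(1 : Fin 5)) 2 * _ + ch g (-(1 : Fin 5)) 3 * _ + ch g (-(1 : Fin 5)) 4 * _ - 1 = g ^ 70
    rw [e0, e1, e2, e3, e4]
    grobner
  · have e : ∀ m : Fin 5, ch g (-(2 : Fin 5)) m = g ^ (16 * ((-(2 : Fin 5) * m : Fin 5) : ℕ)) := fun _ => rfl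
    have e0 : ch g (-(2 : Fin 5)) 0 = g ^ 0 := rfl
    have e1 : ch g (-(2 : Fin 5)) 1 = g ^ 48 := rfl
    have e2 : ch g (-(2 : Fin 5)) 2 = g ^ 16 := rfl
    have e3 : ch g (-(2 : Fin 5)) 3 = g ^ 64 := rfl
    have e4 : ch g (-(2 : Fin 5)) 4 = g ^ 32 := rfl
    change ch g (-(2 : Fin 5)) 0 * _ + ch g (-(2 : Fin 5)) 1 * _ + ch g (-(2 : Fin 5)) 2 * _ + ch g (-(2 : Fin 5)) 3 * _ + ch g (-(2 : Fin 5)) 4 * _ - 1 = g ^ 50
    rw [e0, e1, e2, e3, e4]
    grobner
  · have e : ∀ m : Fin 5, ch g (-(3 : Fin 5)) m = g ^ (16 * ((-(3 : Fin 5) * m : Fin 5) : ℕ)) := fun _ => rfl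
    have e0 : ch g (-(3 : Fin 5)) 0 = g ^ 0 := rfl
    have e1 : ch g (-(3 : Fin 5)) 1 = g ^ 32 := rfl
    have e2 : ch g (-(3 : Fin 5)) 2 = g ^ 64 := rfl
    have e3 : ch g (-(3 : Fin 5)) 3 = g ^ 16 := rfl
    have e4 : ch g (-(3 : Fin 5)) 4 = g ^ 48 := rfl
    change ch g (-(3 : Fin 5)) 0 * _ + ch g (-(3 : Fin 5)) 1 * _ + ch g (-(3 : Fin 5)) 2 * _ + ch g (-(3 : Fin 5)) 3 * _ + ch g (-(3 : Fin 5)) 4 * _ - 1 = g ^ 50
    rw [e0, e1, e2, e3, e4]
    grobner
  · have e : ∀ m : Fin 5, ch g (-(4 : Fin 5)) m = g ^ (16 * ((-(4 : Fin 5) * m : Fin 5) : ℕ)) := fun _ => rfl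
    have e0 : ch g (-(4 : Fin 5)) 0 = g ^ 0 := rfl
    have e1 : ch g (-(4 : Fin 5)) 1 = g ^ 16 := rfl
    have e2 : ch g (-(4 : Fin 5)) 2 = g ^ 32 := rfl
    have e3 : ch g (-(4 : Fin 5)) 3 = g ^ 48 := rfl
    have e4 : ch g (-(4 : Fin 5)) 4 = g ^ 64 := rfl
    change ch g (-(4 : Fin 5)) 0 * _ + ch g (-(4 : Fin 5)) 1 * _ + ch g (-(4 : Fin 5)) 2 * _ + ch g (-(4 : Fin 5)) 3 * _ + ch g (-(4 : Fin 5)) 4 * _ - 1 = g ^ 70
    rw [e0, e1, e2, e3, e4]
    grobner

theorem I1 (hg : g ^ 4 = 1 - g) (h3 : (3 : F) = 0) (j l : Fin 5) (hj : j ≠ 0) (hl : l ≠ 0) :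
    g ^ (beE l) * (1 - ch g j (-1)) = g ^ (bE j l) := by
  have e : ch g j (-1) = g ^ (16 * ((j * (-1) : Fin 5) : ℕ)) := rfl
  rw [e]
  fin_cases j <;> fin_cases l
  · exact absurd rfl hj
  · exact absurd rfl hj
  · exact absurd rfl hj
  · exact absurd rfl hj
  · exact absurd rfl hj
  · exact absurd rfl hl
  · change g ^ 52 * (1 - g ^ 64) = g ^ 69
    grobner
  · change g ^ 44 * (1 - g ^ 64) = g ^ 61
    grobner
  · change g ^ 76 * (1 - g ^ 64) = g ^ 13
    grobner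
  · change g ^ 68 * (1 - g ^ 64) = g ^ 5
    grobner
  · exact absurd rfl hl
  · change g ^ 52 * (1 - g ^ 48) = g ^ 31
    grobner
  · change g ^ 44 * (1 - g ^ 48) = g ^ 23
    grobner
  · change g ^ 76 * (1 - g ^ 48) = g ^ 55
    grobner
  · change g ^ 68 * (1 - g ^ 48) = g ^ 47
    grobner
  · exact absurd rfl hl
  · change g ^ 52 * (1 - g ^ 32) = g ^ 23
    grobner
  · change g ^ 44 * (1 - g ^ 32) = g ^ 15
    grobner
  · change g ^ 76 * (1 - g ^ 32) = g ^ 47
    grobner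
  · change g ^ 68 * (1 - g ^ 32) = g ^ 39
    grobner
  · exact absurd rfl hl
  · change g ^ 52 * (1 - g ^ 16) = g ^ 45
    grobner
  · change g ^ 44 * (1 - g ^ 16) = g ^ 37
    grobner
  · change g ^ 76 * (1 - g ^ 16) = g ^ 69
    grobner
  · change g ^ 68 * (1 - g ^ 16) = g ^ 61
    grobner

theorem I2 (hg : g ^ 4 = 1 - g) (h3 : (3 : F) = 0) (j l : Fin 5) (hj : j ≠ 0) (hl : l ≠ 0) :
    g ^ (alE l) * (ch g j (-2) - 1) = - (g ^ (bE j l) * (g ^ (eE j l)) ^ 2) := by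
  have e : ch g j (-2) = g ^ (16 * ((j * (-2) : Fin 5) : ℕ)) := rfl
  rw [e]
  fin_cases j <;> fin_cases l
  · exact absurd rfl hj
  · exact absurd rfl hj
  · exact absurd rfl hj
  · exact absurd rfl hj
  · exact absurd rfl hj
  · exact absurd rfl hl
  · change g ^ 70 * (g ^ 48 - 1) = - (g ^ 69 * (g ^ 30) ^ 2)
    grobner
  · change g ^ 50 * (g ^ 48 - 1) = - (g ^ 61 * (g ^ 24) ^ 2)
    grobner
  · change g ^ 50 * (g ^ 48 - 1) = - (g ^ 13 * (g ^ 8) ^ 2)
    grobner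
  · change g ^ 70 * (g ^ 48 - 1) = - (g ^ 5 * (g ^ 22) ^ 2)
    grobner
  · exact absurd rfl hl
  · change g ^ 70 * (g ^ 16 - 1) = - (g ^ 31 * (g ^ 16) ^ 2)
    grobner
  · change g ^ 50 * (g ^ 16 - 1) = - (g ^ 23 * (g ^ 10) ^ 2)
    grobner
  · change g ^ 50 * (g ^ 16 - 1) = - (g ^ 55 * (g ^ 34) ^ 2)
    grobner
  · change g ^ 70 * (g ^ 16 - 1) = - (g ^ 47 * (g ^ 8) ^ 2)
    grobner
  · exact absurd rfl hl
  · change g ^ 70 * (g ^ 64 - 1) = - (g ^ 23 * (g ^ 32) ^ 2)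
    grobner
  · change g ^ 50 * (g ^ 64 - 1) = - (g ^ 15 * (g ^ 26) ^ 2)
    grobner
  · change g ^ 50 * (g ^ 64 - 1) = - (g ^ 47 * (g ^ 10) ^ 2)
    grobner
  · change g ^ 70 * (g ^ 64 - 1) = - (g ^ 39 * (g ^ 24) ^ 2)
    grobner
  · exact absurd rfl hl
  · change g ^ 70 * (g ^ 32 - 1) = - (g ^ 45 * (g ^ 38) ^ 2)
    grobner
  · change g ^ 50 * (g ^ 32 - 1) = - (g ^ 37 * (g ^ 32) ^ 2)
    grobner
  · change g ^ 50 * (g ^ 32 - 1) = - (g ^ 69 * (g ^ 16) ^ 2)
    grobner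
  · change g ^ 70 * (g ^ 32 - 1) = - (g ^ 61 * (g ^ 30) ^ 2)
    grobner

theorem I3 (hg : g ^ 4 = 1 - g) (h3 : (3 : F) = 0) (j : Fin 5) (hj : j ≠ 0) :
    g ^ (alE j) * (ch g j (-2) - 1) + g ^ (beE j) * (1 - ch g j (-1)) = ch g j (-2) - 1 := by
  have e : ch g j (-2) = g ^ (16 * ((j * (-2) : Fin 5) : ℕ)) := rfl
  have e' : ch g j (-1) = g ^ (16 * ((j * (-1) : Fin 5) : ℕ)) := rfl
  rw [e, e']
  fin_cases j
  · exact absurd rfl hj
  · change g ^ 70 * (g ^ 48 - 1) + g ^ 52 * (1 - g ^ 64) = g ^ 48 - 1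
    grobner
  · change g ^ 50 * (g ^ 16 - 1) + g ^ 44 * (1 - g ^ 48) = g ^ 16 - 1
    grobner
  · change g ^ 50 * (g ^ 64 - 1) + g ^ 76 * (1 - g ^ 32) = g ^ 64 - 1
    grobner
  · change g ^ 70 * (g ^ 32 - 1) + g ^ 68 * (1 - g ^ 16) = g ^ 32 - 1
    grobner

end scalars
end Cfsg.Agent.H879.E83
end

-- part: H879/E83/GThree
section
/-!
# S5925, box G3: the equations C1 and C3 in coordinates

`ι : Mt F × Mt F → L` the embedding of `gl(W₀) ⊕ gl(W₁)` (scalars to `0`) with image the fixed space of `y`;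
`T ι(A, B) = ι(- q₀⁻¹ Aᵀ q₀, - q₁⁻¹ Bᵀ q₁)`.
-/

set_option autoImplicit false
set_option linter.style.longLine false

namespace Cfsg.Agent.H879.E83
open Matrix

abbrev Mt (F : Type*) := Matrix (Fin 5) (Fin 5) F

section defs
variable {F : Type*} [Field F]

def cr5 (k : Fin 5 → F) (A : Mt F) (a : Fin 5) : F := ∑ c, k (a - c) * A c c

/-- `pr_u (x .)`, first component -/
def XP0 (g : F) (A B : Mt F) : Mt F := fun a b =>
  if b = a then cr5 (k00 g) A a + cr5 (k01 g) B a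
  else if b = a + 1 then g ^ 50 * A a b + c1 g a * B (a + 1) (a + 4)
  else if b = a + 2 then A a b
  else if b = a + 3 then 0
  else g ^ 70 * A a b + c4 g a * B (a + 3) a

/-- `pr_u (x .)`, second component -/
def XP1 (g : F) (A B : Mt F) : Mt F := fun a b =>
  if b = a then cr5 (k10 g) A a + cr5 (k11 g) B a
  else if b = a + 1 then B a b
  else if b = a + 2 then g ^ 50 * B a b + d2 g a * A (a + 2) (a + 1)
  else if b = a + 3 then g ^ 70 * B a b + d3 g a * A (a + 4) a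
  else 0

/-- `pr_u (x⁻¹ .)`, first component -/
def XM0 (g : F) (A B : Mt F) : Mt F := fun a b =>
  if b = a then cr5 (m00 g) A a + cr5 (m01 g) B a
  else if b = a + 1 then g ^ 70 * A a b - c1 g a * B (a + 1) (a + 4)
  else if b = a + 2 then 0
  else if b = a + 3 then A a b
  else g ^ 50 * A a b - c4 g a * B (a + 3) a

/-- `pr_u (x⁻¹ .)`, second component -/
def XM1 (g : F) (A B : Mt F) : Mt F := fun a b =>
  if b = a then cr5 (m10 g) A a + cr5 (m11 g) B a
  else if b = a + 1 then 0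
  else if b = a + 2 then g ^ 70 * B a b - d2 g a * A (a + 2) (a + 1)
  else if b = a + 3 then g ^ 50 * B a b - d3 g a * A (a + 4) a
  else B a b

/-- the fixed space of `B` in coordinates -/
def V0 (D : Fin 5 → F) : Mt F := Matrix.diagonal fun a => D (a - 2) - D a
def V1 (D : Fin 5 → F) : Mt F := Matrix.diagonal fun a => D a - D (a - 1)

structure GFrame (g : F) {L : Type*} [AddCommGroup L] [Module F L] (X Y T : Module.End F L)
    (ι : Mt F × Mt F →ₗ[F] L) (q0 r0 q1 r1 : Mt F) : Prop where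
  hg : g ^ 4 = 1 - g
  h3 : (3 : F) = 0
  rel : Rel X Y T
  sum0 : ∀ v : L, X • v = v → Y • v = v → v + sX X • T • v = 0
  inj : ∀ p : Mt F × Mt F, p.1.trace = 0 → p.2.trace = 0 → ι p = 0 → p = 0
  fixY : ∀ p : Mt F × Mt F, p.1.trace = 0 → p.2.trace = 0 → Y • ι p = ι p
  xp : ∀ p : Mt F × Mt F, p.1.trace = 0 → p.2.trace = 0 → ey Y • X • ι p = ι (XP0 g p.1 p.2, XP1 g p.1 p.2)
  xm : ∀ p : Mt F × Mt F, p.1.trace = 0 → p.2.trace = 0 → ey Y • X ^ 10 • ι p = ι (XM0 g p.1 p.2, XM1 g p.1 p.2)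
  tq : ∀ p : Mt F × Mt F, p.1.trace = 0 → p.2.trace = 0 → T • ι p = ι (-(r0 * p.1ᵀ * q0), -(r1 * p.2ᵀ * q1))
  rq0 : r0 * q0 = 1
  rq1 : r1 * q1 = 1

end defs

section lemmas
variable {F : Type*} [Field F] {g : F}

theorem fin5_or (a b : Fin 5) (h : b ≠ a) : b = a + 1 ∨ b = a + 2 ∨ b = a + 3 ∨ b = a + 4 := by
  revert a b; decide

theorem sum_sub_left (k : Fin 5 → F) (c : Fin 5) : ∑ a, k (a - c) = ∑ m, k m :=
  Fintype.sum_equiv (Equiv.subRight c) _ _ fun _ => rfl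

theorem sum_cr5 (k : Fin 5 → F) (A : Mt F) : ∑ a, cr5 k A a = (∑ m, k m) * A.trace := by
  unfold cr5
  rw [Finset.sum_comm]
  simp only [← Finset.sum_mul, sum_sub_left]
  rw [Matrix.trace, Finset.mul_sum]
  rfl

theorem trace_XP0 (hg : g ^ 4 = 1 - g) (h3 : (3 : F) = 0) (A B : Mt F) : (XP0 g A B).trace = 0 := by
  have e : (XP0 g A B).trace = ∑ a, cr5 (k00 g) A a + ∑ a, cr5 (k01 g) B a := by
    rw [← Finset.sum_add_distrib, Matrix.trace]
    exact Finset.sum_congr rfl fun a _ => by simp [XP0]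
  rw [e, sum_cr5, sum_cr5, sum_k00 hg h3, sum_k01 hg h3]; ring

theorem trace_XP1 (hg : g ^ 4 = 1 - g) (h3 : (3 : F) = 0) (A B : Mt F) : (XP1 g A B).trace = 0 := by
  have e : (XP1 g A B).trace = ∑ a, cr5 (k10 g) A a + ∑ a, cr5 (k11 g) B a := by
    rw [← Finset.sum_add_distrib, Matrix.trace]
    exact Finset.sum_congr rfl fun a _ => by simp [XP1]
  rw [e, sum_cr5, sum_cr5, sum_k10 hg h3, sum_k11 hg h3]; ring

theorem trace_XM0 (hg : g ^ 4 = 1 - g) (h3 : (3 : F) = 0) (A B : Mt F) : (XM0 g A B).trace = 0 := by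
  have e : (XM0 g A B).trace = ∑ a, cr5 (m00 g) A a + ∑ a, cr5 (m01 g) B a := by
    rw [← Finset.sum_add_distrib, Matrix.trace]
    exact Finset.sum_congr rfl fun a _ => by simp [XM0]
  rw [e, sum_cr5, sum_cr5, sum_m00 hg h3, sum_m01 hg h3]; ring

theorem trace_XM1 (hg : g ^ 4 = 1 - g) (h3 : (3 : F) = 0) (A B : Mt F) : (XM1 g A B).trace = 0 := by
  have e : (XM1 g A B).trace = ∑ a, cr5 (m10 g) A a + ∑ a, cr5 (m11 g) B a := by
    rw [← Finset.sum_add_distrib, Matrix.trace]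
    exact Finset.sum_congr rfl fun a _ => by simp [XM1]
  rw [e, sum_cr5, sum_cr5, sum_m10 hg h3, sum_m11 hg h3]; ring

theorem trace_V0 (D : Fin 5 → F) : (V0 D).trace = 0 := by
  rw [V0, Matrix.trace_diagonal, Finset.sum_sub_distrib]
  have : ∑ a, D (a - 2) = ∑ a, D a := sum_sub_left D 2
  rw [this, sub_self]

theorem trace_V1 (D : Fin 5 → F) : (V1 D).trace = 0 := by
  rw [V1, Matrix.trace_diagonal, Finset.sum_sub_distrib]
  have : ∑ a, D (a - 1) = ∑ a, D a := sum_sub_left D 1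
  rw [this, sub_self]

/-- the convolution of `k` with `D(· - s)` -/
theorem conv_shift (k D : Fin 5 → F) (a s : Fin 5) : ∑ c, k (a - c) * D (c - s) = ∑ c, k (a - c - s) * D c := by
  refine Fintype.sum_equiv (Equiv.subRight s) _ _ fun c => ?_
  change k (a - c) * D (c - s) = k (a - (c - s) - s) * D (c - s)
  congr 2
  revert a c s; decide +kernel

theorem circ_V (K0 K1 : Fin 5 → F) (D : Fin 5 → F) (t : Fin 5 → F)
    (h : ∀ m, K0 (m - 2) - K0 m + K1 m - K1 (m - 1) = t m) (a : Fin 5) :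
    cr5 K0 (V0 D) a + cr5 K1 (V1 D) a = ∑ c, t (a - c) * D c := by
  have e0 : cr5 K0 (V0 D) a = ∑ c, K0 (a - c - 2) * D c - ∑ c, K0 (a - c) * D c := by
    rw [← conv_shift K0 D a 2, ← Finset.sum_sub_distrib]
    exact Finset.sum_congr rfl fun c _ => by simp [V0, mul_sub]
  have e1 : cr5 K1 (V1 D) a = ∑ c, K1 (a - c) * D c - ∑ c, K1 (a - c - 1) * D c := by
    rw [← conv_shift K1 D a 1, ← Finset.sum_sub_distrib]
    exact Finset.sum_congr rfl fun c _ => by simp [V1, mul_sub]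
  rw [e0, e1, ← Finset.sum_sub_distrib, ← Finset.sum_sub_distrib, ← Finset.sum_add_distrib]
  refine Finset.sum_congr rfl fun c _ => ?_
  rw [← h]; ring

theorem delta_conv (D : Fin 5 → F) (a s : Fin 5) : ∑ c, (if a - c = s then (1 : F) else 0) * D c = D (a - s) := by
  have : ∀ c : Fin 5, (a - c = s) ↔ (c = a - s) := by revert a s; decide +kernel
  simp only [this, ite_mul, one_mul, zero_mul, Finset.sum_ite_eq', Finset.mem_univ, if_true]

theorem circ_V0 {K0 K1 : Fin 5 → F}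
    (h : ∀ m, K0 (m - 2) - K0 m + K1 m - K1 (m - 1) = (if m = 2 then 1 else 0) - (if m = 0 then 1 else 0))
    (D : Fin 5 → F) (a : Fin 5) : cr5 K0 (V0 D) a + cr5 K1 (V1 D) a = V0 D a a := by
  rw [circ_V K0 K1 D _ h, V0, Matrix.diagonal_apply_eq]
  simp only [sub_mul, Finset.sum_sub_distrib, delta_conv, sub_zero]

theorem circ_V1 {K0 K1 : Fin 5 → F}
    (h : ∀ m, K0 (m - 2) - K0 m + K1 m - K1 (m - 1) = (if m = 0 then 1 else 0) - (if m = 1 then 1 else 0))
    (D : Fin 5 → F) (a : Fin 5) : cr5 K0 (V0 D) a + cr5 K1 (V1 D) a = V1 D a a := by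
  rw [circ_V K0 K1 D _ h, V1, Matrix.diagonal_apply_eq]
  simp only [sub_mul, Finset.sum_sub_distrib, delta_conv, sub_zero]

theorem V0_off (D : Fin 5 → F) {a b : Fin 5} (h : a ≠ b) : V0 D a b = 0 := Matrix.diagonal_apply_ne _ h
theorem V1_off (D : Fin 5 → F) {a b : Fin 5} (h : a ≠ b) : V1 D a b = 0 := Matrix.diagonal_apply_ne _ h

theorem ne14 (a : Fin 5) : a + 1 ≠ a + 4 := by revert a; decide
theorem ne30 (a : Fin 5) : a + 3 ≠ a := by revert a; decide
theorem ne21 (a : Fin 5) : a + 2 ≠ a + 1 := by revert a; decide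
theorem ne40 (a : Fin 5) : a + 4 ≠ a := by revert a; decide

theorem XP0_V (hg : g ^ 4 = 1 - g) (h3 : (3 : F) = 0) (D : Fin 5 → F) : XP0 g (V0 D) (V1 D) = V0 D := by
  funext a b
  by_cases h : b = a
  · subst h
    simp only [XP0, if_true]
    exact circ_V0 (fix_k0 hg h3) D b
  · simp only [XP0, if_neg h, V0_off D (Ne.symm h), V1_off D (ne14 a), V1_off D (ne30 a), mul_zero, add_zero, ite_self]

theorem XP1_V (hg : g ^ 4 = 1 - g) (h3 : (3 : F) = 0) (D : Fin 5 → F) : XP1 g (V0 D) (V1 D) = V1 D := by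
  funext a b
  by_cases h : b = a
  · subst h
    simp only [XP1, if_true]
    exact circ_V1 (fix_k1 hg h3) D b
  · simp only [XP1, if_neg h, V1_off D (Ne.symm h), V0_off D (ne21 a), V0_off D (ne40 a), mul_zero, add_zero, ite_self]

theorem XM0_V (hg : g ^ 4 = 1 - g) (h3 : (3 : F) = 0) (D : Fin 5 → F) : XM0 g (V0 D) (V1 D) = V0 D := by
  funext a b
  by_cases h : b = a
  · subst h
    simp only [XM0, if_true]
    exact circ_V0 (fix_m0 hg h3) D b
  · simp only [XM0, if_neg h, V0_off D (Ne.symm h), V1_off D (ne14 a), V1_off D (ne30 a), mul_zero, sub_zero, ite_self]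

theorem XM1_V (hg : g ^ 4 = 1 - g) (h3 : (3 : F) = 0) (D : Fin 5 → F) : XM1 g (V0 D) (V1 D) = V1 D := by
  funext a b
  by_cases h : b = a
  · subst h
    simp only [XM1, if_true]
    exact circ_V1 (fix_m1 hg h3) D b
  · simp only [XM1, if_neg h, V1_off D (Ne.symm h), V0_off D (ne21 a), V0_off D (ne40 a), mul_zero, sub_zero, ite_self]

end lemmas

section main
variable {F : Type*} [Field F] {g : F} {L : Type*} [AddCommGroup L] [Module F L] {X Y T : Module.End F L}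
  {ι : Mt F × Mt F →ₗ[F] L} {q0 r0 q1 r1 : Mt F}

/-- the two components of `T v`, `v = ι (V0 D, V1 D)` -/
def TA (q0 r0 : Mt F) (D : Fin 5 → F) : Mt F := -(r0 * V0 D * q0)
def TB (q1 r1 : Mt F) (D : Fin 5 → F) : Mt F := -(r1 * V1 D * q1)

theorem trace_conj {q r A : Mt F} (h : r * q = 1) (hA : A.trace = 0) : (-(r * A * q)).trace = 0 := by
  have h' : q * r = 1 := mul_eq_one_comm.mp h
  rw [Matrix.trace_neg, Matrix.trace_mul_comm, ← Matrix.mul_assoc, h', Matrix.one_mul, hA, neg_zero]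

theorem GFrame.X_v (h : GFrame g X Y T ι q0 r0 q1 r1) (D : Fin 5 → F) : X • ι (V0 D, V1 D) = ι (V0 D, V1 D) := by
  set v := ι (V0 D, V1 D) with hv
  have hY : Y • v = v := h.fixY _ (trace_V0 D) (trace_V1 D)
  have e0 : ey Y • v = v := ey_of_fix h.rel hY
  have e1 : pP X Y • v = v := by
    rw [pP, mul_smul, mul_smul, e0, hv, h.xp _ (trace_V0 D) (trace_V1 D)]
    simp only [XP0_V h.hg h.h3, XP1_V h.hg h.h3]
  have e2 : pM X Y • v = v := by
    rw [pM, mul_smul, mul_smul, e0, hv, h.xm _ (trace_V0 D) (trace_V1 D)]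
    simp only [XM0_V h.hg h.h3, XM1_V h.hg h.h3]
  have e3 : p0 X Y • v = v := by rw [← pP_mul_pM h.rel, mul_smul, e2, e1]
  calc X • v = X • p0 X Y • v := by rw [e3]
    _ = v := by rw [← mul_smul, X_mul_p0 h.rel, e3]

theorem GFrame.Y_v (h : GFrame g X Y T ι q0 r0 q1 r1) (D : Fin 5 → F) : Y • ι (V0 D, V1 D) = ι (V0 D, V1 D) :=
  h.fixY _ (trace_V0 D) (trace_V1 D)

theorem GFrame.T_v (h : GFrame g X Y T ι q0 r0 q1 r1) (D : Fin 5 → F) :
    T • ι (V0 D, V1 D) = ι (TA q0 r0 D, TB q1 r1 D) := by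
  rw [h.tq _ (trace_V0 D) (trace_V1 D)]
  simp only [V0, V1, Matrix.diagonal_transpose, TA, TB]

theorem GFrame.trA (h : GFrame g X Y T ι q0 r0 q1 r1) (D : Fin 5 → F) : (TA q0 r0 D).trace = 0 :=
  trace_conj h.rq0 (trace_V0 D)

theorem GFrame.trB (h : GFrame g X Y T ι q0 r0 q1 r1) (D : Fin 5 → F) : (TB q1 r1 D).trace = 0 :=
  trace_conj h.rq1 (trace_V1 D)

theorem GFrame.pP_T (h : GFrame g X Y T ι q0 r0 q1 r1) (D : Fin 5 → F) :
    pP X Y • T • ι (V0 D, V1 D) = ι (XP0 g (TA q0 r0 D) (TB q1 r1 D), XP1 g (TA q0 r0 D) (TB q1 r1 D)) := by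
  have hY : Y • T • ι (V0 D, V1 D) = T • ι (V0 D, V1 D) := Y_T h.rel (h.Y_v D)
  rw [pP, mul_smul, mul_smul, ey_of_fix h.rel hY, h.T_v, h.xp _ (h.trA D) (h.trB D)]

theorem GFrame.pM_T (h : GFrame g X Y T ι q0 r0 q1 r1) (D : Fin 5 → F) :
    pM X Y • T • ι (V0 D, V1 D) = ι (XM0 g (TA q0 r0 D) (TB q1 r1 D), XM1 g (TA q0 r0 D) (TB q1 r1 D)) := by
  have hY : Y • T • ι (V0 D, V1 D) = T • ι (V0 D, V1 D) := Y_T h.rel (h.Y_v D)
  rw [pM, mul_smul, mul_smul, ey_of_fix h.rel hY, h.T_v, h.xm _ (h.trA D) (h.trB D)]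

theorem GFrame.inj' (h : GFrame g X Y T ι q0 r0 q1 r1) {p p' : Mt F × Mt F} (h1 : p.1.trace = p'.1.trace)
    (h2 : p.2.trace = p'.2.trace) (e : ι p = ι p') : p = p' := by
  rw [← sub_eq_zero]
  refine h.inj _ ?_ ?_ (by rw [map_sub, e, sub_self])
  · rw [Prod.fst_sub, Matrix.trace_sub, h1, sub_self]
  · rw [Prod.snd_sub, Matrix.trace_sub, h2, sub_self]

/-- C1 in matrix form -/
theorem GFrame.C1m (h : GFrame g X Y T ι q0 r0 q1 r1) (D : Fin 5 → F) :
    XP0 g (TA q0 r0 D) (TB q1 r1 D) + XM0 g (TA q0 r0 D) (TB q1 r1 D) - TA q0 r0 D = V0 D ∧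
    XP1 g (TA q0 r0 D) (TB q1 r1 D) + XM1 g (TA q0 r0 D) (TB q1 r1 D) - TB q1 r1 D = V1 D := by
  have hX := h.X_v D
  have hYv := h.Y_v D
  have hY : Y • T • ι (V0 D, V1 D) = T • ι (V0 D, V1 D) := Y_T h.rel hYv
  have e0 : p0 X Y • T • ι (V0 D, V1 D) = ι (V0 D, V1 D) := by
    have e := h.sum0 _ hX hYv
    rw [p0, mul_smul, ey_of_fix h.rel hY, ex, neg_smul, eq_comm, ← sub_eq_zero, sub_neg_eq_add, e]
  have e1 : p0 X Y • T • ι (V0 D, V1 D) = pP X Y • T • ι (V0 D, V1 D) + pM X Y • T • ι (V0 D, V1 D) - T • ι (V0 D, V1 D) := by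
    have : ey Y • T • ι (V0 D, V1 D) = T • ι (V0 D, V1 D) := ey_of_fix h.rel hY
    conv_rhs => rw [← this]
    have e2 : p0 X Y = pP X Y + pM X Y - ey Y := by rw [ey_eq h.rel]; abel
    rw [this, e2, sub_smul, add_smul, this]
  rw [e0, h.pP_T, h.pM_T, h.T_v, ← map_add, ← map_sub] at e1
  have e3 := h.inj' ?_ ?_ e1
  · exact ⟨(congrArg Prod.fst e3).symm, (congrArg Prod.snd e3).symm⟩
  · simp only [Prod.fst_sub, Prod.fst_add, Matrix.trace_sub, Matrix.trace_add, trace_V0, trace_XP0 h.hg h.h3,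
      trace_XM0 h.hg h.h3, h.trA, add_zero, sub_zero]
  · simp only [Prod.snd_sub, Prod.snd_add, Matrix.trace_sub, Matrix.trace_add, trace_V1, trace_XP1 h.hg h.h3,
      trace_XM1 h.hg h.h3, h.trB, add_zero, sub_zero]

/-- C3 in matrix form: `q₀ a₀` is symmetric for `a = π₊ T v - v` -/
theorem GFrame.C3m (h : GFrame g X Y T ι q0 r0 q1 r1) (D : Fin 5 → F) :
    (XP0 g (TA q0 r0 D) (TB q1 r1 D) - V0 D)ᵀ * q0 = q0 * (XP0 g (TA q0 r0 D) (TB q1 r1 D) - V0 D) ∧
    (XP1 g (TA q0 r0 D) (TB q1 r1 D) - V1 D)ᵀ * q1 = q1 * (XP1 g (TA q0 r0 D) (TB q1 r1 D) - V1 D) := by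
  have hX := h.X_v D
  have hYv := h.Y_v D
  have e := C3 h.rel hX hYv
  have hC := h.C1m D
  -- `T a = - a`
  have ea : T • (pP X Y • T • ι (V0 D, V1 D) - ι (V0 D, V1 D)) = - (pP X Y • T • ι (V0 D, V1 D) - ι (V0 D, V1 D)) := by
    rw [smul_sub, e, h.pP_T, h.pM_T, h.T_v, ← map_sub, ← map_sub, ← map_neg]
    congr 1
    refine Prod.ext ?_ ?_
    · simp only [Prod.fst_sub, Prod.fst_neg]
      rw [← hC.1]; abel
    · simp only [Prod.snd_sub, Prod.snd_neg]
      rw [← hC.2]; abel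
  rw [h.pP_T, ← map_sub, h.tq _ ?_ ?_, ← map_neg] at ea
  · have e3 := h.inj' ?_ ?_ ea
    · have e4 := congrArg Prod.fst e3
      have e5 := congrArg Prod.snd e3
      simp only [Prod.fst_sub, Prod.snd_sub, Prod.fst_neg, Prod.snd_neg, neg_inj] at e4 e5
      have r0' : q0 * r0 = 1 := mul_eq_one_comm.mp h.rq0
      have r1' : q1 * r1 = 1 := mul_eq_one_comm.mp h.rq1
      refine ⟨?_, ?_⟩
      · conv_rhs => rw [← e4]
        rw [← Matrix.mul_assoc, ← Matrix.mul_assoc, r0', Matrix.one_mul]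
      · conv_rhs => rw [← e5]
        rw [← Matrix.mul_assoc, ← Matrix.mul_assoc, r1', Matrix.one_mul]
    · simp only [Prod.fst_sub, Prod.fst_neg]
      rw [trace_conj h.rq0, Matrix.trace_neg, Matrix.trace_sub, trace_XP0 h.hg h.h3, trace_V0]; · simp
      rw [Matrix.trace_transpose, Matrix.trace_sub, trace_XP0 h.hg h.h3, trace_V0]; simp
    · simp only [Prod.snd_sub, Prod.snd_neg]
      rw [trace_conj h.rq1, Matrix.trace_neg, Matrix.trace_sub, trace_XP1 h.hg h.h3, trace_V1]; · simp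
      rw [Matrix.trace_transpose, Matrix.trace_sub, trace_XP1 h.hg h.h3, trace_V1]; simp
  · simp only [Prod.fst_sub, Matrix.trace_sub, trace_XP0 h.hg h.h3, trace_V0, sub_zero]
  · simp only [Prod.snd_sub, Matrix.trace_sub, trace_XP1 h.hg h.h3, trace_V1, sub_zero]

end main
end Cfsg.Agent.H879.E83
end

private theorem dce_a3a4426b883a : _root_.True := by
  try have : _root_.True := by simp only [_root_.Cfsg.Agent.H879.E83.m10.eq_1]
  try have : _root_.True := by simp only [_root_.Cfsg.Agent.H879.E83.V0.eq_1]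
  try have : _root_.True := by simp only [_root_.Cfsg.Agent.H879.E83.k00.eq_1]
  try have : _root_.True := by simp only [_root_.Cfsg.Agent.H879.E83.m00.eq_1]
  try have : _root_.True := by simp only [_root_.Cfsg.Agent.H879.E83.m11.eq_1]
  try have : _root_.True := by simp only [_root_.Cfsg.Agent.H879.E83.XP0.eq_1]
  try have : _root_.True := by simp only [_root_.Cfsg.Agent.H879.E83.XP1.eq_1]
  try have : _root_.True := by simp only [_root_.Cfsg.Agent.H879.E83.k01.eq_1]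
  try have : _root_.True := by simp only [_root_.Cfsg.Agent.H879.E83.m01.eq_1]
  try have : _root_.True := by simp only [_root_.Cfsg.Agent.H879.E83.TA.eq_1]
  try have : _root_.True := by simp only [_root_.Cfsg.Agent.H879.E83.V1.eq_1]
  try have : _root_.True := by simp only [_root_.Cfsg.Agent.H879.E83.k11.eq_1]
  try have : _root_.True := by simp only [_root_.Cfsg.Agent.H879.E83.TB.eq_1]
  try have : _root_.True := by simp only [_root_.Cfsg.Agent.H879.E83.s00.eq_1]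
  try have : _root_.True := by simp only [_root_.Cfsg.Agent.H879.E83.ch.eq_1]
  try have : _root_.True := by simp only [_root_.Cfsg.Agent.H879.E83.k10.eq_1]
  try have : _root_.True := by simp only [_root_.Cfsg.Agent.H879.E83.XM1.eq_1]
  try have : _root_.True := by simp only [_root_.Cfsg.Agent.H879.E83.XM0.eq_1]
  try have : _root_.True := by simp only [_root_.Cfsg.Agent.H879.E83.s01.eq_1]
  exact _root_.True.intro
end

-- part: H138/E8L/Mat
section
prune_inst 0x310041006522020808002094330020606400019200434000a1800f440349204280460e003ab0371090e8381068080040001001c0024000000e000c000003010000800000a04800000a001e000080000000000000000000000000000000000004000000000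
set_option linter.all false
open scoped Cfsg.Agent.FastGrp

/-!
# S5925, box F2: the matrix part (helper138)

`herm` : `q0`, `q1` symmetric 5x5 matrices over an algebraically closed field of characteristic 3 such that
`A ↦ -q_k⁻¹ Aᵀ q_k` are exchanged by the twisted Frobenius map: a multiple `q` of `q0` has entries in `F_81` and
`q R q^(9) R = 1`.
-/

set_option autoImplicit false

namespace Cfsg.Agent.H138.E8L

open Matrix

variable {K : Type*} [Field K]

/-- the signed permutation matrix `e_a ↦ eps_a e_(pi a)`, `pi = (0,3,1,4,2)`, `eps = (1,1,1,1,-1)` -/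
def M0 : Matrix (Fin 5) (Fin 5) K :=
  !![1, 0, 0, 0, 0; 0, 0, 1, 0, 0; 0, 0, 0, 0, -1; 0, 1, 0, 0, 0; 0, 0, 0, 1, 0]

/-- the signed permutation matrix `e_a ↦ del_a e_(rho a)`, `rho = (2,0,3,1,4)`, `del = (1,1,-1,-1,1)` -/
def M1 : Matrix (Fin 5) (Fin 5) K :=
  !![0, 1, 0, 0, 0; 0, 0, 0, -1, 0; 1, 0, 0, 0, 0; 0, 0, -1, 0, 0; 0, 0, 0, 0, 1]

/-- `e0 ↔ e2`, `e3 ↔ e4`, `e1 ↦ -e1` -/
def RR : Matrix (Fin 5) (Fin 5) K :=
  !![0, 0, 1, 0, 0; 0, -1, 0, 0, 0; 1, 0, 0, 0, 0; 0, 0, 0, 0, 1; 0, 0, 0, 1, 0]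

theorem M0_mul : (M0 : Matrix (Fin 5) (Fin 5) K) * M0ᵀ = 1 := by
  ext i j
  (revert i j; simp only [M0, Matrix.mul_apply, Fin.sum_univ_succ, _root_.Fin.forall_fin_succ, _root_.Matrix.of_apply, _root_.Matrix.cons_val', _root_.Matrix.cons_val_fin_one, _root_.Matrix.transpose_apply, Fin.isValue, _root_.Matrix.cons_val_zero, _root_.Matrix.cons_val_succ, _root_.Finset.univ_unique, _root_.Fin.default_eq_zero, _root_.Finset.sum_const, _root_.Finset.card_singleton, _root_.one_smul, _root_.mul_one, _root_.MulZeroClass.mul_zero, _root_.add_zero, _root_.zero_add, _root_.mul_neg, _root_.IsEmpty.forall_iff, _root_.and_true, _root_.Matrix.one_apply_eq, Nat.reduceAdd, _root_.Fin.succ_zero_eq_one, _root_.ne_eq, _root_.zero_ne_one, _root_.not_false_eq_true, _root_.Matrix.one_apply_ne, _root_.neg_zero, _root_.Fin.succ_one_eq_two, Fin.reduceEq, Fin.reduceSucc, _root_.and_self, _root_.Fin.succ_ne_zero, _root_.neg_neg, _root_.true_and])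

theorem M0_mul' : (M0 : Matrix (Fin 5) (Fin 5) K)ᵀ * M0 = 1 := by
  ext i j
  (revert i j; simp only [M0, Matrix.mul_apply, Fin.sum_univ_succ, _root_.Fin.forall_fin_succ, _root_.Matrix.transpose_apply, _root_.Matrix.of_apply, _root_.Matrix.cons_val', _root_.Matrix.cons_val_fin_one, Fin.isValue, _root_.Matrix.cons_val_zero, _root_.Matrix.cons_val_succ, _root_.Finset.univ_unique, _root_.Fin.default_eq_zero, _root_.Finset.sum_const, _root_.Finset.card_singleton, _root_.one_smul, _root_.mul_one, _root_.MulZeroClass.mul_zero, _root_.add_zero, _root_.zero_add, _root_.mul_neg, _root_.IsEmpty.forall_iff, _root_.and_true, _root_.Matrix.one_apply_eq, Nat.reduceAdd, _root_.Fin.succ_zero_eq_one, _root_.ne_eq, _root_.zero_ne_one, _root_.not_false_eq_true, _root_.Matrix.one_apply_ne, _root_.Fin.succ_one_eq_two, Fin.reduceEq, Fin.reduceSucc, _root_.neg_zero, _root_.and_self, _root_.Fin.succ_ne_zero, _root_.neg_neg, _root_.true_and])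

theorem M1_mul : (M1 : Matrix (Fin 5) (Fin 5) K) * M1ᵀ = 1 := by
  ext i j
  (revert i j; simp only [M1, Matrix.mul_apply, Fin.sum_univ_succ, _root_.Fin.forall_fin_succ, _root_.Matrix.of_apply, _root_.Matrix.cons_val', _root_.Matrix.cons_val_fin_one, _root_.Matrix.transpose_apply, Fin.isValue, _root_.Matrix.cons_val_zero, _root_.Matrix.cons_val_succ, _root_.Finset.univ_unique, _root_.Fin.default_eq_zero, _root_.Finset.sum_const, _root_.Finset.card_singleton, _root_.one_smul, _root_.MulZeroClass.mul_zero, _root_.mul_one, _root_.add_zero, _root_.zero_add, _root_.mul_neg, _root_.IsEmpty.forall_iff, _root_.and_true, _root_.Matrix.one_apply_eq, _root_.neg_zero, Nat.reduceAdd, _root_.Fin.succ_zero_eq_one, _root_.ne_eq, _root_.zero_ne_one, _root_.not_false_eq_true, _root_.Matrix.one_apply_ne, _root_.Fin.succ_one_eq_two, Fin.reduceEq, Fin.reduceSucc, _root_.and_self, _root_.Fin.succ_ne_zero, _root_.neg_neg, _root_.true_and])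

theorem M1_mul' : (M1 : Matrix (Fin 5) (Fin 5) K)ᵀ * M1 = 1 := by
  ext i j
  (revert i j; simp only [M1, Matrix.mul_apply, Fin.sum_univ_succ, _root_.Fin.forall_fin_succ, _root_.Matrix.transpose_apply, _root_.Matrix.of_apply, _root_.Matrix.cons_val', _root_.Matrix.cons_val_fin_one, Fin.isValue, _root_.Matrix.cons_val_zero, _root_.Matrix.cons_val_succ, _root_.Finset.univ_unique, _root_.Fin.default_eq_zero, _root_.Finset.sum_const, _root_.Finset.card_singleton, _root_.one_smul, _root_.MulZeroClass.mul_zero, _root_.mul_one, _root_.add_zero, _root_.zero_add, _root_.mul_neg, _root_.IsEmpty.forall_iff, _root_.and_true, _root_.Matrix.one_apply_eq, Nat.reduceAdd, _root_.Fin.succ_zero_eq_one, _root_.ne_eq, _root_.zero_ne_one, _root_.not_false_eq_true, _root_.Matrix.one_apply_ne, _root_.neg_zero, _root_.Fin.succ_one_eq_two, Fin.reduceEq, Fin.reduceSucc, _root_.and_self, _root_.Fin.succ_ne_zero, _root_.neg_neg, _root_.true_and])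

theorem M1_M0 : (M1 : Matrix (Fin 5) (Fin 5) K) * M0 = RR := by
  ext i j
  (revert i j; simp only [M1, M0, RR, Matrix.mul_apply, Fin.sum_univ_succ, _root_.Fin.forall_fin_succ, _root_.Matrix.of_apply, _root_.Matrix.cons_val', _root_.Matrix.cons_val_fin_one, Fin.isValue, _root_.Matrix.cons_val_zero, _root_.Matrix.cons_val_succ, _root_.Finset.univ_unique, _root_.Fin.default_eq_zero, _root_.Finset.sum_const, _root_.Finset.card_singleton, _root_.one_smul, _root_.mul_one, _root_.MulZeroClass.mul_zero, _root_.add_zero, _root_.zero_add, _root_.mul_neg, _root_.forall_const, _root_.true_and, _root_.neg_zero, _root_.neg_neg, _root_.implies_true, _root_.and_self])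

theorem RR_symm : (RR : Matrix (Fin 5) (Fin 5) K)ᵀ = RR := by
  ext i j
  (revert i j; simp only [RR, _root_.Fin.forall_fin_succ, _root_.Matrix.transpose_apply, _root_.Matrix.of_apply, _root_.Matrix.cons_val', _root_.Matrix.cons_val_fin_one, Fin.isValue, _root_.Matrix.cons_val_zero, _root_.Matrix.cons_val_succ, _root_.forall_const, _root_.and_self, _root_.and_self_left, _root_.implies_true])

theorem RR_sq : (RR : Matrix (Fin 5) (Fin 5) K) * RR = 1 := by
  ext i j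
  (revert i j; simp only [RR, Matrix.mul_apply, Fin.sum_univ_succ, _root_.Fin.forall_fin_succ, _root_.Matrix.of_apply, _root_.Matrix.cons_val', _root_.Matrix.cons_val_fin_one, Fin.isValue, _root_.Matrix.cons_val_zero, _root_.Matrix.cons_val_succ, _root_.Finset.univ_unique, _root_.Fin.default_eq_zero, _root_.Finset.sum_const, _root_.Finset.card_singleton, _root_.one_smul, _root_.MulZeroClass.mul_zero, _root_.mul_one, _root_.add_zero, _root_.zero_add, _root_.mul_neg, _root_.IsEmpty.forall_iff, _root_.and_true, _root_.Matrix.one_apply_eq, _root_.neg_zero, Nat.reduceAdd, _root_.Fin.succ_zero_eq_one, _root_.ne_eq, _root_.zero_ne_one, _root_.not_false_eq_true, _root_.Matrix.one_apply_ne, _root_.Fin.succ_one_eq_two, Fin.reduceEq, Fin.reduceSucc, _root_.and_self, _root_.Fin.succ_ne_zero, _root_.neg_neg, _root_.true_and])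

theorem M0_map (f : K →+* K) : (M0 : Matrix (Fin 5) (Fin 5) K).map f = M0 := by
  ext i j
  (revert i j; simp only [M0, _root_.Fin.forall_fin_succ, _root_.Matrix.map_apply, _root_.Matrix.of_apply, _root_.Matrix.cons_val', _root_.Matrix.cons_val_fin_one, Fin.isValue, _root_.Matrix.cons_val_zero, _root_.Matrix.cons_val_succ, _root_.forall_const, _root_.map_one, _root_.map_zero, _root_.and_self, _root_.map_neg, _root_.implies_true])

theorem RR_map (f : K →+* K) : (RR : Matrix (Fin 5) (Fin 5) K).map f = RR := by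
  ext i j
  (revert i j; simp only [RR, _root_.Fin.forall_fin_succ, _root_.Matrix.map_apply, _root_.Matrix.of_apply, _root_.Matrix.cons_val', _root_.Matrix.cons_val_fin_one, Fin.isValue, _root_.Matrix.cons_val_zero, _root_.Matrix.cons_val_succ, _root_.forall_const, _root_.map_zero, _root_.map_one, _root_.and_self, _root_.map_neg, _root_.and_self_left, _root_.implies_true])

/-- two matrices inducing the same map on the traceless matrices are proportional -/
theorem scal {P Q : Matrix (Fin 5) (Fin 5) K} (hP : IsUnit P.det) (hQ : IsUnit Q.det)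
    (h : ∀ A : Matrix (Fin 5) (Fin 5) K, A.trace = 0 → P⁻¹ * Aᵀ * P = Q⁻¹ * Aᵀ * Q) :
    ∃ c : K, c ≠ 0 ∧ P = c • Q := by
  have hPi := Matrix.mul_nonsing_inv P hP
  have hQi := Matrix.mul_nonsing_inv Q hQ
  have key : ∀ B : Matrix (Fin 5) (Fin 5) K, B.trace = 0 → B * (P * Q⁻¹) = P * Q⁻¹ * B := by
    intro B hB
    have h1 := h Bᵀ (by rwa [Matrix.trace_transpose])
    rw [Matrix.transpose_transpose] at h1
    calc B * (P * Q⁻¹) = P * (P⁻¹ * B * P) * Q⁻¹ := by
          rw [← Matrix.mul_assoc, ← Matrix.mul_assoc, ← Matrix.mul_assoc, hPi, Matrix.one_mul]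
      _ = P * (Q⁻¹ * B * Q) * Q⁻¹ := by rw [h1]
      _ = P * Q⁻¹ * B * (Q * Q⁻¹) := by simp only [Matrix.mul_assoc]
      _ = P * Q⁻¹ * B := by rw [hQi, Matrix.mul_one]
  obtain ⟨c, hc⟩ := Matrix.mem_range_scalar_of_commute_single (M := P * Q⁻¹) fun i j hij => by
    show Commute (single i j 1) (P * Q⁻¹)
    rw [commute_iff_eq]
    exact key _ (by rw [Matrix.trace_single_eq_of_ne _ _ _ hij])
  have h2 : P = c • Q := by
    calc P = P * Q⁻¹ * Q := by rw [Matrix.mul_assoc, Matrix.nonsing_inv_mul Q hQ, Matrix.mul_one]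
      _ = (Matrix.scalar (Fin 5) c) * Q := by rw [hc]
      _ = c • Q := by
        ext i j
        simp [Matrix.scalar_apply, Matrix.diagonal_mul]
  refine ⟨c, ?_, h2⟩
  rintro rfl
  rw [zero_smul] at h2
  rw [h2, Matrix.det_zero] at hP
  exact hP.ne_zero rfl

theorem inv_smul_ne {c : K} (hc : c ≠ 0) {Q : Matrix (Fin 5) (Fin 5) K} (hQ : IsUnit Q.det) : (c • Q)⁻¹ = c⁻¹ • Q⁻¹ := by
  have h := Matrix.inv_smul' Q (Units.mk0 c hc) hQ
  simpa [Units.smul_def] using h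

theorem conj_smul {c : K} (hc : c ≠ 0) (Q A : Matrix (Fin 5) (Fin 5) K) : (c • Q)⁻¹ * A * (c • Q) = Q⁻¹ * A * Q := by
  have h1 : (c • Q)⁻¹ = c⁻¹ • Q⁻¹ := by
    by_cases hQ : IsUnit Q.det
    · exact inv_smul_ne hc hQ
    · have h2 : ¬ IsUnit (c • Q).det := by
        rw [Matrix.det_smul]
        intro h3
        exact hQ (isUnit_of_mul_isUnit_right h3)
      rw [Matrix.nonsing_inv_apply_not_isUnit _ hQ, Matrix.nonsing_inv_apply_not_isUnit _ h2, smul_zero]
  rw [h1, Matrix.smul_mul, Matrix.smul_mul, Matrix.mul_smul, smul_smul, inv_mul_cancel₀ hc, one_smul]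

/-- **The hermitian condition.** -/
theorem herm [IsAlgClosed K] [CharP K 3] {q0 q1 : Matrix (Fin 5) (Fin 5) K} (h0 : IsUnit q0.det) (h1 : IsUnit q1.det)
    (hs0 : q0ᵀ = q0)
    (e0 : ∀ A : Matrix (Fin 5) (Fin 5) K, A.trace = 0 →
      (q0.map (frobenius K 3))⁻¹ * Aᵀ * q0.map (frobenius K 3) = (M0ᵀ * q1 * M0)⁻¹ * Aᵀ * (M0ᵀ * q1 * M0))
    (e1 : ∀ A : Matrix (Fin 5) (Fin 5) K, A.trace = 0 →
      (q1.map (frobenius K 3))⁻¹ * Aᵀ * q1.map (frobenius K 3) = (M1ᵀ * q0⁻¹ * M1)⁻¹ * Aᵀ * (M1ᵀ * q0⁻¹ * M1)) :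
    ∃ (q : Matrix (Fin 5) (Fin 5) K) (a b : K), a ≠ 0 ∧ b ≠ 0 ∧ q = a • q0 ∧ qᵀ = q ∧ IsUnit q.det ∧
      (∀ i j, q i j ^ 81 = q i j) ∧ q * RR * q.map (fun x => x ^ 9) * RR = 1 ∧
      M0 * q.map (fun x => x ^ 3) * M0ᵀ = b • q1 := by
  set s : K →+* K := frobenius K 3 with hs
  have hsx : ∀ x, s x = x ^ 3 := fun x => rfl
  have dM0 : (M0 : Matrix (Fin 5) (Fin 5) K).det * (M0 : Matrix (Fin 5) (Fin 5) K)ᵀ.det = 1 := by
    rw [← Matrix.det_mul, M0_mul, Matrix.det_one]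
  have dM1 : (M1 : Matrix (Fin 5) (Fin 5) K).det * (M1 : Matrix (Fin 5) (Fin 5) K)ᵀ.det = 1 := by
    rw [← Matrix.det_mul, M1_mul, Matrix.det_one]
  have u0 : IsUnit (q0.map s).det := by
    rw [← RingHom.mapMatrix_apply, ← RingHom.map_det]
    exact h0.map s
  have u1 : IsUnit (q1.map s).det := by
    rw [← RingHom.mapMatrix_apply, ← RingHom.map_det]
    exact h1.map s
  have hq0i : IsUnit (q0⁻¹).det := by
    rw [Matrix.isUnit_nonsing_inv_det_iff]
    exact h0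
  obtain ⟨c0, hc0, k0⟩ := scal u0 (Q := M0ᵀ * q1 * M0) (by
    rw [Matrix.det_mul, Matrix.det_mul]
    exact ((IsUnit.of_mul_eq_one_right _ dM0).mul h1).mul (IsUnit.of_mul_eq_one _ dM0)) e0
  obtain ⟨c1, hc1, k1⟩ := scal u1 (Q := M1ᵀ * q0⁻¹ * M1) (by
    rw [Matrix.det_mul, Matrix.det_mul]
    exact ((IsUnit.of_mul_eq_one_right _ dM1).mul hq0i).mul (IsUnit.of_mul_eq_one _ dM1)) e1
  -- the second power
  set c : K := c0 ^ 3 * c1 with hc
  have hcne : c ≠ 0 := mul_ne_zero (pow_ne_zero _ hc0) hc1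
  have hmap : ∀ (A B : Matrix (Fin 5) (Fin 5) K), (A * B).map s = A.map s * B.map s := fun A B => by
    rw [Matrix.map_mul]
  have hsm : ∀ (a : K) (A : Matrix (Fin 5) (Fin 5) K), (a • A).map s = s a • A.map s := fun a A => by
    ext i j
    simp
  have k2 : (q0.map s).map s = c • (RR * q0⁻¹ * RR) := by
    rw [k0, hsm, hmap, hmap, k1, M0_map, Matrix.transpose_map, M0_map, hsx, hc, mul_smul]
    congr 1
    rw [← M1_M0, Matrix.mul_smul, Matrix.smul_mul]
    congr 1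
    have h2 : (M1 * M0 : Matrix (Fin 5) (Fin 5) K) = M0ᵀ * M1ᵀ := by
      rw [← Matrix.transpose_mul, M1_M0, RR_symm]
    calc M0ᵀ * (M1ᵀ * q0⁻¹ * M1) * M0 = (M0ᵀ * M1ᵀ) * q0⁻¹ * (M1 * M0) := by simp only [Matrix.mul_assoc]
      _ = (M1 * M0) * q0⁻¹ * (M1 * M0) := by rw [h2]
  have hs9 : ∀ A : Matrix (Fin 5) (Fin 5) K, A.map (fun x => x ^ 9) = (A.map s).map s := by
    intro A
    ext i j
    simp only [Matrix.map_apply, hsx]
    ring
  obtain ⟨a, ha⟩ := IsAlgClosed.exists_pow_nat_eq c⁻¹ (n := 10) (by norm_num)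
  have ha0 : a ≠ 0 := by
    rintro rfl
    rw [zero_pow (by norm_num)] at ha
    exact inv_ne_zero hcne ha.symm
  have hqi : (a • q0)⁻¹ = a⁻¹ • q0⁻¹ := inv_smul_ne ha0 h0
  have hu : IsUnit (a • q0).det := by
    rw [Matrix.det_smul]
    exact (IsUnit.mk0 _ (pow_ne_zero _ ha0)).mul h0
  -- `q^(9) = R q⁻¹ R`
  have k3 : (a • q0).map (fun x => x ^ 9) = RR * (a • q0)⁻¹ * RR := by
    rw [hs9, hsm, hsm, k2, hqi, hsx, hsx, smul_smul, Matrix.mul_smul, Matrix.smul_mul]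
    congr 1
    have h3 : a ^ 10 * c = 1 := by rw [ha, inv_mul_cancel₀ hcne]
    apply eq_inv_of_mul_eq_one_left
    rw [← h3]; ring
  refine ⟨a • q0, a, a ^ 3 * c0, ha0, mul_ne_zero (pow_ne_zero _ ha0) hc0, rfl, ?_, hu, ?_, ?_, ?_⟩
  · rw [Matrix.transpose_smul, hs0]
  · -- entries in `F_81`
    have k4 : a • q0 * (RR * (a • q0).map (fun x => x ^ 9) * RR) = 1 := by
      rw [k3]
      calc a • q0 * (RR * (RR * (a • q0)⁻¹ * RR) * RR) = a • q0 * ((RR * RR) * (a • q0)⁻¹ * (RR * RR)) := by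
            simp only [Matrix.mul_assoc]
        _ = 1 := by rw [RR_sq, Matrix.one_mul, Matrix.mul_one, Matrix.mul_nonsing_inv _ hu]
    have k5 : RR * (a • q0).map (fun x => x ^ 9) * RR * (a • q0) = 1 := mul_eq_one_comm.1 k4
    have h6 : ∀ A B : Matrix (Fin 5) (Fin 5) K, (A * B).map (fun x => x ^ 9) =
        A.map (fun x => x ^ 9) * B.map (fun x => x ^ 9) := fun A B => by
      rw [hs9, hs9, hs9, hmap, hmap]
    have h7 : (RR : Matrix (Fin 5) (Fin 5) K).map (fun x => x ^ 9) = RR := by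
      rw [hs9, RR_map, RR_map]
    have h8 : (1 : Matrix (Fin 5) (Fin 5) K).map (fun x => x ^ 9) = 1 := by
      ext i j
      simp only [Matrix.map_apply, Matrix.one_apply]
      split_ifs <;> simp
    have k6 : (a • q0).map (fun x => x ^ 9) * (RR * ((a • q0).map (fun x => x ^ 9)).map (fun x => x ^ 9) * RR) = 1 := by
      have := congrArg (fun A : Matrix (Fin 5) (Fin 5) K => A.map (fun x => x ^ 9)) k4
      rwa [h8, h6, h6, h6, h7] at this
    have k7 : (a • q0).map (fun x => x ^ 9) * (RR * (a • q0) * RR) = 1 := by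
      have h9 : RR * ((a • q0).map (fun x => x ^ 9) * (RR * (a • q0) * RR)) = RR := by
        calc RR * ((a • q0).map (fun x => x ^ 9) * (RR * (a • q0) * RR)) =
            (RR * (a • q0).map (fun x => x ^ 9) * RR * (a • q0)) * RR := by simp only [Matrix.mul_assoc]
          _ = RR := by rw [k5, Matrix.one_mul]
      calc (a • q0).map (fun x => x ^ 9) * (RR * (a • q0) * RR) =
          (RR * RR) * ((a • q0).map (fun x => x ^ 9) * (RR * (a • q0) * RR)) := by rw [RR_sq, Matrix.one_mul]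
        _ = RR * (RR * ((a • q0).map (fun x => x ^ 9) * (RR * (a • q0) * RR))) := by rw [Matrix.mul_assoc]
        _ = 1 := by rw [h9, RR_sq]
    have k8 : RR * ((a • q0).map (fun x => x ^ 9)).map (fun x => x ^ 9) * RR = RR * (a • q0) * RR := by
      have h9 := mul_eq_one_comm.1 k7
      calc RR * ((a • q0).map (fun x => x ^ 9)).map (fun x => x ^ 9) * RR =
          (RR * (a • q0) * RR * (a • q0).map (fun x => x ^ 9)) *
            (RR * ((a • q0).map (fun x => x ^ 9)).map (fun x => x ^ 9) * RR) := by rw [h9, Matrix.one_mul]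
        _ = (RR * (a • q0) * RR) * ((a • q0).map (fun x => x ^ 9) *
            (RR * ((a • q0).map (fun x => x ^ 9)).map (fun x => x ^ 9) * RR)) := by simp only [Matrix.mul_assoc]
        _ = RR * (a • q0) * RR := by rw [k6, Matrix.mul_one]
    have k9 : ((a • q0).map (fun x => x ^ 9)).map (fun x => x ^ 9) = a • q0 := by
      calc ((a • q0).map (fun x => x ^ 9)).map (fun x => x ^ 9) =
          (RR * RR) * ((a • q0).map (fun x => x ^ 9)).map (fun x => x ^ 9) * (RR * RR) := by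
            rw [RR_sq, Matrix.one_mul, Matrix.mul_one]
        _ = RR * (RR * ((a • q0).map (fun x => x ^ 9)).map (fun x => x ^ 9) * RR) * RR := by
            simp only [Matrix.mul_assoc]
        _ = RR * (RR * (a • q0) * RR) * RR := by rw [k8]
        _ = (RR * RR) * (a • q0) * (RR * RR) := by simp only [Matrix.mul_assoc]
        _ = a • q0 := by rw [RR_sq, Matrix.one_mul, Matrix.mul_one]
    intro i j
    have h9 := congrFun (congrFun k9 i) j
    simp only [Matrix.map_apply] at h9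
    rw [← pow_mul] at h9
    exact h9
  · rw [k3]
    calc a • q0 * RR * (RR * (a • q0)⁻¹ * RR) * RR = a • q0 * (RR * RR) * (a • q0)⁻¹ * (RR * RR) := by
          simp only [Matrix.mul_assoc]
      _ = 1 := by rw [RR_sq, Matrix.mul_one, Matrix.mul_one, Matrix.mul_nonsing_inv _ hu]
  · have h8 : (a • q0).map (fun x => x ^ 3) = (a ^ 3) • q0.map s := by
      ext i j
      simp [hsx, mul_pow]
    rw [h8, k0, smul_smul, Matrix.mul_smul, Matrix.smul_mul]
    congr 1
    calc M0 * (M0ᵀ * q1 * M0) * M0ᵀ = (M0 * M0ᵀ) * q1 * (M0 * M0ᵀ) := by simp only [Matrix.mul_assoc]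
      _ = q1 := by rw [M0_mul, Matrix.one_mul, Matrix.mul_one]

end Cfsg.Agent.H138.E8L

private theorem dce_0c1101f42da7 : _root_.True := by
  try have : _root_.True := by simp only [_root_.Cfsg.Agent.H138.E8L.M1.eq_1]
  try have : _root_.True := by simp only [_root_.Cfsg.Agent.H138.E8L.M0.eq_1]
  try have : _root_.True := by simp only [_root_.Cfsg.Agent.H138.E8L.RR.eq_1]
  exact _root_.True.intro
end

-- part: H138/E8L/Scal
section
prune_inst 0x310041006522020808002594330020606400009200400000a0a00b440309a040804208003ab0351090e828106808004000100180020000000a000c000002010000800000204000000a001e000080000000000000000000000000000000000004000000000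
set_option linter.all false
open scoped Cfsg.Agent.FastGrp

-- part: H138/E8L/Herm
section
/-!
# S5925, box F2: the transfer (helper138)

`herm_io` : `T`, `N` matrices with `N σ(T) = T N`, `io` the linear map from pairs of 5x5 matrices, `T` acts by
`(A0, A1) ↦ (-q0⁻¹ A0ᵀ q0, -q1⁻¹ A1ᵀ q1)` and `N` by `(A0, A1) ↦ (-M1 A1ᵀ M1ᵀ, M0 A0 M0ᵀ)`: then `q0` can be chosen with
entries in `F_81` and `q0 R q0^(9) R = 1`, `q1 = M0 q0^(3) M0ᵀ`.
-/

set_option autoImplicit false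

namespace Cfsg.Agent.H138.E8L

open Matrix

variable {K : Type*} [Field K]

theorem map_inv_frob [CharP K 3] {q : Matrix (Fin 5) (Fin 5) K} (h : IsUnit q.det) :
    (q⁻¹).map (frobenius K 3) = (q.map (frobenius K 3))⁻¹ := by
  symm
  apply Matrix.inv_eq_left_inv
  rw [← Matrix.map_mul, Matrix.nonsing_inv_mul q h]
  ext i j
  simp [Matrix.one_apply]

/-- **S5925, F2.** -/
theorem herm_io {Idx : Type*} [Fintype Idx] [IsAlgClosed K] [CharP K 3]
    (io : (Matrix (Fin 5) (Fin 5) K × Matrix (Fin 5) (Fin 5) K) →ₗ[K] (Idx → K))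
    (hinj : ∀ A0 A1 B0 B1 : Matrix (Fin 5) (Fin 5) K, A0.trace = 0 → A1.trace = 0 → B0.trace = 0 → B1.trace = 0 →
      io (A0, A1) = io (B0, B1) → A0 = B0 ∧ A1 = B1)
    (hσ : ∀ (A0 A1 : Matrix (Fin 5) (Fin 5) K) (i : Idx),
      io (A0.map (frobenius K 3), A1.map (frobenius K 3)) i = io (A0, A1) i ^ 3)
    {T N : Matrix Idx Idx K} (hTN : N * T.map (frobenius K 3) = T * N)
    (hNa : ∀ A0 A1 : Matrix (Fin 5) (Fin 5) K, A0.trace = 0 → A1.trace = 0 →
      N *ᵥ io (A0, A1) = io (-(M1 * A1ᵀ * M1ᵀ), M0 * A0 * M0ᵀ))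
    {q0 q1 : Matrix (Fin 5) (Fin 5) K} (h0 : IsUnit q0.det) (h1 : IsUnit q1.det) (hs0 : q0ᵀ = q0) (hs1 : q1ᵀ = q1)
    (hT : ∀ A0 A1 : Matrix (Fin 5) (Fin 5) K, A0.trace = 0 → A1.trace = 0 →
      T *ᵥ io (A0, A1) = io (-(q0⁻¹ * A0ᵀ * q0), -(q1⁻¹ * A1ᵀ * q1))) :
    ∃ q : Matrix (Fin 5) (Fin 5) K, qᵀ = q ∧ IsUnit q.det ∧ (∀ i j, q i j ^ 81 = q i j) ∧
      q * RR * q.map (fun x => x ^ 9) * RR = 1 ∧
      ∀ A0 A1 : Matrix (Fin 5) (Fin 5) K, A0.trace = 0 → A1.trace = 0 →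
        T *ᵥ io (A0, A1) = io (-(q⁻¹ * A0ᵀ * q),
          -((M0 * q.map (fun x => x ^ 3) * M0ᵀ)⁻¹ * A1ᵀ * (M0 * q.map (fun x => x ^ 3) * M0ᵀ))) := by
  classical
  set s : K →+* K := frobenius K 3 with hs
  have hsx : ∀ x, s x = x ^ 3 := fun x => rfl
  -- every matrix is a Frobenius image
  have hsurj : ∀ A : Matrix (Fin 5) (Fin 5) K, ∃ B : Matrix (Fin 5) (Fin 5) K, B.map s = A := by
    intro A
    choose f hf using fun i j => IsAlgClosed.exists_pow_nat_eq (A i j) (n := 3) (by norm_num)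
    refine ⟨Matrix.of fun i j => f i j, ?_⟩
    ext i j
    simp only [Matrix.map_apply, Matrix.of_apply, hsx]
    exact hf i j
  have htr : ∀ B : Matrix (Fin 5) (Fin 5) K, (B.map s).trace = 0 → B.trace = 0 := by
    intro B hB
    have h2 : (B.map s).trace = s B.trace := by
      rw [Matrix.trace, Matrix.trace, map_sum]
      rfl
    rw [h2, hsx] at hB
    exact pow_eq_zero_iff (by norm_num) |>.1 hB
  have hvec : ∀ (T : Matrix Idx Idx K) (v : Idx → K), T.map s *ᵥ (fun i => v i ^ 3) = fun i => (T *ᵥ v) i ^ 3 := by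
    intro T v
    funext i
    show (∑ j, s (T i j) * v j ^ 3) = (∑ j, T i j * v j) ^ 3
    rw [← hsx (∑ j, T i j * v j), map_sum]
    exact Finset.sum_congr rfl fun j _ => by rw [map_mul, hsx (v j)]
  have hio : ∀ A0 A1 : Matrix (Fin 5) (Fin 5) K, io (A0.map s, A1.map s) = fun i => io (A0, A1) i ^ 3 :=
    fun A0 A1 => funext fun i => hσ A0 A1 i
  have hm : ∀ A B : Matrix (Fin 5) (Fin 5) K, (A * B).map s = A.map s * B.map s := fun A B => Matrix.map_mul
  have hneg : ∀ A : Matrix (Fin 5) (Fin 5) K, (-A).map s = -(A.map s) := fun A => by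
    ext i j
    simp only [_root_.Matrix.map_apply, _root_.Matrix.neg_apply, _root_.map_neg]
  have hz : (0 : Matrix (Fin 5) (Fin 5) K).map s = 0 := by
    ext i j
    simp
  have htc : ∀ P A : Matrix (Fin 5) (Fin 5) K, IsUnit P.det → A.trace = 0 → (P⁻¹ * Aᵀ * P).trace = 0 := by
    intro P A hP hA
    rw [Matrix.trace_mul_comm, ← Matrix.mul_assoc, Matrix.mul_nonsing_inv P hP, Matrix.one_mul, Matrix.trace_transpose,
      hA]
  have us0 : IsUnit (q0.map s).det := by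
    rw [← RingHom.mapMatrix_apply, ← RingHom.map_det]
    exact h0.map s
  have us1 : IsUnit (q1.map s).det := by
    rw [← RingHom.mapMatrix_apply, ← RingHom.map_det]
    exact h1.map s
  -- the action of `T.map s`
  have hTs : ∀ A0 A1 : Matrix (Fin 5) (Fin 5) K, A0.trace = 0 → A1.trace = 0 →
      T.map s *ᵥ io (A0, A1) = io (-((q0.map s)⁻¹ * A0ᵀ * q0.map s), -((q1.map s)⁻¹ * A1ᵀ * q1.map s)) := by
    intro A0 A1 t0 t1
    obtain ⟨B0, rfl⟩ := hsurj A0
    obtain ⟨B1, rfl⟩ := hsurj A1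
    rw [hio, hvec, hT B0 B1 (htr _ t0) (htr _ t1), ← hio]
    congr 1
    rw [hneg, hneg, hm, hm, hm, hm, map_inv_frob h0, map_inv_frob h1, Matrix.transpose_map, Matrix.transpose_map]
  have main : ∀ A0 A1 : Matrix (Fin 5) (Fin 5) K, A0.trace = 0 → A1.trace = 0 →
      N *ᵥ (T.map s *ᵥ io (A0, A1)) = T *ᵥ (N *ᵥ io (A0, A1)) := by
    intro A0 A1 _ _
    rw [Matrix.mulVec_mulVec, Matrix.mulVec_mulVec, hTN]
  have hM0 : ∀ A : Matrix (Fin 5) (Fin 5) K, A.trace = 0 → (M0 * A * M0ᵀ).trace = 0 := by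
    intro A hA
    rw [Matrix.trace_mul_comm, ← Matrix.mul_assoc, M0_mul', Matrix.one_mul, hA]
  have hM1 : ∀ A : Matrix (Fin 5) (Fin 5) K, A.trace = 0 → (M1 * A * M1ᵀ).trace = 0 := by
    intro A hA
    rw [Matrix.trace_mul_comm, ← Matrix.mul_assoc, M1_mul', Matrix.one_mul, hA]
  have hng : ∀ A : Matrix (Fin 5) (Fin 5) K, A.trace = 0 → (-A).trace = 0 := by
    intro A hA
    rw [Matrix.trace_neg, hA, neg_zero]
  have htT : ∀ A : Matrix (Fin 5) (Fin 5) K, A.trace = 0 → Aᵀ.trace = 0 := by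
    intro A hA
    rw [Matrix.trace_transpose, hA]
  have key : ∀ A0 A1 : Matrix (Fin 5) (Fin 5) K, A0.trace = 0 → A1.trace = 0 →
      -(M1 * (-((q1.map s)⁻¹ * A1ᵀ * q1.map s))ᵀ * M1ᵀ) = -(q0⁻¹ * (-(M1 * A1ᵀ * M1ᵀ))ᵀ * q0) ∧
      M0 * -((q0.map s)⁻¹ * A0ᵀ * q0.map s) * M0ᵀ = -(q1⁻¹ * (M0 * A0 * M0ᵀ)ᵀ * q1) := by
    intro A0 A1 t0 t1
    have h2 := main A0 A1 t0 t1
    have a1 := hng _ (htc _ _ us0 t0)
    have a2 := hng _ (htc _ _ us1 t1)
    have a3 := hng _ (hM1 _ (htT _ t1))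
    have a4 := hM0 _ t0
    rw [hTs A0 A1 t0 t1, hNa _ _ a1 a2, hNa A0 A1 t0 t1, hT _ _ a3 a4] at h2
    exact hinj _ _ _ _ (hng _ (hM1 _ (htT _ a2))) (hM0 _ a1) (hng _ (htc _ _ h0 a3)) (hng _ (htc _ _ h1 a4)) h2
  have hss1 : (q1.map s)ᵀ = q1.map s := by rw [← Matrix.transpose_map, hs1]
  have hi0 : (q0⁻¹)ᵀ = q0⁻¹ := by rw [Matrix.transpose_nonsing_inv, hs0]
  have hi1 : ((q1.map s)⁻¹)ᵀ = (q1.map s)⁻¹ := by rw [Matrix.transpose_nonsing_inv, hss1]
  have iM0 : (M0ᵀ * q1 * M0)⁻¹ = M0ᵀ * q1⁻¹ * M0 := by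
    apply Matrix.inv_eq_right_inv
    calc M0ᵀ * q1 * M0 * (M0ᵀ * q1⁻¹ * M0) = M0ᵀ * q1 * (M0 * M0ᵀ) * q1⁻¹ * M0 := by simp only [Matrix.mul_assoc]
      _ = M0ᵀ * (q1 * q1⁻¹) * M0 := by rw [M0_mul, Matrix.mul_one]; simp only [Matrix.mul_assoc]
      _ = 1 := by rw [Matrix.mul_nonsing_inv q1 h1, Matrix.mul_one, M0_mul']
  have iM1 : (M1ᵀ * q0⁻¹ * M1)⁻¹ = M1ᵀ * q0 * M1 := by
    apply Matrix.inv_eq_right_inv
    calc M1ᵀ * q0⁻¹ * M1 * (M1ᵀ * q0 * M1) = M1ᵀ * q0⁻¹ * (M1 * M1ᵀ) * q0 * M1 := by simp only [Matrix.mul_assoc]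
      _ = M1ᵀ * (q0⁻¹ * q0) * M1 := by rw [M1_mul, Matrix.mul_one]; simp only [Matrix.mul_assoc]
      _ = 1 := by rw [Matrix.nonsing_inv_mul q0 h0, Matrix.mul_one, M1_mul']
  obtain ⟨q, a, b, ha, hb, hq, hqs, hqu, h81, hher, h3⟩ := herm h0 h1 hs0
    (by
      intro A hA
      have h2 := (key A 0 hA (by simp)).2
      have h4 : M0 * ((q0.map s)⁻¹ * Aᵀ * q0.map s) * M0ᵀ = q1⁻¹ * (M0 * Aᵀ * M0ᵀ) * q1 := by
        have h5 : (M0 * A * M0ᵀ)ᵀ = M0 * Aᵀ * M0ᵀ := by
          rw [Matrix.transpose_mul, Matrix.transpose_mul, Matrix.transpose_transpose, ← Matrix.mul_assoc]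
        rw [h5, Matrix.mul_neg, Matrix.neg_mul, neg_inj] at h2
        exact h2
      rw [iM0]
      calc (q0.map s)⁻¹ * Aᵀ * q0.map s =
          (M0ᵀ * M0) * ((q0.map s)⁻¹ * Aᵀ * q0.map s) * (M0ᵀ * M0) := by rw [M0_mul', Matrix.one_mul, Matrix.mul_one]
        _ = M0ᵀ * (M0 * ((q0.map s)⁻¹ * Aᵀ * q0.map s) * M0ᵀ) * M0 := by simp only [Matrix.mul_assoc]
        _ = M0ᵀ * (q1⁻¹ * (M0 * Aᵀ * M0ᵀ) * q1) * M0 := by rw [h4]
        _ = M0ᵀ * q1⁻¹ * M0 * Aᵀ * (M0ᵀ * q1 * M0) := by simp only [Matrix.mul_assoc])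
    (by
      intro A hA
      have h2 := (key 0 A (by simp) hA).1
      have h4 : M1 * (q1.map s * A * (q1.map s)⁻¹) * M1ᵀ = q0⁻¹ * (M1 * A * M1ᵀ) * q0 * (-1) * (-1) := by
        have h5 : (-((q1.map s)⁻¹ * Aᵀ * q1.map s))ᵀ = -(q1.map s * A * (q1.map s)⁻¹) := by
          rw [Matrix.transpose_neg, Matrix.transpose_mul, Matrix.transpose_mul, Matrix.transpose_transpose, hss1, hi1,
            ← Matrix.mul_assoc]
        have h6 : (-(M1 * Aᵀ * M1ᵀ))ᵀ = -(M1 * A * M1ᵀ) := by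
          rw [Matrix.transpose_neg, Matrix.transpose_mul, Matrix.transpose_mul, Matrix.transpose_transpose,
            Matrix.transpose_transpose, ← Matrix.mul_assoc]
        rw [h5, h6, Matrix.mul_neg, Matrix.neg_mul, neg_neg, Matrix.mul_neg, Matrix.neg_mul, neg_neg] at h2
        rw [h2, Matrix.mul_neg, Matrix.mul_one, Matrix.mul_neg, Matrix.mul_one, neg_neg]
      have h7 := congrArg Matrix.transpose h4
      rw [Matrix.mul_neg, Matrix.mul_one, Matrix.mul_neg, Matrix.mul_one, neg_neg] at h7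
      have h8 : M1 * ((q1.map s)⁻¹ * Aᵀ * q1.map s) * M1ᵀ = q0 * (M1 * Aᵀ * M1ᵀ) * q0⁻¹ := by
        simp only [Matrix.transpose_mul, Matrix.transpose_transpose, hss1, hi1, hi0, hs0] at h7
        simp only [Matrix.mul_assoc] at h7 ⊢
        exact h7
      rw [iM1]
      calc (q1.map s)⁻¹ * Aᵀ * q1.map s =
          (M1ᵀ * M1) * ((q1.map s)⁻¹ * Aᵀ * q1.map s) * (M1ᵀ * M1) := by rw [M1_mul', Matrix.one_mul, Matrix.mul_one]
        _ = M1ᵀ * (M1 * ((q1.map s)⁻¹ * Aᵀ * q1.map s) * M1ᵀ) * M1 := by simp only [Matrix.mul_assoc]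
        _ = M1ᵀ * (q0 * (M1 * Aᵀ * M1ᵀ) * q0⁻¹) * M1 := by rw [h8]
        _ = M1ᵀ * q0 * M1 * Aᵀ * (M1ᵀ * q0⁻¹ * M1) := by simp only [Matrix.mul_assoc])
  refine ⟨q, hqs, hqu, h81, hher, fun A0 A1 t0 t1 => ?_⟩
  rw [hT A0 A1 t0 t1, h3, hq, conj_smul ha, conj_smul hb]

end Cfsg.Agent.H138.E8L
end

-- part: H138/E8L/Trit
section
/-!
# S5925: coordinates of the elements of `F_81` (helper138)

`exists_trits` : `K` a field of characteristic 3, `g ^ 4 = 1 - g`, `x ^ 81 = x`: then `x = a + b g + c g² + d g³` with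
`a, b, c, d ∈ {0, 1, -1}`; `exists_log` : `x = 0` or `x = g ^ i`, `i < 80`.
-/

set_option autoImplicit false

namespace Cfsg.Agent.H138.E8L

variable {K : Type*} [Field K] [CharP K 3]

theorem three_zero : (3 : K) = 0 := by
  have := CharP.cast_eq_zero K 3
  exact_mod_cast this

theorem g8 {g : K} (hg : g ^ 4 = 1 - g) : g ^ 8 = 1 + g + g ^ 2 := by
  have h3 : (3 : K) = 0 := three_zero
  have : g ^ 8 = (g ^ 4) ^ 2 := by ring
  rw [this, hg]
  linear_combination (-g) * h3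

theorem g16 {g : K} (hg : g ^ 4 = 1 - g) : g ^ 16 = -1 + g - g ^ 3 := by
  have h3 : (3 : K) = 0 := three_zero
  have : g ^ 16 = (g ^ 8) ^ 2 := by ring
  rw [this, g8 hg]
  have h4 : (1 + g + g ^ 2) ^ 2 = 1 + 2 * g + 3 * g ^ 2 + 2 * g ^ 3 + g ^ 4 := by ring
  rw [h4, hg]
  linear_combination (1 + g ^ 2 + g ^ 3) * h3

theorem g40 {g : K} (hg : g ^ 4 = 1 - g) : g ^ 40 = -1 := by
  have h3 : (3 : K) = 0 := three_zero
  have e : g ^ 40 = (g ^ 16) ^ 2 * g ^ 8 := by ring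
  have h5 : (g ^ 16) ^ 2 = g ^ 32 := by ring
  have h6 : (-1 + g - g ^ 3) ^ 2 = 1 + g ^ 2 + g ^ 6 - 2 * g + 2 * g ^ 3 - 2 * g ^ 4 := by ring
  have h7 : g ^ 6 = g ^ 2 - g ^ 3 := by
    have : g ^ 6 = g ^ 4 * g ^ 2 := by ring
    rw [this, hg]; ring
  have h8 : (-1 + g - g ^ 3) ^ 2 = -1 + 2 * g ^ 2 + g ^ 3 := by
    rw [h6, h7, hg]; ring
  rw [e, g16 hg, h8, g8 hg]
  have h9 : (-1 + 2 * g ^ 2 + g ^ 3) * (1 + g + g ^ 2) = -1 - g + g ^ 2 + 3 * g ^ 3 + 3 * g ^ 4 + g ^ 4 * g := by ring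
  rw [h9, hg]
  linear_combination (g ^ 3 + 1 - g) * h3

theorem g_ne {g : K} (hg : g ^ 4 = 1 - g) : g ≠ 0 := by
  rintro rfl
  simp at hg

theorem two_ne : (2 : K) ≠ 0 := by
  intro h
  have h3 : (3 : K) = 0 := three_zero
  have : (1 : K) = 0 := by linear_combination h3 - h
  exact one_ne_zero this

theorem prim {g : K} (hg : g ^ 4 = 1 - g) : IsPrimitiveRoot g 80 := by
  have h3 : (3 : K) = 0 := three_zero
  have h80 : g ^ 80 = 1 := by
    have : g ^ 80 = (g ^ 40) ^ 2 := by ring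
    rw [this, g40 hg]; ring
  have h40 : g ^ 40 ≠ 1 := by
    rw [g40 hg]
    intro h
    apply two_ne (K := K)
    linear_combination -h
  have h16 : g ^ 16 ≠ 1 := by
    rw [g16 hg]
    intro h
    -- `g³ = g + 1`, so `g⁴ = g² + g = 1 - g`
    have e1 : g ^ 3 = g + 1 := by linear_combination -h - h3
    have e2 : g ^ 4 = g ^ 2 + g := by
      have : g ^ 4 = g ^ 3 * g := by ring
      rw [this, e1]; ring
    have e3 : g ^ 2 = 1 + g := by linear_combination hg - e2 - g * h3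
    have e4 : g ^ 3 = 1 + 2 * g := by
      have : g ^ 3 = g ^ 2 * g := by ring
      rw [this, e3]
      linear_combination e3
    exact g_ne hg (by linear_combination e1 - e4)
  have h1 : orderOf g ∣ 80 := orderOf_dvd_of_pow_eq_one h80
  have h2 : orderOf g = 80 := by
    have h4 : ∀ n ∈ Nat.divisors 80, ¬ (n ∣ 16 ∨ n ∣ 40) → n = 80 := by decide
    refine h4 _ (Nat.mem_divisors.2 ⟨h1, by norm_num⟩) ?_
    rintro (h5 | h5)
    · exact h16 (orderOf_dvd_iff_pow_eq_one.1 h5)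
    · exact h40 (orderOf_dvd_iff_pow_eq_one.1 h5)
  rw [← h2]
  exact IsPrimitiveRoot.orderOf g

theorem exists_log {g : K} (hg : g ^ 4 = 1 - g) {x : K} (hx : x ^ 81 = x) : x = 0 ∨ ∃ i < 80, x = g ^ i := by
  by_cases h0 : x = 0
  · exact Or.inl h0
  · right
    have h1 : x ^ 80 = 1 := by
      have h2 : x ^ 80 * x = 1 * x := by rw [one_mul, ← pow_succ]; exact hx
      exact mul_right_cancel₀ h0 h2
    obtain ⟨i, hi, h2⟩ := (prim hg).eq_pow_of_pow_eq_one h1
    exact ⟨i, hi, h2.symm⟩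

/-- one of `0, 1, -1` -/
def IsTrit (a : K) : Prop := a = 0 ∨ a = 1 ∨ a = -1

theorem IsTrit.add {a b : K} (ha : IsTrit a) (hb : IsTrit b) : IsTrit (a + b) := by
  have h3 : (3 : K) = 0 := three_zero
  rcases ha with rfl | rfl | rfl <;> rcases hb with rfl | rfl | rfl
  · left; ring
  · right; left; ring
  · right; right; ring
  · right; left; ring
  · right; right; linear_combination h3
  · left; ring
  · right; right; ring
  · left; ring
  · right; left; linear_combination -h3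

theorem IsTrit.neg {a : K} (ha : IsTrit a) : IsTrit (-a) := by
  rcases ha with rfl | rfl | rfl
  · left; ring
  · right; right; ring
  · right; left; ring

/-- **Coordinates in `F_81`.** -/
theorem exists_trits {g : K} (hg : g ^ 4 = 1 - g) {x : K} (hx : x ^ 81 = x) :
    ∃ a b c d : K, IsTrit a ∧ IsTrit b ∧ IsTrit c ∧ IsTrit d ∧ x = a + b * g + c * g ^ 2 + d * g ^ 3 := by
  rcases exists_log hg hx with rfl | ⟨i, -, rfl⟩
  · exact ⟨0, 0, 0, 0, Or.inl rfl, Or.inl rfl, Or.inl rfl, Or.inl rfl, by ring⟩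
  · clear hx
    induction i with
    | zero => exact ⟨1, 0, 0, 0, Or.inr (Or.inl rfl), Or.inl rfl, Or.inl rfl, Or.inl rfl, by ring⟩
    | succ i ih =>
      obtain ⟨a, b, c, d, ha, hb, hc, hd, e⟩ := ih
      refine ⟨d, a + -d, b, c, hd, ha.add hd.neg, hb, hc, ?_⟩
      rw [pow_succ, e]
      linear_combination d * hg

end Cfsg.Agent.H138.E8L
end

-- part: H138/E8L/Scal
section
/-!
# S5925, box F2: the scaled frame (helper138)

`herm_scaled` : in the basis `E_ab^s = g^(r_a - r_b) E_ab` the matrix `q` satisfies `q * Mh q = 1`,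
`Mh q a b = J_a J_b q_(σa σb)^9`, and the second block is `Q2 q (3a) (3b) = S_a S_b q_ab^3`.
-/

set_option autoImplicit false

namespace Cfsg.Agent.H138.E8L

open Matrix

variable {K : Type*} [Field K]

/-- exponents of the first block -/
def e0 : Fin 5 → ℕ := ![0, 15, 30, 40, 30]
/-- exponents of the second block -/
def e1 : Fin 5 → ℕ := ![0, 10, 10, 5, 0]
/-- `σ a = 2 - a` -/
def sg : Fin 5 → Fin 5 := ![2, 1, 0, 4, 3]
/-- `a ↦ 2 a` -/
def tw : Fin 5 → Fin 5 := ![0, 2, 4, 1, 3]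
/-- signs -/
def J : Fin 5 → ℤ := ![1, 1, 1, -1, -1]
/-- signs -/
def S : Fin 5 → ℤ := ![1, -1, 1, -1, -1]

/-- the conjugate matrix -/
def Mh (q : Matrix (Fin 5) (Fin 5) K) : Matrix (Fin 5) (Fin 5) K :=
  Matrix.of fun a b => (J a : K) * (J b : K) * q (sg a) (sg b) ^ 9

/-- the second block -/
def Q2 (q : Matrix (Fin 5) (Fin 5) K) : Matrix (Fin 5) (Fin 5) K :=
  Matrix.of fun a b => (S (tw a) : K) * (S (tw b) : K) * q (tw a) (tw b) ^ 3

/-- diagonal scaling -/
def Dg (g : K) (e : Fin 5 → ℕ) : Matrix (Fin 5) (Fin 5) K := Matrix.diagonal fun a => g ^ e a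
/-- inverse diagonal scaling -/
def Di (g : K) (e : Fin 5 → ℕ) : Matrix (Fin 5) (Fin 5) K := Matrix.diagonal fun a => (g⁻¹) ^ e a

theorem Dg_Di {g : K} (hg : g ≠ 0) (e : Fin 5 → ℕ) : Dg g e * Di g e = 1 := by
  unfold Dg Di
  rw [Matrix.diagonal_mul_diagonal, ← Matrix.diagonal_one]
  congr 1
  funext a
  rw [← mul_pow, mul_inv_cancel₀ hg, one_pow]

theorem Di_Dg {g : K} (hg : g ≠ 0) (e : Fin 5 → ℕ) : Di g e * Dg g e = 1 := mul_eq_one_comm.1 (Dg_Di hg e)

theorem Dg_t (g : K) (e : Fin 5 → ℕ) : (Dg g e)ᵀ = Dg g e := Matrix.diagonal_transpose _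
theorem Di_t (g : K) (e : Fin 5 → ℕ) : (Di g e)ᵀ = Di g e := Matrix.diagonal_transpose _

theorem Dg_mul (g : K) (e : Fin 5 → ℕ) (A : Matrix (Fin 5) (Fin 5) K) (a b : Fin 5) :
    (Dg g e * A * Dg g e) a b = g ^ e a * A a b * g ^ e b := by
  unfold Dg
  rw [Matrix.mul_diagonal, Matrix.diagonal_mul]

theorem Di_mul (g : K) (e : Fin 5 → ℕ) (A : Matrix (Fin 5) (Fin 5) K) (a b : Fin 5) :
    (Di g e * A * Di g e) a b = (g⁻¹) ^ e a * A a b * (g⁻¹) ^ e b := by
  unfold Di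
  rw [Matrix.mul_diagonal, Matrix.diagonal_mul]

/-- signs of `RR` -/
def rs (a : Fin 5) : ℤ := if a = 1 then -1 else 1
/-- signs of `M0` -/
def ms (a : Fin 5) : ℤ := if tw a = 4 then -1 else 1

theorem RR_apply (a b : Fin 5) : (RR : Matrix (Fin 5) (Fin 5) K) a b = if b = sg a then (rs a : K) else 0 := by
  (revert a b; simp only [RR, sg, rs, _root_.Fin.forall_fin_succ, _root_.Matrix.of_apply, _root_.Matrix.cons_val', _root_.Matrix.cons_val_fin_one, Fin.isValue, Int.reduceNeg, _root_.Int.cast_ite, _root_.Int.cast_neg, _root_.Int.cast_one, _root_.Matrix.cons_val_zero, _root_.Matrix.cons_val_succ, _root_.Fin.succ_zero_eq_one, _root_.Fin.succ_one_eq_two, Fin.reduceSucc, _root_.IsEmpty.forall_iff, _root_.and_true, Fin.reduceEq, ↓reduceIte, _root_.zero_ne_one, _root_.and_self, _root_.one_ne_zero, _root_.right_eq_ite_iff, _root_.true_and])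

theorem M0_apply (a b : Fin 5) : (M0 : Matrix (Fin 5) (Fin 5) K) a b = if b = tw a then (ms a : K) else 0 := by
  (revert a b; simp only [M0, tw, ms, _root_.Fin.forall_fin_succ, _root_.Matrix.of_apply, _root_.Matrix.cons_val', _root_.Matrix.cons_val_fin_one, Fin.isValue, Int.reduceNeg, _root_.Matrix.cons_val_zero, _root_.Matrix.cons_val_succ, _root_.Fin.succ_zero_eq_one, _root_.Fin.succ_one_eq_two, Fin.reduceSucc, _root_.IsEmpty.forall_iff, _root_.and_true, ↓reduceIte, Fin.reduceEq, _root_.Int.cast_one, _root_.one_ne_zero, _root_.and_self, _root_.Int.cast_ite, _root_.Int.cast_neg, _root_.zero_ne_one, _root_.implies_true])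

theorem RR_mul (A : Matrix (Fin 5) (Fin 5) K) (a b : Fin 5) : (RR * A : Matrix (Fin 5) (Fin 5) K) a b = (rs a : K) * A (sg a) b := by
  rw [Matrix.mul_apply]
  simp [RR_apply]

theorem mul_RR (A : Matrix (Fin 5) (Fin 5) K) (a b : Fin 5) : (A * RR : Matrix (Fin 5) (Fin 5) K) a b = (rs b : K) * A a (sg b) := by
  have h : A * RR = (RR * Aᵀ)ᵀ := by rw [Matrix.transpose_mul, RR_symm, Matrix.transpose_transpose]
  rw [h, Matrix.transpose_apply, RR_mul, Matrix.transpose_apply]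

theorem RR_conj (A : Matrix (Fin 5) (Fin 5) K) (a b : Fin 5) :
    (RR * A * RR : Matrix (Fin 5) (Fin 5) K) a b = (rs a : K) * (rs b : K) * A (sg a) (sg b) := by
  rw [mul_RR, RR_mul]; ring

theorem M0_mul_apply (A : Matrix (Fin 5) (Fin 5) K) (a b : Fin 5) : (M0 * A : Matrix (Fin 5) (Fin 5) K) a b = (ms a : K) * A (tw a) b := by
  rw [Matrix.mul_apply]
  simp [M0_apply]

theorem M0_conj (A : Matrix (Fin 5) (Fin 5) K) (a b : Fin 5) :
    (M0 * A * M0ᵀ : Matrix (Fin 5) (Fin 5) K) a b = (ms a : K) * (ms b : K) * A (tw a) (tw b) := by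
  have h : M0 * A * M0ᵀ = (M0 * (M0 * A)ᵀ)ᵀ := by rw [Matrix.transpose_mul, Matrix.transpose_transpose]
  rw [h, Matrix.transpose_apply, M0_mul_apply, Matrix.transpose_apply, M0_mul_apply]; ring

theorem conj_scal {g : K} (hg : g ≠ 0) (e : Fin 5 → ℕ) (q : Matrix (Fin 5) (Fin 5) K)
    (A : Matrix (Fin 5) (Fin 5) K) :
    q⁻¹ * (Dg g e * A * Di g e)ᵀ * q =
      Dg g e * ((Di g e * q⁻¹ * Di g e) * Aᵀ * (Dg g e * q * Dg g e)) * Di g e := by
  rw [Matrix.transpose_mul, Matrix.transpose_mul, Dg_t, Di_t]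
  have h1 := Dg_Di hg e
  have h2 := Di_Dg hg e
  calc q⁻¹ * (Di g e * (Aᵀ * Dg g e)) * q = 1 * q⁻¹ * Di g e * Aᵀ * Dg g e * q * 1 := by
        rw [Matrix.one_mul, Matrix.mul_one]; simp only [Matrix.mul_assoc]
    _ = (Dg g e * Di g e) * q⁻¹ * Di g e * Aᵀ * Dg g e * q * (Dg g e * Di g e) := by rw [h1]
    _ = _ := by simp only [Matrix.mul_assoc]

theorem inv_scal {g : K} (hg : g ≠ 0) (e : Fin 5 → ℕ) {q : Matrix (Fin 5) (Fin 5) K} (hq : IsUnit q.det) :
    (Di g e * q⁻¹ * Di g e) * (Dg g e * q * Dg g e) = 1 := by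
  calc (Di g e * q⁻¹ * Di g e) * (Dg g e * q * Dg g e) = Di g e * q⁻¹ * (Di g e * Dg g e) * q * Dg g e := by
        simp only [Matrix.mul_assoc]
    _ = Di g e * (q⁻¹ * q) * Dg g e := by rw [Di_Dg hg, Matrix.mul_one]; simp only [Matrix.mul_assoc]
    _ = 1 := by rw [Matrix.nonsing_inv_mul q hq, Matrix.mul_one, Di_Dg hg]

theorem pow_red {h : K} (h40 : h ^ 40 = -1) (n m : ℕ) : h ^ (n + 80 * m) = h ^ n := by
  have : h ^ 80 = 1 := by
    have : h ^ 80 = (h ^ 40) ^ 2 := by ring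
    rw [this, h40]; ring
  rw [pow_add, pow_mul, this, one_pow, mul_one]

/-- the exponents of the sign relations -/
theorem sig_id {h : K} (h40 : h ^ 40 = -1) (a : Fin 5) :
    (rs a : K) * (h ^ e0 a * h ^ (9 * e0 (sg a))) = (J a : K) * h ^ 30 := by
  rw [← pow_add]
  have key : ∀ n m : ℕ, h ^ (n + 40 + 80 * m) = -h ^ n := fun n m => by
    rw [pow_red h40, pow_add, h40]; ring
  fin_cases a
  · show ((rs 0 : ℤ) : K) * h ^ (30 + 80 * 3) = ((J 0 : ℤ) : K) * h ^ 30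
    rw [pow_red h40]; simp [rs, J]
  · show ((rs 1 : ℤ) : K) * h ^ (30 + 40 + 80 * 1) = ((J 1 : ℤ) : K) * h ^ 30
    rw [key]; simp [rs, J]
  · show ((rs 2 : ℤ) : K) * h ^ 30 = ((J 2 : ℤ) : K) * h ^ 30
    simp [rs, J]
  · show ((rs 3 : ℤ) : K) * h ^ (30 + 40 + 80 * 3) = ((J 3 : ℤ) : K) * h ^ 30
    rw [key]; simp [rs, J]
  · show ((rs 4 : ℤ) : K) * h ^ (30 + 40 + 80 * 4) = ((J 4 : ℤ) : K) * h ^ 30
    rw [key]; simp [rs, J]

/-- the exponents of the second block -/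
theorem sig_id2 {g : K} (hg : g ≠ 0) (h40 : g⁻¹ ^ 40 = -1) (a : Fin 5) :
    (ms a : K) * (g ^ e1 a * (g⁻¹) ^ (3 * e0 (tw a))) = (S (tw a) : K) := by
  have h1 : g * g⁻¹ = 1 := mul_inv_cancel₀ hg
  have key : ∀ n m : ℕ, g ^ n * g⁻¹ ^ (n + m) = g⁻¹ ^ m := fun n m => by
    rw [pow_add, ← mul_assoc, ← mul_pow, h1, one_pow, one_mul]
  have h80 : g⁻¹ ^ 80 = 1 := by
    have : g⁻¹ ^ 80 = (g⁻¹ ^ 40) ^ 2 := by ring
    rw [this, h40]; ring
  fin_cases a
  · show ((ms 0 : ℤ) : K) * (g ^ 0 * (g⁻¹) ^ 0) = ((S 0 : ℤ) : K)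
    simp [ms, S, tw]
  · show ((ms 1 : ℤ) : K) * (g ^ 10 * (g⁻¹) ^ (10 + 80)) = ((S 2 : ℤ) : K)
    rw [key, h80]; simp [ms, S, tw]
  · show ((ms 2 : ℤ) : K) * (g ^ 10 * (g⁻¹) ^ (10 + 80)) = ((S 4 : ℤ) : K)
    rw [key, h80]; simp [ms, S, tw]
  · show ((ms 3 : ℤ) : K) * (g ^ 5 * (g⁻¹) ^ (5 + 40)) = ((S 1 : ℤ) : K)
    rw [key, h40]; simp [ms, S, tw]
  · show ((ms 4 : ℤ) : K) * (g ^ 0 * (g⁻¹) ^ (0 + 120)) = ((S 3 : ℤ) : K)
    rw [key]
    have : g⁻¹ ^ 120 = (g⁻¹ ^ 40) ^ 3 := by ring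
    rw [this, h40]; simp only [ms, S, tw, _root_.Fin.isValue, _root_.Matrix.cons_val, _root_.Fin.reduceEq, ↓ _root_.reduceIte, _root_.Int.cast_one, _root_.one_mul, _root_.Int.reduceNeg, _root_.Int.cast_neg]; ring

theorem S_sq (a : Fin 5) : (S a : K) * (S a : K) = 1 := by fin_cases a <;> simp [S]

theorem tw_bij : Function.Bijective tw := by decide

theorem Q2_mul [CharP K 3] (A B : Matrix (Fin 5) (Fin 5) K) : Q2 (A * B) = Q2 A * Q2 B := by
  ext a b
  rw [Matrix.mul_apply]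
  show (S (tw a) : K) * (S (tw b) : K) * (A * B) (tw a) (tw b) ^ 3 =
    ∑ c, ((S (tw a) : K) * (S (tw c) : K) * A (tw a) (tw c) ^ 3) * ((S (tw c) : K) * (S (tw b) : K) * B (tw c) (tw b) ^ 3)
  have h1 : (A * B) (tw a) (tw b) ^ 3 = ∑ c, (A (tw a) c ^ 3) * (B c (tw b) ^ 3) := by
    rw [Matrix.mul_apply]
    have := map_sum (frobenius K 3) (fun c => A (tw a) c * B c (tw b)) Finset.univ
    rw [frobenius_def] at this
    rw [this]
    exact Finset.sum_congr rfl fun c _ => by rw [frobenius_def, mul_pow]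
  rw [h1, Finset.mul_sum, ← Function.Bijective.sum_comp tw_bij]
  refine Finset.sum_congr rfl fun c _ => ?_
  have h2 := S_sq (K := K) (tw c)
  linear_combination (-(S (tw a) : K) * (S (tw b) : K) * A (tw a) (tw c) ^ 3 * B (tw c) (tw b) ^ 3) * h2

theorem Q2_one : Q2 (1 : Matrix (Fin 5) (Fin 5) K) = 1 := by
  ext a b
  show (S (tw a) : K) * (S (tw b) : K) * (1 : Matrix (Fin 5) (Fin 5) K) (tw a) (tw b) ^ 3 = _
  by_cases h : a = b
  · subst h
    rw [Matrix.one_apply_eq, Matrix.one_apply_eq, S_sq]; ring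
  · rw [Matrix.one_apply_ne h, Matrix.one_apply_ne fun e => h (tw_bij.1 e)]; ring

/-- **S5925, F2, scaled frame.** -/
theorem herm_scaled {Idx : Type*} [Fintype Idx] [IsAlgClosed K] [CharP K 3]
    (io : (Matrix (Fin 5) (Fin 5) K × Matrix (Fin 5) (Fin 5) K) →ₗ[K] (Idx → K))
    (hinj : ∀ A0 A1 B0 B1 : Matrix (Fin 5) (Fin 5) K, A0.trace = 0 → A1.trace = 0 → B0.trace = 0 → B1.trace = 0 →
      io (A0, A1) = io (B0, B1) → A0 = B0 ∧ A1 = B1)
    (hσ : ∀ (A0 A1 : Matrix (Fin 5) (Fin 5) K) (i : Idx),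
      io (A0.map (frobenius K 3), A1.map (frobenius K 3)) i = io (A0, A1) i ^ 3)
    {T N : Matrix Idx Idx K} (hTN : N * T.map (frobenius K 3) = T * N)
    (hNa : ∀ A0 A1 : Matrix (Fin 5) (Fin 5) K, A0.trace = 0 → A1.trace = 0 →
      N *ᵥ io (A0, A1) = io (-(M1 * A1ᵀ * M1ᵀ), M0 * A0 * M0ᵀ))
    {q0 q1 : Matrix (Fin 5) (Fin 5) K} (h0 : IsUnit q0.det) (h1 : IsUnit q1.det) (hs0 : q0ᵀ = q0) (hs1 : q1ᵀ = q1)
    (hT : ∀ A0 A1 : Matrix (Fin 5) (Fin 5) K, A0.trace = 0 → A1.trace = 0 →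
      T *ᵥ io (A0, A1) = io (-(q0⁻¹ * A0ᵀ * q0), -(q1⁻¹ * A1ᵀ * q1)))
    {g : K} (hg4 : g ^ 4 = 1 - g) :
    ∃ q : Matrix (Fin 5) (Fin 5) K, qᵀ = q ∧ (∀ i j, q i j ^ 81 = q i j) ∧ q * Mh q = 1 ∧ Mh q * q = 1 ∧
      Q2 (Mh q) * Q2 q = 1 ∧
      ∀ A0 A1 : Matrix (Fin 5) (Fin 5) K, A0.trace = 0 → A1.trace = 0 →
        T *ᵥ io (Dg g e0 * A0 * Di g e0, Dg g e1 * A1 * Di g e1) =
          io (Dg g e0 * (-(Mh q * A0ᵀ * q)) * Di g e0, Dg g e1 * (-(Q2 (Mh q) * A1ᵀ * Q2 q)) * Di g e1) := by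
  obtain ⟨p, hpt, hpu, h81, hher, hact⟩ := herm_io io hinj hσ hTN hNa h0 h1 hs0 hs1 hT
  have hg := g_ne hg4
  have hgi : g * g⁻¹ = 1 := mul_inv_cancel₀ hg
  have hh40 : g⁻¹ ^ 40 = -1 := by rw [inv_pow, g40 hg4]; simp
  have hh80 : g⁻¹ ^ 80 = 1 := by
    have : g⁻¹ ^ 80 = (g⁻¹ ^ 40) ^ 2 := by ring
    rw [this, hh40]; ring
  have hg81 : g ^ 81 = g := by rw [pow_succ, (prim hg4).pow_eq_one, one_mul]
  -- the scaled matrix
  set q : Matrix (Fin 5) (Fin 5) K := g ^ 2 • (Dg g e0 * p * Dg g e0) with hq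
  have hqa : ∀ a b, q a b = g ^ 2 * (g ^ e0 a * p a b * g ^ e0 b) := fun a b => by
    rw [hq, Matrix.smul_apply, Dg_mul, smul_eq_mul]
  have hpi : p⁻¹ = RR * p.map (fun x => x ^ 9) * RR := by
    apply Matrix.inv_eq_right_inv
    simpa only [Matrix.mul_assoc] using hher
  have hpa : ∀ a b, p a b = g⁻¹ ^ 2 * (g⁻¹ ^ e0 a * q a b * g⁻¹ ^ e0 b) := fun a b => by
    rw [hqa]
    have e2 : ∀ n : ℕ, g⁻¹ ^ n * g ^ n = 1 := fun n => by rw [← mul_pow, inv_mul_cancel₀ hg, one_pow]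
    calc p a b = (g⁻¹ ^ 2 * g ^ 2) * (g⁻¹ ^ e0 a * g ^ e0 a) * p a b * (g⁻¹ ^ e0 b * g ^ e0 b) := by
          rw [e2, e2, e2]; ring
      _ = _ := by ring
  -- the conjugate matrix is the inverse
  have hM : Mh q = g⁻¹ ^ 2 • (Di g e0 * p⁻¹ * Di g e0) := by
    ext a b
    rw [Matrix.smul_apply, Di_mul, smul_eq_mul, hpi, RR_conj, Matrix.map_apply, hpa]
    have s1 := sig_id hh40 (K := K) a
    have s2 := sig_id hh40 (K := K) b
    show (J a : K) * (J b : K) * q (sg a) (sg b) ^ 9 = _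
    have e1 : g⁻¹ ^ 2 * (g⁻¹ ^ e0 a * ((rs a : K) * (rs b : K) *
        (g⁻¹ ^ 2 * (g⁻¹ ^ e0 (sg a) * q (sg a) (sg b) * g⁻¹ ^ e0 (sg b))) ^ 9) * g⁻¹ ^ e0 b) =
        ((rs a : K) * (g⁻¹ ^ e0 a * g⁻¹ ^ (9 * e0 (sg a)))) * ((rs b : K) * (g⁻¹ ^ e0 b * g⁻¹ ^ (9 * e0 (sg b)))) *
          (g⁻¹ ^ 20 * q (sg a) (sg b) ^ 9) := by
      rw [mul_pow, mul_pow, mul_pow, ← pow_mul, ← pow_mul, ← pow_mul, mul_comm (e0 (sg a)) 9, mul_comm (e0 (sg b)) 9]
      ring
    rw [e1, s1, s2]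
    have e3 : (J a : K) * g⁻¹ ^ 30 * ((J b : K) * g⁻¹ ^ 30) * (g⁻¹ ^ 20 * q (sg a) (sg b) ^ 9) =
        (J a : K) * (J b : K) * q (sg a) (sg b) ^ 9 * g⁻¹ ^ 80 := by ring
    rw [e3, hh80, mul_one]
  have hMq : Mh q * q = 1 := by
    rw [hM, hq, Matrix.smul_mul, Matrix.mul_smul, smul_smul, inv_scal hg e0 hpu, ← mul_pow, inv_mul_cancel₀ hg, one_pow,
      one_smul]
  -- the second block
  set p1 : Matrix (Fin 5) (Fin 5) K := M0 * p.map (fun x => x ^ 3) * M0ᵀ with hp1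
  have hQ : Q2 q = g ^ 6 • (Dg g e1 * p1 * Dg g e1) := by
    ext a b
    rw [Matrix.smul_apply, Dg_mul, smul_eq_mul, hp1, M0_conj, Matrix.map_apply, hpa]
    have s1 := sig_id2 hg hh40 a
    have s2 := sig_id2 hg hh40 b
    show (S (tw a) : K) * (S (tw b) : K) * q (tw a) (tw b) ^ 3 = _
    have e1' : g ^ 6 * (g ^ e1 a * ((ms a : K) * (ms b : K) *
        (g⁻¹ ^ 2 * (g⁻¹ ^ e0 (tw a) * q (tw a) (tw b) * g⁻¹ ^ e0 (tw b))) ^ 3) * g ^ e1 b) =
        ((ms a : K) * (g ^ e1 a * g⁻¹ ^ (3 * e0 (tw a)))) * ((ms b : K) * (g ^ e1 b * g⁻¹ ^ (3 * e0 (tw b)))) *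
          ((g ^ 6 * g⁻¹ ^ 6) * q (tw a) (tw b) ^ 3) := by
      rw [mul_pow, mul_pow, mul_pow, ← pow_mul, ← pow_mul, ← pow_mul, mul_comm (e0 (tw a)) 3, mul_comm (e0 (tw b)) 3]
      ring
    rw [e1', s1, s2, ← mul_pow, hgi, one_pow, one_mul]
  have hp1u : IsUnit p1.det := by
    have e : p1 * (M0 * p⁻¹.map (fun x => x ^ 3) * M0ᵀ) = 1 := by
      have hm : p.map (fun x => x ^ 3) * p⁻¹.map (fun x => x ^ 3) = 1 := by
        have h2 : p.map (fun x => x ^ 3) = p.map (frobenius K 3) := rfl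
        have h3 : p⁻¹.map (fun x => x ^ 3) = p⁻¹.map (frobenius K 3) := rfl
        rw [h2, h3, ← Matrix.map_mul, Matrix.mul_nonsing_inv p hpu]
        ext i j
        simp [Matrix.one_apply]
      calc p1 * (M0 * p⁻¹.map (fun x => x ^ 3) * M0ᵀ) =
          M0 * p.map (fun x => x ^ 3) * (M0ᵀ * M0) * p⁻¹.map (fun x => x ^ 3) * M0ᵀ := by
            rw [hp1]; simp only [Matrix.mul_assoc]
        _ = M0 * (p.map (fun x => x ^ 3) * p⁻¹.map (fun x => x ^ 3)) * M0ᵀ := by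
            rw [M0_mul', Matrix.mul_one]; simp only [Matrix.mul_assoc]
        _ = 1 := by rw [hm, Matrix.mul_one, M0_mul]
    exact (Matrix.isUnit_iff_isUnit_det _).1 (IsUnit.of_mul_eq_one _ e)
  have hQQ : Q2 (Mh q) * Q2 q = 1 := by rw [← Q2_mul, hMq, Q2_one]
  have hQi : Q2 (Mh q) = g⁻¹ ^ 6 • (Di g e1 * p1⁻¹ * Di g e1) := by
    have e : (g⁻¹ ^ 6 • (Di g e1 * p1⁻¹ * Di g e1)) * Q2 q = 1 := by
      rw [hQ, Matrix.smul_mul, Matrix.mul_smul, smul_smul, inv_scal hg e1 hp1u, ← mul_pow, inv_mul_cancel₀ hg, one_pow,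
        one_smul]
    have e' : Q2 q * Q2 (Mh q) = 1 := mul_eq_one_comm.1 hQQ
    calc Q2 (Mh q) = (g⁻¹ ^ 6 • (Di g e1 * p1⁻¹ * Di g e1)) * Q2 q * Q2 (Mh q) := by rw [e, Matrix.one_mul]
      _ = g⁻¹ ^ 6 • (Di g e1 * p1⁻¹ * Di g e1) := by rw [Matrix.mul_assoc, e', Matrix.mul_one]
  have cs : ∀ (n : ℕ) (X Y A : Matrix (Fin 5) (Fin 5) K), (g⁻¹ ^ n • X) * A * (g ^ n • Y) = X * A * Y := by
    intro n X Y A
    rw [Matrix.smul_mul, Matrix.smul_mul, Matrix.mul_smul, smul_smul, ← mul_pow, inv_mul_cancel₀ hg, one_pow, one_smul]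
  have htr : ∀ (e : Fin 5 → ℕ) (A : Matrix (Fin 5) (Fin 5) K), A.trace = 0 → (Dg g e * A * Di g e).trace = 0 := by
    intro e A hA
    rw [Matrix.trace_mul_comm, ← Matrix.mul_assoc, Di_Dg hg, Matrix.one_mul, hA]
  refine ⟨q, ?_, ?_, mul_eq_one_comm.1 hMq, hMq, hQQ, ?_⟩
  · rw [hq, Matrix.transpose_smul, Matrix.transpose_mul, Matrix.transpose_mul, Dg_t, hpt, Matrix.mul_assoc]
  · intro i j
    rw [hqa]
    have e5 : ∀ n : ℕ, (g ^ n) ^ 81 = g ^ n := fun n => by rw [← pow_mul, mul_comm, pow_mul, hg81]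
    rw [mul_pow, mul_pow, mul_pow, e5, e5, e5, h81]
  · intro A0 A1 t0 t1
    rw [hact _ _ (htr e0 A0 t0) (htr e1 A1 t1)]
    congr 1
    rw [conj_scal hg, conj_scal hg, hQi, hM, hQ]
    conv_rhs => rw [hq]
    rw [cs, cs, Matrix.mul_neg, Matrix.neg_mul, Matrix.mul_neg, Matrix.neg_mul]

end Cfsg.Agent.H138.E8L
end

private theorem dce_962681f1314d : _root_.True := by
  try have : _root_.True := by simp only [_root_.Cfsg.Agent.H138.E8L.sg.eq_1]
  try have : _root_.True := by simp only [_root_.Cfsg.Agent.H138.E8L.rs.eq_1]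
  try have : _root_.True := by simp only [_root_.Cfsg.Agent.H138.E8L.J.eq_1]
  try have : _root_.True := by simp only [_root_.Cfsg.Agent.H138.E8L.ms.eq_1]
  try have : _root_.True := by simp only [_root_.Cfsg.Agent.H138.E8L.S.eq_1]
  try have : _root_.True := by simp only [_root_.Cfsg.Agent.H138.E8L.tw.eq_1]
  exact _root_.True.intro
end

-- part: H879/E83/PNine
section
prune_inst 0x350041006522020808182596330020646400019200604000a8a00d4001492360a94729003ab0351080ae9a507808004000100180020000000a003c000003012080800200a14802040e001f800084000000000000000000000000000000000004000000000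
set_option linter.all false
open scoped Cfsg.Agent.FastGrp

-- part: H879/E83/PForm
section
/-!
# S5925, box G3: the ten ternary parameters of `P a b = (q₀⁻¹) a b * q₀ b a`
-/

set_option autoImplicit false
set_option linter.style.longLine false

namespace Cfsg.Agent.H879.E83
open Matrix

section
variable {F : Type*} [Field F] {g : F}

theorem k00_m00 (hg : g ^ 4 = 1 - g) (h3 : (3 : F) = 0) (m : Fin 5) : k00 g m + m00 g m = s00 m := by
  have e1 := a1 hg h3
  have e2 := a2 hg h3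
  (revert m; simp only [k00, m00, s00, _root_.Fin.forall_fin_succ, Fin.isValue, _root_.Matrix.cons_val_zero, _root_.add_zero, _root_.Matrix.cons_val_succ, _root_.Matrix.cons_val_fin_one, _root_.forall_const, _root_.and_true, _root_.true_and]) <;> (repeat' with_reducible apply And.intro)
  · linear_combination e1
  · linear_combination e2
  · linear_combination e2
  · linear_combination e1

theorem k01_m01 (hg : g ^ 4 = 1 - g) (h3 : (3 : F) = 0) (m : Fin 5) : k01 g m + m01 g m = s01 m := by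
  have e1 := a1 hg h3
  have e3 := a3 hg h3
  (revert m; simp only [k01, m01, s01, _root_.Fin.forall_fin_succ, Fin.isValue, _root_.Matrix.cons_val_zero, _root_.Matrix.cons_val_succ, _root_.add_zero, _root_.Matrix.cons_val_fin_one, _root_.forall_const, _root_.and_true, _root_.true_and]) <;> (repeat' with_reducible apply And.intro)
  · linear_combination e1
  · linear_combination e1
  · linear_combination e3
  · linear_combination e3

theorem cr5_add (k k' : Fin 5 → F) (A : Mt F) (a : Fin 5) : cr5 k A a + cr5 k' A a = cr5 (fun m => k m + k' m) A a := by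
  unfold cr5
  rw [← Finset.sum_add_distrib]
  exact Finset.sum_congr rfl fun c _ => by ring

theorem cube_add (h3 : (3 : F) = 0) (a b : F) : (a + b) ^ 3 = a ^ 3 + b ^ 3 := by
  linear_combination (a ^ 2 * b + a * b ^ 2) * h3

theorem cube_sum (h3 : (3 : F) = 0) {α : Type*} (s : Finset α) (f : α → F) : (∑ i ∈ s, f i) ^ 3 = ∑ i ∈ s, f i ^ 3 := by
  classical
  induction s using Finset.induction_on with
  | empty => simp
  | insert a s ha ih => rw [Finset.sum_insert ha, Finset.sum_insert ha, cube_add h3, ih]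

/-- `∑ a, χ_{-l}(a) ∑ c, k (a - c) d c = (∑ m, χ_{-l}(m) k m) (∑ c, χ_{-l}(c) d c)` -/
theorem ft_cr5 (hg : g ^ 4 = 1 - g) (h3 : (3 : F) = 0) (k : Fin 5 → F) (A : Mt F) (l : Fin 5) :
    ∑ a, ch g l a * cr5 k A a = (∑ m, ch g l m * k m) * ∑ c, ch g l c * A c c := by
  unfold cr5
  simp only [Finset.mul_sum]
  rw [Finset.sum_comm]
  refine Finset.sum_congr rfl fun c _ => ?_
  rw [Finset.sum_mul]
  refine Fintype.sum_equiv (Equiv.subRight c) _ _ fun a => ?_
  change ch g l a * (k (a - c) * A c c) = ch g l (a - c) * k (a - c) * (ch g l c * A c c)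
  have e : ch g l a = ch g l (a - c) * ch g l c := by rw [← ch_add hg h3, sub_add_cancel]
  rw [e]; ring

variable {L : Type*} [AddCommGroup L] [Module F L] {X Y T : Module.End F L}
  {ι : Mt F × Mt F →ₗ[F] L} {q0 r0 q1 r1 : Mt F}

/-- C1, diagonal entries -/
theorem GFrame.C1d (h : GFrame g X Y T ι q0 r0 q1 r1) (D : Fin 5 → F) (a : Fin 5) :
    cr5 s00 (TA q0 r0 D) a + cr5 s01 (TB q1 r1 D) a - TA q0 r0 D a a = D (a - 2) - D a := by
  have e := congrFun (congrFun (h.C1m D).1 a) a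
  rw [Matrix.sub_apply, Matrix.add_apply] at e
  simp only [XP0, XM0, if_true, V0, Matrix.diagonal_apply_eq] at e
  rw [← e]
  have e0 : cr5 s00 (TA q0 r0 D) a = cr5 (k00 g) (TA q0 r0 D) a + cr5 (m00 g) (TA q0 r0 D) a := by
    rw [cr5_add]; exact congrArg (fun k => cr5 k _ a) (funext fun m => (k00_m00 h.hg h.h3 m).symm)
  have e1 : cr5 s01 (TB q1 r1 D) a = cr5 (k01 g) (TB q1 r1 D) a + cr5 (m01 g) (TB q1 r1 D) a := by
    rw [cr5_add]; exact congrArg (fun k => cr5 k _ a) (funext fun m => (k01_m01 h.hg h.h3 m).symm)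
  rw [e0, e1]; ring

/-- the Fourier coefficients of `P`: `p j l = - ∑ χ_{-l}(c) P c b χ_j(b)` -/
def pf (g : F) (P : Fin 5 → Fin 5 → F) (j l : Fin 5) : F := - ∑ c, ∑ b, ch g (-l) c * P c b * ch g j b

/-- Fourier inversion -/
theorem inversion (hg : g ^ 4 = 1 - g) (h3 : (3 : F) = 0) (P : Fin 5 → Fin 5 → F) (a b : Fin 5) :
    P a b = - ∑ j, ∑ l, pf g P j l * ch g l a * ch g (-j) b := by
  have o : ∀ (x y : Fin 5), ∑ l, ch g (-l) x * ch g l y = if x = y then 5 else 0 := by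
    intro x y
    have e : ∀ l, ch g (-l) x * ch g l y = ch g l (y - x) := by
      intro l
      have e1 : ch g l y = ch g l (y - x) * ch g l x := by rw [← ch_add hg h3, sub_add_cancel]
      rw [e1]
      linear_combination (ch g l (y - x)) * ch_neg_mul hg h3 l x
    simp only [e]
    by_cases hxy : x = y
    · subst hxy
      simp [ch_zero]
    · rw [if_neg hxy]
      have : y - x ≠ 0 := fun hh => hxy (sub_eq_zero.mp hh).symm
      calc ∑ l, ch g l (y - x) = ∑ l, ch g (y - x) l := Finset.sum_congr rfl fun l _ => ch_comm g _ _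
        _ = 0 := ch_sum hg h3 _ this
  have e1 : ∑ j, ∑ l, pf g P j l * ch g l a * ch g (-j) b
      = - ∑ c, ∑ d, P c d * (∑ l, ch g (-l) c * ch g l a) * (∑ j, ch g (-j) b * ch g j d) := by
    simp only [pf, neg_mul, Finset.sum_mul, Finset.mul_sum, Finset.sum_neg_distrib]
    refine congrArg Neg.neg ?_
    calc ∑ j, ∑ l, ∑ c, ∑ d, ch g (-l) c * P c d * ch g j d * ch g l a * ch g (-j) b
        = ∑ j, ∑ c, ∑ l, ∑ d, ch g (-l) c * P c d * ch g j d * ch g l a * ch g (-j) b :=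
          Finset.sum_congr rfl fun j _ => Finset.sum_comm
      _ = ∑ c, ∑ j, ∑ l, ∑ d, ch g (-l) c * P c d * ch g j d * ch g l a * ch g (-j) b := Finset.sum_comm
      _ = ∑ c, ∑ j, ∑ d, ∑ l, ch g (-l) c * P c d * ch g j d * ch g l a * ch g (-j) b :=
          Finset.sum_congr rfl fun c _ => Finset.sum_congr rfl fun j _ => Finset.sum_comm
      _ = ∑ c, ∑ d, ∑ j, ∑ l, ch g (-l) c * P c d * ch g j d * ch g l a * ch g (-j) b :=
          Finset.sum_congr rfl fun c _ => Finset.sum_comm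
      _ = _ := by
          refine Finset.sum_congr rfl fun c _ => Finset.sum_congr rfl fun d _ => ?_
          refine Finset.sum_congr rfl fun j _ => Finset.sum_congr rfl fun l _ => ?_
          ring
  rw [e1, neg_neg]
  simp only [o]
  have : ∀ c d : Fin 5, P c d * (if c = a then 5 else 0) * (if b = d then 5 else 0)
      = if c = a then (if b = d then P c d else 0) else 0 := by
    intro c d
    by_cases h1 : c = a <;> by_cases h2 : b = d <;> simp [h1, h2]
    subst h1; subst h2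
    linear_combination (8 * P c b) * h3
  simp only [this]
  rw [Finset.sum_eq_single a]
  · simp
  · intro c _ hc; simp [hc]
  · simp

/-- the values of `P` -/
structure PData (g : F) (P : Fin 5 → Fin 5 → F) : Prop where
  row : ∀ a, ∑ b, P a b = 1
  col : ∀ b, ∑ a, P a b = 1
  sym : ∀ a b, P a b = P b a
  eq : ∀ j l, j ≠ 0 → l ≠ 0 →
    g ^ (alE l) * (ch g j (-2) - 1) * pf g P j l + g ^ (beE l) * (1 - ch g j (-1)) * pf g P j l ^ 3
      = if j = l then -(ch g j (-2) - 1) else 0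

theorem GFrame.pdata (h : GFrame g X Y T ι q0 r0 q1 r1) (hs : q0ᵀ = q0)
    (hP : ∀ a b, r1 (3 * a) (3 * b) * q1 (3 * b) (3 * a) = (r0 a b * q0 b a) ^ 3) :
    PData g fun a b => r0 a b * q0 b a where
  row a := by
    have := congrFun (congrFun h.rq0 a) a
    rwa [Matrix.mul_apply, Matrix.one_apply_eq] at this
  col b := by
    have hq : q0 * r0 = 1 := mul_eq_one_comm.mp h.rq0
    have := congrFun (congrFun hq b) b
    rw [Matrix.mul_apply, Matrix.one_apply_eq] at this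
    rw [← this]; exact Finset.sum_congr rfl fun _ _ => mul_comm _ _
  sym a b := by
    have hr : r0ᵀ = r0 := by
      have e1 : q0 * r0ᵀ = 1 := by
        have := congrArg Matrix.transpose h.rq0
        rwa [Matrix.transpose_mul, hs, Matrix.transpose_one] at this
      have e2 : r0 * (q0 * r0ᵀ) = r0 := by rw [e1, Matrix.mul_one]
      rwa [← Matrix.mul_assoc, h.rq0, Matrix.one_mul] at e2
    have e1 : r0 a b = r0 b a := by conv_lhs => rw [← hr, Matrix.transpose_apply]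
    have e2 : q0 b a = q0 a b := by conv_lhs => rw [← hs, Matrix.transpose_apply]
    simp only [e1, e2]
  eq j l hj hl := by
    set P : Fin 5 → Fin 5 → F := fun a b => r0 a b * q0 b a with hPd
    have hg := h.hg
    have h3 := h.h3
    have c1 := fun a => h.C1d (ch g j) a
    have chs : ∀ a s : Fin 5, ch g j (a - s) = ch g j a * ch g j (-s) := fun a s => by
      rw [sub_eq_add_neg, ch_add hg h3]
    have hA : ∀ c, TA q0 r0 (ch g j) c c = -((ch g j (-2) - 1) * ∑ b, P c b * ch g j b) := by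
      intro c
      rw [TA, Matrix.neg_apply, Matrix.mul_apply]
      refine congrArg Neg.neg ?_
      rw [Finset.mul_sum]
      refine Finset.sum_congr rfl fun b _ => ?_
      rw [V0, Matrix.mul_diagonal, chs b 2, hPd]; ring
    have hB : ∀ c, TB q1 r1 (ch g j) c c = -((1 - ch g j (-1)) * ∑ b, r1 c b * q1 b c * ch g j b) := by
      intro c
      rw [TB, Matrix.neg_apply, Matrix.mul_apply]
      refine congrArg Neg.neg ?_
      rw [Finset.mul_sum]
      refine Finset.sum_congr rfl fun b _ => ?_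
      rw [V1, Matrix.mul_diagonal, chs b 1]; ring
    -- transform
    have t1 : ∑ a, ch g (-l) a * (cr5 s00 (TA q0 r0 (ch g j)) a + cr5 s01 (TB q1 r1 (ch g j)) a - TA q0 r0 (ch g j) a a)
        = ∑ a, ch g (-l) a * (ch g j (a - 2) - ch g j a) := Finset.sum_congr rfl fun a _ => by rw [c1]
    have t2 : ∑ a, ch g (-l) a * (cr5 s00 (TA q0 r0 (ch g j)) a + cr5 s01 (TB q1 r1 (ch g j)) a - TA q0 r0 (ch g j) a a)
        = (∑ m, ch g (-l) m * s00 m - 1) * (∑ c, ch g (-l) c * TA q0 r0 (ch g j) c c)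
          + (∑ m, ch g (-l) m * s01 m) * (∑ c, ch g (-l) c * TB q1 r1 (ch g j) c c) := by
      rw [sub_mul, ← ft_cr5 hg h3, ← ft_cr5 hg h3, one_mul, ← Finset.sum_sub_distrib, ← Finset.sum_add_distrib]
      exact Finset.sum_congr rfl fun a _ => by ring
    have t3 : ∑ a, ch g (-l) a * (ch g j (a - 2) - ch g j a) = if j = l then -(ch g j (-2) - 1) else 0 := by
      have e : ∀ a, ch g (-l) a * (ch g j (a - 2) - ch g j a) = (ch g j (-2) - 1) * ch g (-l + j) a := by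
        intro a; rw [chs a 2, ch_add_left hg h3]; ring
      simp only [e, ← Finset.mul_sum]
      by_cases hjl : j = l
      · subst hjl
        rw [if_pos rfl, neg_add_cancel]
        simp only [ch_zero_left, Finset.sum_const, Finset.card_univ, Fintype.card_fin, nsmul_eq_mul]
        push_cast
        linear_combination (2 * (ch g j (-2) - 1)) * h3
      · rw [if_neg hjl, ch_sum hg h3, mul_zero]
        intro hh
        exact hjl (by rw [neg_add_eq_zero] at hh; exact hh.symm)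
    have uA : ∑ c, ch g (-l) c * TA q0 r0 (ch g j) c c = (ch g j (-2) - 1) * pf g P j l := by
      rw [pf, mul_neg, Finset.mul_sum, ← Finset.sum_neg_distrib]
      refine Finset.sum_congr rfl fun c _ => ?_
      rw [hA, Finset.mul_sum, Finset.mul_sum, mul_neg, Finset.mul_sum]
      refine congrArg Neg.neg ?_
      exact Finset.sum_congr rfl fun b _ => by ring
    have uB : ∑ c, ch g (-l) c * TB q1 r1 (ch g j) c c = (1 - ch g j (-1)) * pf g P j l ^ 3 := by
      have e1 : pf g P j l ^ 3 = - ∑ c, ∑ b, ch g (-l) c * (r1 c b * q1 b c) * ch g j b := by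
        have e2 : pf g P j l ^ 3 = - ∑ c, ∑ b, ch g (-l) (3 * c) * (r1 (3 * c) (3 * b) * q1 (3 * b) (3 * c)) * ch g j (3 * b) := by
          have e3 : ∀ x : F, (-x) ^ 3 = -(x ^ 3) := fun x => by ring
          rw [pf, e3, cube_sum h3]
          refine congrArg Neg.neg ?_
          refine Finset.sum_congr rfl fun c _ => ?_
          rw [cube_sum h3]
          refine Finset.sum_congr rfl fun b _ => ?_
          rw [hP, mul_pow, mul_pow, ch_cube hg h3, ch_cube hg h3]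
        have bij : Function.Bijective (fun c : Fin 5 => 3 * c) := by
          rw [Function.Bijective, Function.Injective, Function.Surjective]; decide
        rw [e2]
        refine congrArg Neg.neg ?_
        rw [← Fintype.sum_bijective _ bij (fun c => ∑ b, ch g (-l) (3 * c) * (r1 (3 * c) (3 * b) * q1 (3 * b) (3 * c)) * ch g j (3 * b))
          (fun c => ∑ b, ch g (-l) c * (r1 c b * q1 b c) * ch g j b) fun c => ?_]
        exact Fintype.sum_bijective _ bij _ _ fun b => rfl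
      rw [e1, mul_neg, Finset.mul_sum, ← Finset.sum_neg_distrib]
      refine Finset.sum_congr rfl fun c _ => ?_
      rw [hB, Finset.mul_sum, Finset.mul_sum, mul_neg, Finset.mul_sum]
      refine congrArg Neg.neg ?_
      exact Finset.sum_congr rfl fun b _ => by ring
    rw [← t3, ← t1, t2, uA, uB, ft_s00 hg h3 l hl, ft_s01 hg h3 l hl]
    ring

theorem PData.pf_zero_zero (hg : g ^ 4 = 1 - g) (h3 : (3 : F) = 0) {P : Fin 5 → Fin 5 → F} (h : PData g P) : pf g P 0 0 = 1 := by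
  have _ := hg
  simp only [pf, neg_zero, ch_zero_left, one_mul, mul_one, h.row, Finset.sum_const, Finset.card_univ, Fintype.card_fin,
    nsmul_eq_mul]
  push_cast
  linear_combination (-2) * h3

theorem PData.pf_zero_left (hg : g ^ 4 = 1 - g) (h3 : (3 : F) = 0) {P : Fin 5 → Fin 5 → F} (h : PData g P) {l : Fin 5}
    (hl : l ≠ 0) : pf g P 0 l = 0 := by
  simp only [pf, ch_zero_left, mul_one, ← Finset.mul_sum, h.row]
  rw [ch_sum hg h3 _ (neg_ne_zero.mpr hl), neg_zero]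

theorem PData.pf_zero_right (hg : g ^ 4 = 1 - g) (h3 : (3 : F) = 0) {P : Fin 5 → Fin 5 → F} (h : PData g P) {j : Fin 5}
    (hj : j ≠ 0) : pf g P j 0 = 0 := by
  rw [pf, Finset.sum_comm]
  simp only [neg_zero, ch_zero_left, one_mul, ← Finset.sum_mul, h.col]
  rw [ch_sum hg h3 _ hj, neg_zero]

theorem PData.pf_symm {P : Fin 5 → Fin 5 → F} (h : PData g P) (j l : Fin 5) : pf g P (-l) (-j) = pf g P j l := by
  rw [pf, pf, Finset.sum_comm]
  refine congrArg Neg.neg ?_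
  refine Finset.sum_congr rfl fun c _ => Finset.sum_congr rfl fun b _ => ?_
  rw [neg_neg, h.sym b c]; ring

theorem eE_symm (j l : Fin 5) : eE (-l) (-j) = eE j l := by
  revert j l; decide

/-- each Fourier coefficient has three possible values -/
theorem PData.three (hg : g ^ 4 = 1 - g) (h3 : (3 : F) = 0) {P : Fin 5 → Fin 5 → F} (h : PData g P) {j l : Fin 5}
    (hj : j ≠ 0) (hl : l ≠ 0) : ∃ n : ZMod 3, pf g P j l = - (if j = l then 1 else 0) + (n.val : F) * g ^ (eE j l) := by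
  have e := h.eq j l hj hl
  have i1 := I1 hg h3 j l hj hl
  have i2 := I2 hg h3 j l hj hl
  have hb : g ^ (bE j l) ≠ 0 := pow_ne_zero _ (g_ne hg)
  set p := pf g P j l
  set η := g ^ (eE j l)
  set δ : F := if j = l then 1 else 0 with hδ
  rw [i1, i2] at e
  have key : g ^ (bE j l) * ((p + δ) * ((p + δ - η) * (p + δ + η))) = 0 := by
    by_cases hjl : j = l
    · subst hjl
      have i3 := I3 hg h3 j hj
      rw [i1, i2] at i3
      rw [if_pos rfl] at e hδ
      rw [hδ]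
      linear_combination e + i3 + (g ^ (bE j j) * (p ^ 2 + p)) * h3
    · rw [if_neg hjl] at e hδ
      rw [hδ]
      linear_combination e
  rcases mul_eq_zero.mp ((mul_eq_zero.mp key).resolve_left hb) with h0 | h1
  · exact ⟨0, by simp; linear_combination h0⟩
  · rcases mul_eq_zero.mp h1 with h1 | h1
    · refine ⟨1, ?_⟩
      have : ((1 : ZMod 3).val : F) = 1 := by norm_num [ZMod.val_one]
      rw [this]; linear_combination h1
    · refine ⟨2, ?_⟩
      have : ((2 : ZMod 3).val : F) = 2 := by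
        have : (2 : ZMod 3).val = 2 := rfl
        rw [this]; norm_num
      rw [this]; linear_combination h1 - η * h3

theorem orth (hg : g ^ 4 = 1 - g) (h3 : (3 : F) = 0) (a b : Fin 5) : ∑ j, ch g j a * ch g (-j) b = if a = b then 5 else 0 := by
  have e : ∀ j, ch g j a * ch g (-j) b = ch g j (a - b) := by
    intro j
    have e1 : ch g j a = ch g j (a - b) * ch g j b := by rw [← ch_add hg h3, sub_add_cancel]
    rw [e1]
    linear_combination (ch g j (a - b)) * ch_neg_mul hg h3 j b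
  simp only [e]
  by_cases hab : a = b
  · subst hab
    simp [ch_zero]
  · rw [if_neg hab]
    calc ∑ l, ch g l (a - b) = ∑ l, ch g (a - b) l := Finset.sum_congr rfl fun l _ => ch_comm g _ _
      _ = 0 := ch_sum hg h3 _ (sub_ne_zero.mpr hab)

theorem val_inj (h3 : (3 : F) = 0) {n m : ZMod 3} (h : (n.val : F) = (m.val : F)) : n = m := by
  have h1 : (1 : F) ≠ 0 := one_ne_zero
  have h2 : (2 : F) ≠ 0 := by
    intro h2; apply h1; linear_combination h3 - h2
  have v0 : (0 : ZMod 3).val = 0 := rfl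
  have v1 : (1 : ZMod 3).val = 1 := rfl
  have v2 : (2 : ZMod 3).val = 2 := rfl
  have cs : ∀ n : ZMod 3, n = 0 ∨ n = 1 ∨ n = 2 := by decide
  rcases cs n with rfl | rfl | rfl <;> rcases cs m with rfl | rfl | rfl <;>
    simp only [v0, v1, v2, Nat.cast_zero, Nat.cast_one, Nat.cast_ofNat] at h ⊢
  · exact absurd h.symm h1
  · exact absurd h.symm h2
  · exact absurd h h1
  · exact absurd (by linear_combination -h) h1
  · exact absurd h h2
  · exact absurd (by linear_combination h) h1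

/-- **the parametrisation of `P` by ten ternary parameters** -/
theorem PData.param (hg : g ^ 4 = 1 - g) (h3 : (3 : F) = 0) {P : Fin 5 → Fin 5 → F} (h : PData g P) :
    ∃ n : Fin 5 → Fin 5 → ZMod 3, (∀ l, n 0 l = 0) ∧ (∀ j, n j 0 = 0) ∧ (∀ j l, n (-l) (-j) = n j l) ∧
      ∀ a b, P a b = (if a = b then 0 else 1)
        - ∑ j, ∑ l, ((n j l).val : F) * g ^ (eE j l) * ch g l a * ch g (-j) b := by
  classical
  have ex : ∀ j l : Fin 5, ∃ n : ZMod 3, (j = 0 ∨ l = 0 → n = 0) ∧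
      pf g P j l = (if j = l then -1 else 0) + (if j = 0 ∧ l = 0 then 2 else 0) + (n.val : F) * g ^ (eE j l) := by
    intro j l
    by_cases hj : j = 0
    · subst hj
      by_cases hl : l = 0
      · subst hl
        exact ⟨0, fun _ => rfl, by rw [h.pf_zero_zero hg h3]; simp; norm_num⟩
      · exact ⟨0, fun _ => rfl, by rw [h.pf_zero_left hg h3 hl]; simp [hl, Ne.symm hl]⟩
    · by_cases hl : l = 0
      · subst hl
        exact ⟨0, fun _ => rfl, by rw [h.pf_zero_right hg h3 hj]; simp [hj]⟩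
      · obtain ⟨n, hn⟩ := h.three hg h3 hj hl
        refine ⟨n, fun hh => absurd hh (by simp [hj, hl]), ?_⟩
        rw [hn]
        by_cases hjl : j = l <;> simp only [hjl, hl, ↓ _root_.reduceIte, _root_.ZMod.natCast_val, _root_.Fin.isValue, _root_.and_self, _root_.add_zero, _root_.neg_zero, _root_.zero_add, _root_.and_false]
  choose n hn0 hn using ex
  refine ⟨n, fun l => hn0 0 l (Or.inl rfl), fun j => hn0 j 0 (Or.inr rfl), fun j l => ?_, fun a b => ?_⟩
  · have e1 := hn (-l) (-j)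
    have e2 := hn j l
    rw [h.pf_symm, eE_symm, e2] at e1
    have c1 : (if -l = -j then (-1 : F) else 0) = if j = l then -1 else 0 := by
      by_cases hh : j = l
      · subst hh; simp
      · rw [if_neg hh, if_neg]; intro h4; exact hh (neg_injective h4).symm
    have c2 : (if -l = 0 ∧ -j = 0 then (2 : F) else 0) = if j = 0 ∧ l = 0 then 2 else 0 := by
      simp only [neg_eq_zero, and_comm]
    rw [c1, c2] at e1
    have e3 : ((n j l).val : F) * g ^ (eE j l) = ((n (-l) (-j)).val : F) * g ^ (eE j l) := add_left_cancel e1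
    exact (val_inj h3 (mul_right_cancel₀ (pow_ne_zero _ (g_ne hg)) e3)).symm
  · rw [inversion hg h3 P a b]
    have e : ∀ j l, pf g P j l * ch g l a * ch g (-j) b = (if j = l then -(ch g l a * ch g (-j) b) else 0)
        + (if j = 0 ∧ l = 0 then 2 else 0) + ((n j l).val : F) * g ^ (eE j l) * ch g l a * ch g (-j) b := by
      intro j l
      rw [hn j l]
      have z : (if j = 0 ∧ l = 0 then (2 : F) else 0) * ch g l a * ch g (-j) b = if j = 0 ∧ l = 0 then 2 else 0 := by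
        by_cases hh : j = 0 ∧ l = 0
        · obtain ⟨rfl, rfl⟩ := hh
          simp [ch_zero_left]
        · simp [hh]
      rw [add_mul, add_mul, add_mul, add_mul, z]
      by_cases hjl : j = l <;> simp only [hjl, ↓ _root_.reduceIte, _root_.neg_mul, _root_.one_mul, _root_.Fin.isValue, _root_.and_self, _root_.ZMod.natCast_val, _root_.MulZeroClass.zero_mul, _root_.zero_add]
    simp only [e, Finset.sum_add_distrib, Finset.sum_ite_eq, Finset.mem_univ, if_true]
    have e5 : ∑ j : Fin 5, ∑ l : Fin 5, (if j = 0 ∧ l = 0 then (2 : F) else 0) = 2 := by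
      rw [Finset.sum_eq_single 0, Finset.sum_eq_single 0]
      · simp
      · intro l _ hl; simp [hl]
      · simp only [_root_.Fin.isValue, _root_.Finset.mem_univ, _root_.not_true_eq_false, _root_.and_self, ↓ _root_.reduceIte, _root_.IsEmpty.forall_iff]
      · intro j _ hj; simp [hj]
      · simp only [_root_.Fin.isValue, _root_.Finset.mem_univ, _root_.not_true_eq_false, _root_.true_and, _root_.Finset.sum_ite_eq', ↓ _root_.reduceIte, _root_.IsEmpty.forall_iff]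
    rw [e5, Finset.sum_neg_distrib, orth hg h3]
    by_cases hab : a = b
    · simp only [hab, if_true]; linear_combination h3
    · simp only [hab, if_false]; linear_combination -h3

end
end Cfsg.Agent.H879.E83
end

-- part: H879/E83/PNine
section
/-!
# S5925, box G3: the input of the kernel search

`Mh q` = the hermitian inverse, `Q2 q` = the matrix on `W₁` (conventions of helper136 / helper138).
-/

set_option autoImplicit false
set_option linter.style.longLine false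

namespace Cfsg.Agent.H879.E83
open Matrix

section
variable {F : Type*} [Field F]

def sgm (a : Fin 5) : Fin 5 := 2 - a
def Jv : Fin 5 → F := ![1, 1, 1, -1, -1]
def Sv : Fin 5 → F := ![1, -1, 1, -1, -1]

/-- `Mh q a b = J a J b (q (σ a) (σ b)) ^ 9` -/
def Mh (q : Mt F) : Mt F := fun a b => Jv a * Jv b * q (sgm a) (sgm b) ^ 9

/-- `Q2 q (3 a) (3 b) = S a S b (q a b) ^ 3` (`2 * 3 = 1` in `Fin 5`) -/
def Q2 (q : Mt F) : Mt F := fun a b => Sv (2 * a) * Sv (2 * b) * q (2 * a) (2 * b) ^ 3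

theorem Sv_sq (a : Fin 5) : Sv a * Sv a = (1 : F) := by
  fin_cases a <;> simp [Sv]

theorem Q2_three (q : Mt F) (a b : Fin 5) : Q2 q (3 * a) (3 * b) = Sv a * Sv b * q a b ^ 3 := by
  have e : ∀ a : Fin 5, 2 * (3 * a) = a := by decide
  rw [Q2, e, e]

/-- input of the search -/
structure PNine (g : F) (q : Mt F) : Prop where
  sym : qᵀ = q
  pow81 : ∀ a b, q a b ^ 81 = q a b
  herm : Mh q * q = 1
  trits : ∃ n : Fin 5 → Fin 5 → ZMod 3, (∀ l, n 0 l = 0) ∧ (∀ j, n j 0 = 0) ∧ (∀ j l, n (-l) (-j) = n j l) ∧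
      ∀ a b, Mh q a b * q a b = (if a = b then 0 else 1)
        - ∑ j, ∑ l, ((n j l).val : F) * g ^ (eE j l) * ch g l a * ch g (-j) b
  c3 : ∀ D : Fin 5 → F, (XP0 g (-(Mh q * V0 D * q)) (-(Q2 (Mh q) * V1 D * Q2 q)) - V0 D)ᵀ * q
      = q * (XP0 g (-(Mh q * V0 D * q)) (-(Q2 (Mh q) * V1 D * Q2 q)) - V0 D)

variable {g : F} {L : Type*} [AddCommGroup L] [Module F L] {X Y T : Module.End F L}
  {ι : Mt F × Mt F →ₗ[F] L} {q : Mt F}

theorem GFrame.pnine (h : GFrame g X Y T ι q (Mh q) (Q2 q) (Q2 (Mh q))) (hs : qᵀ = q) (h81 : ∀ a b, q a b ^ 81 = q a b) :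
    PNine g q where
  sym := hs
  pow81 := h81
  herm := h.rq0
  trits := by
    have hd := h.pdata hs fun a b => by
      rw [Q2_three, Q2_three]
      have e1 : Sv a * Sv a = (1 : F) := Sv_sq a
      have e2 : Sv b * Sv b = (1 : F) := Sv_sq b
      linear_combination (Mh q a b ^ 3 * q b a ^ 3) * (Sv a * Sv a * e2 + e1)
    obtain ⟨n, h1, h2, h4, h5⟩ := hd.param h.hg h.h3
    refine ⟨n, h1, h2, h4, fun a b => ?_⟩
    rw [← h5 a b]
    have e2 : q b a = q a b := by conv_lhs => rw [← hs, Matrix.transpose_apply]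
    simp only [e2]
  c3 D := (h.C3m D).1

end
end Cfsg.Agent.H879.E83
end

private theorem dce_2e5230fb18f9 : _root_.True := by
  try have : _root_.True := by simp only [_root_.Cfsg.Agent.H879.E83.pf.eq_1]
  try have : _root_.True := by simp only [_root_.Cfsg.Agent.H879.E83.Q2.eq_1]
  try have : _root_.True := by simp only [_root_.Cfsg.Agent.H879.E83.Sv.eq_1]
  exact _root_.True.intro
end

-- part: H947/P9/Stmt
section
set_option linter.all false

/-!
# S5925, box H: the statement of the kernel search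

`Search F g` : every input `PNine g q` of the search is `c κ(l) q⁎ κ(l)` with `q⁎ a b = g ^ (Q0E a b)`.
-/

set_option autoImplicit false

namespace Cfsg.Agent.H947.P9

open Cfsg.Agent.H879.E83

/-- The exponents of the model. -/
def Q0E : Fin 5 → Fin 5 → ℕ :=
  ![![63, 0, 4, 35, 72], ![0, 1, 10, 44, 4], ![4, 10, 3, 42, 5], ![35, 44, 42, 65, 33], ![72, 4, 5, 33, 65]]

/-- The exponents of `κ`. -/
def KE : Fin 5 → ℕ := ![1, 0, 71, 44, 4]

/-- The conclusion of the search. -/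
def Concl {F : Type*} [Field F] (g : F) (q : Mt F) : Prop :=
  ∃ l c : F, l ^ 80 = 1 ∧ c ^ 10 = 1 ∧ ∀ a b, q a b = c * (l ^ KE a * l ^ KE b * g ^ Q0E a b)

/-- **The statement of box H.** -/
def Search.{u} (F : Type u) [Field F] [CharP F 3] (g : F) : Prop :=
  g ^ 4 = 1 - g → ∀ q : Mt F, PNine g q → Concl g q

end Cfsg.Agent.H947.P9
end

-- part: H728/PM/Def
section
set_option linter.all false

/-!
# The plan machine, definitions

A `Plan` is a search tree over two lists of registers: scalar registers `k i` (one value per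
run) and lane registers `v i` (many candidates at once).  `Plan.WP g p ks ls G` is what a user
of the machine proves about the actual values `ks`, `ls`; `run` and its soundness (file
`H728/PM/Run.lean`) give `G` from it.
-/

set_option autoImplicit false

namespace Cfsg.Agent.H728.PM

/-- Expressions in the scalar registers `k i` and in the lane registers `v i`; `pw n` is `g ^ n`,
`fr x` is `x ^ 3`. -/
inductive Ex : Type
  | k (i : ℕ) : Ex
  | v (i : ℕ) : Ex
  | pw (n : ℕ) : Ex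
  | zero : Ex
  | add (a b : Ex) : Ex
  | sub (a b : Ex) : Ex
  | neg (a : Ex) : Ex
  | mul (a b : Ex) : Ex
  | fr (a : Ex) : Ex

/-- The value of an expression. -/
def Ex.eval {F : Type*} [Field F] (g : F) (ks ls : List F) : Ex → F
  | .k i => ks.getD i 0
  | .v i => ls.getD i 0
  | .pw n => g ^ n
  | .zero => 0
  | .add a b => a.eval g ks ls + b.eval g ks ls
  | .sub a b => a.eval g ks ls - b.eval g ks ls
  | .neg a => -a.eval g ks ls
  | .mul a b => a.eval g ks ls * b.eval g ks ls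
  | .fr a => a.eval g ks ls ^ 3

/-- Search plans. -/
inductive Plan : Type
  | kf (e : Ex) (p : Plan) : Plan
  | kfl (cs : List Ex) (p : Plan) : Plan
  | ksp (e : Ex) (p q : Plan) : Plan
  | alt (es : List Ex) (p : Plan) : Plan
  | or (p q : Plan) : Plan
  | ex (p : Plan) : Plan
  | exn (p : Plan) : Plan
  | df (e : Ex) (p : Plan) : Plan
  | fl (cs : List Ex) (js : List ℕ) (p : Plan) : Plan
  | sel (js : List ℕ) (p : Plan) : Plan
  | leaf (ds : List Ex) : Plan

/-- What the user proves for the actual values of the registers. -/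
def Plan.WP {F : Type*} [Field F] (g : F) : Plan → List F → List F → Prop → Prop
  | .kf e p, ks, ls, G => p.WP g (ks ++ [e.eval g ks []]) ls G
  | .kfl cs p, ks, ls, G => (∀ c ∈ cs, c.eval g ks [] = 0) ∧ p.WP g ks ls G
  | .ksp e p q, ks, ls, G =>
    (e.eval g ks [] = 0 → p.WP g ks ls G) ∧ (e.eval g ks [] ≠ 0 → q.WP g ks ls G)
  | .alt es p, ks, ls, G => ∃ e ∈ es, p.WP g (ks ++ [e.eval g ks []]) ls G
  | .or p q, ks, ls, G => p.WP g ks ls G ∨ q.WP g ks ls G
  | .ex p, ks, ls, G => ∃ y : F, y ^ 81 = y ∧ p.WP g ks (ls ++ [y, y ^ 79]) G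
  | .exn p, ks, ls, G => ∃ y : F, y ^ 80 = 1 ∧ p.WP g ks (ls ++ [y, y ^ 79]) G
  | .df e p, ks, ls, G => p.WP g ks (ls ++ [e.eval g ks ls]) G
  | .fl cs js p, ks, ls, G => (∀ c ∈ cs, c.eval g ks ls = 0) ∧ p.WP g ks (js.map fun j => ls.getD j 0) G
  | .sel js p, ks, ls, G => p.WP g ks (js.map fun j => ls.getD j 0) G
  | .leaf ds, ks, ls, G => (∀ d ∈ ds, d.eval g ks ls = 0) → G

section
variable {F : Type*} [Field F] (g : F) (ks ls : List F) (G : Prop)

end

end Cfsg.Agent.H728.PM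
end

-- part: H136/P9/PlanData
section
prune_inst 0x352041006522020808182596330020646400019200634001f9e00f440b4ff363a9472f017af03f1091febef0784ac040001001d9027800002e00be004003012084af7ae6b77cbf043f001fc0f887180c00000000000000000000000000041004000000000
set_option linter.all false

/-!
# S5925, box H: helper947's plan (v3, final) as a term of helper728's plan language
(generated from tools/plans/S5925_code/h947/plan.txt by helper136)
-/

set_option autoImplicit false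
set_option linter.style.longLine false

namespace Cfsg.Agent.H136.P9
open Cfsg.Agent.H728.PM

def plD3 : Plan :=
  (.df (.add (.mul (.fr (.fr (.v 1))) (.v 2)) (.mul (.fr (.fr (.v 4))) (.v 7))) (.df (.add (.mul (.pw 50) (.add (.mul (.k 20) (.v 2)) (.mul (.fr (.fr (.v 5))) (.v 7)))) (.mul (.pw 24) (.fr (.add (.mul (.fr (.fr (.v 9))) (.v 6)) (.mul (.fr (.fr (.v 5))) (.k 15)))))) (.df (.add (.sub (.add (.add (.add (.mul (.pw 26) (.add (.mul (.fr (.fr (.v 1))) (.v 1)) (.mul (.fr (.fr (.v 4))) (.v 6)))) (.mul (.pw 63) (.add (.mul (.k 20) (.k 16)) (.mul (.fr (.fr (.v 5))) (.v 8))))) (.mul (.pw 7) (.neg (.add (.mul (.fr (.fr (.v 6))) (.v 4)) (.mul (.fr (.fr (.v 10))) (.v 10)))))) (.mul (.pw 74) (.neg (.add (.mul (.fr (.fr (.v 3))) (.v 7)) (.mul (.fr (.fr (.v 9))) (.v 11)))))) (.add (.add (.add (.mul (.pw 69) (.fr (.neg (.add (.mul (.fr (.fr (.v 4))) (.v 6)) (.mul (.k 21) (.k 15)))))) (.mul (.pw 63) (.fr (.neg (.add (.mul (.fr (.fr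 (.v 3))) (.v 7)) (.mul (.k 20) (.k 16))))))) (.mul (.pw 7) (.fr (.add (.mul (.fr (.fr (.v 9))) (.v 11)) (.mul (.fr (.fr (.v 5))) (.v 8)))))) (.mul (.pw 61) (.fr (.neg (.add (.mul (.fr (.fr (.v 5))) (.v 8)) (.mul (.k 19) (.k 14)))))))) (.pw 0)) (.df (.add (.mul (.pw 70) (.neg (.add (.mul (.fr (.fr (.v 6))) (.v 2)) (.mul (.fr (.fr (.v 10))) (.v 7))))) (.mul (.pw 32) (.fr (.neg (.add (.mul (.fr (.fr (.v 3))) (.v 8)) (.mul (.k 20) (.k 14))))))) (.df (.sub (.add (.add (.add (.mul (.pw 7) (.add (.mul (.k 20) (.k 16)) (.mul (.fr (.fr (.v 5))) (.v 8)))) (.mul (.pw 74) (.add (.mul (.fr (.fr (.v 0))) (.v 2)) (.mul (.fr (.fr (.v 3))) (.v 7))))) (.mul (.pw 26) (.neg (.add (.mul (.fr (.fr (.v 6))) (.v 4)) (.mul (.fr (.fr (.v 10))) (.v 10)))))) (.mul (.pw 63) (.neg (.add (.mul (.fr (.fr (.v 3))) (.v 7)) (.mul (.fr (.fr (.v 9))) (.v 11)))))) (.add (.add (.add (.mul (.pw 7) (.fr (.neg (.add (.mul (.fr (.fr (.v 4))) (.v 6)) (.mul (.k 21)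 (.k 15)))))) (.mul (.pw 61) (.fr (.neg (.add (.mul (.fr (.fr (.v 3))) (.v 7)) (.mul (.k 20) (.k 16))))))) (.mul (.pw 69) (.fr (.neg (.add (.mul (.fr (.fr (.v 5))) (.v 8)) (.mul (.k 19) (.k 14))))))) (.mul (.pw 63) (.fr (.add (.mul (.fr (.fr (.v 10))) (.v 10)) (.mul (.fr (.fr (.v 8))) (.v 5))))))) (.df (.add (.mul (.pw 70) (.add (.mul (.k 20) (.v 1)) (.mul (.fr (.fr (.v 5))) (.v 6)))) (.mul (.pw 64) (.fr (.add (.mul (.fr (.fr (.v 10))) (.v 7)) (.mul (.fr (.fr (.v 8))) (.k 16)))))) (.df (.neg (.add (.mul (.fr (.fr (.v 6))) (.v 1)) (.mul (.fr (.fr (.v 10))) (.v 6)))) (.df (.add (.mul (.pw 50) (.neg (.add (.mul (.fr (.fr (.v 3))) (.v 1)) (.mul (.fr (.fr (.v 9))) (.v 6))))) (.mul (.pw 72) (.fr (.neg (.add (.mul (.fr (.fr (.v 4))) (.v 8)) (.mul (.k 21) (.k 14))))))) (.fl [(.sub (.add (.add (.add (.mul (.v 0) (.v 12)) (.mul (.k 15) (.v 13))) (.mul (.v 1) (.v 14))) (.mul (.v 3) (.v 15))) (.add (.add (.add (.mul (.v 1) (.v 16)) (.mul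 (.k 16) (.v 17))) (.mul (.v 4) (.v 18))) (.mul (.v 7) (.v 19))))] [0, 1, 2, 3, 4, 5, 6, 7, 8, 9, 10, 11]
  (.leaf [(.sub (.v 0) (.pw 63)), (.sub (.k 15) (.pw 0)), (.sub (.v 1) (.pw 4)), (.sub (.v 3) (.pw 35)), (.sub (.v 6) (.pw 72)), (.sub (.k 14) (.pw 1)), (.sub (.k 16) (.pw 10)), (.sub (.v 5) (.pw 44)), (.sub (.v 8) (.pw 4)), (.sub (.v 2) (.pw 3)), (.sub (.v 4) (.pw 42)), (.sub (.v 7) (.pw 5)), (.sub (.v 9) (.pw 65)), (.sub (.v 10) (.pw 33)), (.sub (.v 11) (.pw 65))]))))))))))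

def plD2 : Plan :=
  (.ksp (.k 17)
  (.fl [(.sub (.add (.add (.mul (.k 21) (.v 6)) (.mul (.k 19) (.v 8))) (.mul (.k 20) (.v 7))) (.mul (.fr (.fr (.v 8))) (.v 10)))] [0, 1, 2, 3, 4, 5, 6, 7, 8, 9, 10]
    (.df (.sub (.add (.add (.mul (.fr (.fr (.v 1))) (.v 6)) (.mul (.k 20) (.v 8))) (.mul (.fr (.fr (.v 0))) (.v 7))) (.mul (.fr (.fr (.v 6))) (.v 10))) (.df (.sub (.add (.add (.mul (.fr (.fr (.v 2))) (.v 6)) (.mul (.k 21) (.v 8))) (.mul (.fr (.fr (.v 1))) (.v 7))) (.mul (.fr (.fr (.v 7))) (.v 10))) (.ex (.fl [(.sub (.v 11) (.mul (.fr (.fr (.v 3))) (.v 13))), (.sub (.v 12) (.mul (.fr (.fr (.v 4))) (.v 13)))] [0, 1, 2, 3, 4, 5, 6, 7, 8, 9, 10, 13]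
    (.fl [(.sub (.mul (.v 9) (.fr (.fr (.v 11)))) (.k 53)), (.sub (.add (.add (.mul (.fr (.fr (.v 1))) (.v 6)) (.mul (.k 20) (.v 8))) (.mul (.fr (.fr (.v 0))) (.v 7))) (.add (.mul (.fr (.fr (.v 6))) (.v 10)) (.mul (.fr (.fr (.v 3))) (.v 11)))), (.sub (.add (.add (.mul (.fr (.fr (.v 2))) (.v 6)) (.mul (.k 21) (.v 8))) (.mul (.fr (.fr (.v 1))) (.v 7))) (.add (.mul (.fr (.fr (.v 7))) (.v 10)) (.mul (.fr (.fr (.v 4))) (.v 11)))), (.sub (.add (.mul (.fr (.fr (.v 10))) (.v 9)) (.mul (.fr (.fr (.v 9))) (.v 10))) (.add (.add (.mul (.fr (.fr (.v 4))) (.v 3)) (.mul (.fr (.fr (.v 5))) (.v 5))) (.mul (.fr (.fr (.v 3))) (.v 4)))), (.sub (.add (.mul (.fr (.fr (.v 11))) (.v 10)) (.mul (.fr (.fr (.v 10))) (.v 11))) (.add (.add (.mul (.fr (.fr (.v 7))) (.v 6)) (.mul (.fr (.fr (.v 8))) (.v 8))) (.mul (.fr (.fr (.v 6))) (.v 7)))), (.sub (.sub (.add (.mul (.fr (.fr (.v 11))) (.v 9)) (.mul (.fr (.fr (.v 10))) (.v 10))) (.add (.add (.mul (.fr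 (.fr (.v 7))) (.v 3)) (.mul (.fr (.fr (.v 8))) (.v 5))) (.mul (.fr (.fr (.v 6))) (.v 4)))) (.pw 0))] [0, 1, 2, 3, 4, 5, 6, 7, 8, 9, 10, 11]
    plD3))))))
  (.df (.mul (.sub (.add (.add (.mul (.k 21) (.v 6)) (.mul (.k 19) (.v 8))) (.mul (.k 20) (.v 7))) (.mul (.fr (.fr (.v 8))) (.v 10))) (.mul (.fr (.fr (.v 5))) (.mul (.mul (.mul (.fr (.fr (.fr (.v 5)))) (.fr (.fr (.fr (.fr (.v 5)))))) (.fr (.fr (.fr (.fr (.fr (.v 5))))))) (.mul (.mul (.fr (.fr (.fr (.v 5)))) (.fr (.fr (.fr (.fr (.v 5)))))) (.fr (.fr (.fr (.fr (.fr (.v 5)))))))))) (.fl [(.sub (.mul (.v 9) (.fr (.fr (.v 11)))) (.k 53)), (.sub (.add (.add (.mul (.fr (.fr (.v 1))) (.v 6)) (.mul (.k 20) (.v 8))) (.mul (.fr (.fr (.v 0))) (.v 7))) (.add (.mul (.fr (.fr (.v 6))) (.v 10)) (.mul (.fr (.fr (.v 3))) (.v 11)))), (.sub (.add (.add (.mul (.fr (.fr (.v 2))) (.v 6)) (.mul (.k 21) (.v 8))) (.mul (.fr (.fr (.v 1))) (.v 7))) (.add (.mul (.fr (.fr (.v 7))) (.v 10)) (.mul (.fr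 (.fr (.v 4))) (.v 11)))), (.sub (.add (.mul (.fr (.fr (.v 10))) (.v 9)) (.mul (.fr (.fr (.v 9))) (.v 10))) (.add (.add (.mul (.fr (.fr (.v 4))) (.v 3)) (.mul (.fr (.fr (.v 5))) (.v 5))) (.mul (.fr (.fr (.v 3))) (.v 4)))), (.sub (.add (.mul (.fr (.fr (.v 11))) (.v 10)) (.mul (.fr (.fr (.v 10))) (.v 11))) (.add (.add (.mul (.fr (.fr (.v 7))) (.v 6)) (.mul (.fr (.fr (.v 8))) (.v 8))) (.mul (.fr (.fr (.v 6))) (.v 7)))), (.sub (.sub (.add (.mul (.fr (.fr (.v 11))) (.v 9)) (.mul (.fr (.fr (.v 10))) (.v 10))) (.add (.add (.mul (.fr (.fr (.v 7))) (.v 3)) (.mul (.fr (.fr (.v 8))) (.v 5))) (.mul (.fr (.fr (.v 6))) (.v 4)))) (.pw 0))] [0, 1, 2, 3, 4, 5, 6, 7, 8, 9, 10, 11]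
    plD3)))

def plD1 : Plan :=
  (.alt [.zero, (.pw 0), (.neg (.pw 0))]
  (.kf (.add (.add (.add (.add (.pw 0) (.mul (.pw 20) (.add (.add (.add (.add (.k 1) (.k 2)) (.k 3)) (.k 5)) (.k 6)))) (.k 4)) (.neg (.k 33))) (.mul (.pw 60) (.k 51))) (.kf (.add (.add (.add (.add (.add (.add (.add (.k 0) (.mul (.pw 43) (.k 1))) (.mul (.pw 46) (.k 2))) (.mul (.pw 55) (.k 3))) (.mul (.pw 42) (.k 5))) (.mul (.pw 3) (.k 6))) (.k 33)) (.mul (.pw 20) (.k 51))) (.ex (.fl [(.sub (.mul (.v 9) (.fr (.fr (.v 9)))) (.k 52))] [0, 1, 2, 3, 4, 5, 6, 7, 8, 9]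
  (.ksp (.k 18)
  (.fl [(.sub (.add (.add (.mul (.k 21) (.v 3)) (.mul (.k 19) (.v 5))) (.mul (.k 20) (.v 4))) (.mul (.fr (.fr (.v 5))) (.v 9)))] [0, 1, 2, 3, 4, 5, 6, 7, 8, 9]
    (.df (.sub (.add (.add (.mul (.fr (.fr (.v 1))) (.v 3)) (.mul (.k 20) (.v 5))) (.mul (.fr (.fr (.v 0))) (.v 4))) (.mul (.fr (.fr (.v 3))) (.v 9))) (.df (.sub (.add (.add (.mul (.fr (.fr (.v 2))) (.v 3)) (.mul (.k 21) (.v 5))) (.mul (.fr (.fr (.v 1))) (.v 4))) (.mul (.fr (.fr (.v 4))) (.v 9))) (.ex (.fl [(.sub (.v 10) (.mul (.fr (.fr (.v 6))) (.v 12))), (.sub (.v 11) (.mul (.fr (.fr (.v 7))) (.v 12)))] [0, 1, 2, 3, 4, 5, 6, 7, 8, 12, 9]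
    plD2)))))
  (.df (.mul (.sub (.add (.add (.mul (.k 21) (.v 3)) (.mul (.k 19) (.v 5))) (.mul (.k 20) (.v 4))) (.mul (.fr (.fr (.v 5))) (.v 9))) (.mul (.fr (.fr (.v 8))) (.mul (.mul (.mul (.fr (.fr (.fr (.v 8)))) (.fr (.fr (.fr (.fr (.v 8)))))) (.fr (.fr (.fr (.fr (.fr (.v 8))))))) (.mul (.mul (.fr (.fr (.fr (.v 8)))) (.fr (.fr (.fr (.fr (.v 8)))))) (.fr (.fr (.fr (.fr (.fr (.v 8)))))))))) (.fl [(.sub (.sub (.add (.add (.mul (.fr (.fr (.v 1))) (.v 3)) (.mul (.k 20) (.v 5))) (.mul (.fr (.fr (.v 0))) (.v 4))) (.mul (.fr (.fr (.v 3))) (.v 9))) (.mul (.fr (.fr (.v 6))) (.v 10))), (.sub (.sub (.add (.add (.mul (.fr (.fr (.v 2))) (.v 3)) (.mul (.k 21) (.v 5))) (.mul (.fr (.fr (.v 1))) (.v 4))) (.mul (.fr (.fr (.v 4))) (.v 9))) (.mul (.fr (.fr (.v 7))) (.v 10)))] [0, 1, 2, 3, 4, 5, 6, 7, 8, 10, 9]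
    plD2))))))))

def plS3 : Plan :=
  (.kf (.sub (.k 31) (.k 30)) (.kf (.sub (.k 7) (.fr (.fr (.k 7)))) (.kf (.sub (.k 30) (.fr (.fr (.k 31)))) (.kf (.sub (.fr (.fr (.k 35))) (.k 34)) (.kf (.sub (.fr (.fr (.k 34))) (.k 35)) (.kf (.add (.sub (.add (.add (.add (.mul (.pw 7) (.k 41)) (.mul (.pw 74) (.k 42))) (.mul (.pw 26) (.k 43))) (.mul (.pw 63) (.k 44))) (.add (.add (.add (.mul (.pw 7) (.fr (.k 40))) (.mul (.pw 61) (.fr (.k 42)))) (.mul (.pw 69) (.fr (.k 41)))) (.mul (.pw 63) (.fr (.k 43))))) (.pw 0)) (.kf (.sub (.add (.add (.add (.mul (.pw 63) (.k 40)) (.mul (.pw 7) (.k 42))) (.mul (.pw 74) (.k 43))) (.mul (.pw 26) (.k 44))) (.add (.add (.add (.mul (.pw 63) (.fr (.k 40))) (.mul (.pw 7) (.fr (.k 42)))) (.mul (.pw 61) (.fr (.k 44)))) (.mul (.pw 69) (.fr (.k 43))))) (.kf (.sub (.sub (.add (.add (.add (.mul (.pw 26) (.k 40)) (.mul (.pw 63) (.k 41))) (.mul (.pw 7) (.k 43))) (.mul (.pw 74) (.k 44))) (.add (.add (.add (.mul (.pw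 69) (.fr (.k 40))) (.mul (.pw 63) (.fr (.k 42)))) (.mul (.pw 7) (.fr (.k 44)))) (.mul (.pw 61) (.fr (.k 41))))) (.pw 0)) (.kf (.sub (.k 47) (.k 45)) (.kf (.sub (.k 46) (.k 45)) (.kf (.sub (.k 47) (.k 46)) (.df (.mul (.fr (.fr (.v 2))) (.v 1)) (.df (.sub (.v 9) (.fr (.fr (.v 9)))) (.df (.sub (.mul (.v 1) (.k 21)) (.mul (.v 2) (.k 20))) (.df (.sub (.mul (.fr (.fr (.v 4))) (.v 0)) (.mul (.fr (.fr (.v 3))) (.v 1))) (.df (.sub (.mul (.fr (.fr (.v 7))) (.v 1)) (.mul (.fr (.fr (.v 6))) (.v 2))) (.df (.sub (.mul (.fr (.fr (.v 1))) (.k 15)) (.mul (.fr (.fr (.v 0))) (.k 16))) (.df (.sub (.mul (.fr (.fr (.v 7))) (.v 0)) (.mul (.fr (.fr (.v 6))) (.v 1))) (.df (.sub (.mul (.fr (.fr (.v 4))) (.k 15)) (.mul (.fr (.fr (.v 3))) (.k 16))) (.df (.sub (.mul (.pw 50) (.v 11)) (.mul (.pw 24) (.fr (.v 12)))) (.df (.sub (.mul (.pw 32) (.fr (.v 14))) (.mul (.pw 70) (.v 13))) (.df (.neg (.add (.mul (.pw 70) (.fr (.fr (.v 14)))) (.mul (.pw 64) (.fr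 (.v 13))))) (.df (.neg (.add (.mul (.pw 50) (.v 12)) (.mul (.pw 72) (.fr (.fr (.fr (.v 11))))))) (.df (.neg (.add (.mul (.pw 50) (.fr (.fr (.v 11)))) (.mul (.pw 16) (.fr (.fr (.fr (.v 12))))))) (.df (.sub (.mul (.pw 70) (.v 14)) (.mul (.pw 56) (.fr (.fr (.fr (.v 13)))))) (.fl [(.sub (.add (.add (.add (.add (.mul (.v 0) (.v 10)) (.mul (.k 15) (.v 17))) (.mul (.v 1) (.k 48))) (.mul (.v 3) (.v 18))) (.mul (.v 4) (.v 15))) (.add (.mul (.k 16) (.v 19)) (.mul (.v 7) (.v 20)))), (.sub (.add (.add (.add (.mul (.v 0) (.v 21)) (.mul (.k 15) (.k 49))) (.mul (.v 1) (.v 22))) (.mul (.v 5) (.v 15))) (.add (.add (.mul (.v 6) (.v 16)) (.mul (.k 14) (.v 19))) (.mul (.v 8) (.v 20)))), (.sub (.add (.add (.add (.add (.mul (.k 15) (.v 10)) (.mul (.k 14) (.v 17))) (.mul (.k 16) (.k 50))) (.mul (.v 5) (.v 18))) (.mul (.v 7) (.v 16))) (.add (.mul (.v 1) (.v 21)) (.mul (.v 2) (.v 22))))] [0, 1, 2, 3, 4, 5, 6, 7, 8]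
  plD1))))))))))))))))))))))))))

def plS2 : Plan :=
  (.exn (.df (.mul (.v 8) (.v 3)) (.df (.mul (.v 8) (.v 6)) (.df (.mul (.v 8) (.k 17)) (.df (.mul (.fr (.fr (.v 7))) (.v 5)) (.df (.mul (.fr (.fr (.v 7))) (.v 4)) (.df (.mul (.fr (.fr (.v 7))) (.k 18)) (.sel [0, 1, 2, 9, 10, 11, 12, 13, 14]
  plS3))))))))

def plS2i : Plan :=
  (.alt [(.pw 0), (.pw 79), (.pw 78), (.pw 77)]
  (.kf (.mul (.k 38) (.mul (.mul (.mul (.fr (.k 38)) (.fr (.fr (.k 38)))) (.fr (.fr (.fr (.k 38))))) (.mul (.mul (.fr (.k 38)) (.fr (.fr (.k 38)))) (.fr (.fr (.fr (.k 38))))))) (.df (.mul (.k 39) (.v 3)) (.df (.mul (.k 39) (.v 6)) (.df (.mul (.k 39) (.k 17)) (.df (.mul (.fr (.fr (.k 38))) (.v 5)) (.df (.mul (.fr (.fr (.k 38))) (.v 4)) (.df (.mul (.fr (.fr (.k 38))) (.k 18)) (.sel [0, 1, 2, 7, 8, 9, 10, 11, 12]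
  plS3)))))))))

def plS2j : Plan :=
  (.alt [(.pw 0), (.pw 9), (.pw 18), (.pw 27)]
  (.kf (.mul (.k 38) (.mul (.mul (.mul (.fr (.k 38)) (.fr (.fr (.k 38)))) (.fr (.fr (.fr (.k 38))))) (.mul (.mul (.fr (.k 38)) (.fr (.fr (.k 38)))) (.fr (.fr (.fr (.k 38))))))) (.df (.mul (.k 39) (.v 3)) (.df (.mul (.k 39) (.v 6)) (.df (.mul (.k 39) (.k 17)) (.df (.mul (.fr (.fr (.k 38))) (.v 5)) (.df (.mul (.fr (.fr (.k 38))) (.v 4)) (.df (.mul (.fr (.fr (.k 38))) (.k 18)) (.sel [0, 1, 2, 7, 8, 9, 10, 11, 12]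
  plS3)))))))))

def plAT : Plan :=
  (.df (.sub (.v 3) (.mul (.v 7) (.k 23))) (.df (.mul (.sub (.v 4) (.v 8)) (.k 24)) (.df (.mul (.v 7) (.fr (.fr (.v 9)))) (.df (.mul (.v 10) (.fr (.fr (.v 8)))) (.fl [(.sub (.mul (.v 9) (.fr (.fr (.v 10)))) (.k 35)), (.sub (.v 5) (.add (.v 11) (.fr (.fr (.v 11))))), (.sub (.v 6) (.add (.v 12) (.fr (.fr (.v 12)))))] [1, 0, 2, 7, 8, 9, 10]
  plS2)))))

def plAlpha : Plan :=
  (.alt [.zero, (.pw 0), (.neg (.pw 0))]
  (.kf (.neg (.add (.add (.k 12) (.mul (.pw 20) (.k 29))) (.k 33))) (.kf (.neg (.add (.add (.k 13) (.mul (.pw 60) (.k 29))) (.neg (.k 33)))) (.kf (.fr (.fr (.k 34))) (.kf (.fr (.fr (.k 35))) (.kf .zero (.kf .zero (.ksp (.k 34)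
  (.or
    (.ex (.df .zero (.sel [0, 1, 2, 3, 4, 5, 6, 7, 9]
      plAT)))
    (.exn (.df .zero (.sel [0, 1, 2, 3, 4, 5, 6, 9, 7]
      plAT))))
  (.exn (.df (.mul (.k 36) (.fr (.fr (.v 8)))) (.sel [0, 1, 2, 3, 4, 5, 6, 7, 9]
    plAT)))))))))))

def plB1b : Plan :=
  (.ex (.df (.mul (.v 8) (.fr (.fr (.v 4)))) (.fl [(.sub (.mul (.v 3) (.fr (.fr (.v 8)))) (.k 35)), (.sub (.v 6) (.add (.v 10) (.fr (.fr (.v 10)))))] [1, 0, 2, 7, 4, 3, 8]
  plS2)))

def plBeta1 : Plan :=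
  (.alt [.zero, (.pw 0), (.neg (.pw 0))]
  (.kf (.neg (.add (.add (.k 12) (.mul (.pw 20) (.k 29))) (.k 33))) (.kf (.neg (.add (.add (.k 13) (.mul (.pw 60) (.k 29))) (.neg (.k 33)))) (.kf (.fr (.fr (.k 34))) (.kf (.fr (.fr (.k 35))) (.kf .zero (.kf .zero (.ex (.df (.mul (.v 7) (.fr (.fr (.v 3)))) (.fl [(.sub (.mul (.v 7) (.fr (.fr (.v 4)))) (.k 34)), (.sub (.v 5) (.add (.v 9) (.fr (.fr (.v 9)))))] [0, 1, 2, 3, 4, 5, 6, 7]
  plB1b))))))))))

def plB2b : Plan :=
  (.ex (.df (.mul (.v 4) (.fr (.fr (.v 8)))) (.fl [(.sub (.mul (.v 3) (.fr (.fr (.v 8)))) (.k 34)), (.sub (.v 6) (.add (.v 10) (.fr (.fr (.v 10)))))] [1, 0, 2, 3, 8, 7, 4]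
  plS2)))

def plBeta2 : Plan :=
  (.alt [.zero, (.pw 0), (.neg (.pw 0))]
  (.kf (.neg (.add (.add (.k 12) (.mul (.pw 20) (.k 29))) (.k 33))) (.kf (.neg (.add (.add (.k 13) (.mul (.pw 60) (.k 29))) (.neg (.k 33)))) (.kf (.fr (.fr (.k 34))) (.kf (.fr (.fr (.k 35))) (.kf .zero (.kf .zero (.ex (.df (.mul (.v 3) (.fr (.fr (.v 7)))) (.fl [(.sub (.mul (.v 7) (.fr (.fr (.v 4)))) (.k 35)), (.sub (.v 5) (.add (.v 9) (.fr (.fr (.v 9)))))] [0, 1, 2, 3, 4, 5, 6, 7]
  plB2b))))))))))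

def plAT0 : Plan :=
  (.df (.sub (.v 3) (.mul (.v 7) (.k 23))) (.df (.mul (.sub (.v 4) (.v 8)) (.k 24)) (.df (.mul (.v 7) (.fr (.fr (.v 9)))) (.df (.mul (.v 10) (.fr (.fr (.v 8)))) (.fl [(.sub (.mul (.v 9) (.fr (.fr (.v 10)))) (.k 35)), (.sub (.v 5) (.add (.v 11) (.fr (.fr (.v 11))))), (.sub (.v 6) (.add (.v 12) (.fr (.fr (.v 12)))))] [1, 0, 2, 7, 8, 9, 10]
  plS2i)))))

def plAlpha0 : Plan :=
  (.alt [.zero, (.pw 0), (.neg (.pw 0))]
  (.kf (.neg (.add (.add (.k 12) (.mul (.pw 20) (.k 29))) (.k 33))) (.kf (.neg (.add (.add (.k 13) (.mul (.pw 60) (.k 29))) (.neg (.k 33)))) (.kf (.fr (.fr (.k 34))) (.kf (.fr (.fr (.k 35))) (.ksp (.k 34)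
  (.or
    (.ex (.df .zero (.sel [0, 1, 2, 3, 4, 5, 6, 7, 9]
      plAT0)))
    (.exn (.df .zero (.sel [0, 1, 2, 3, 4, 5, 6, 9, 7]
      plAT0))))
  (.exn (.df (.mul (.k 36) (.fr (.fr (.v 8)))) (.sel [0, 1, 2, 3, 4, 5, 6, 7, 9]
    plAT0)))))))))

def plB1b0 : Plan :=
  (.ex (.df (.mul (.v 8) (.fr (.fr (.v 4)))) (.fl [(.sub (.mul (.v 3) (.fr (.fr (.v 8)))) (.k 35)), (.sub (.v 6) (.add (.v 10) (.fr (.fr (.v 10)))))] [1, 0, 2, 7, 4, 3, 8]
  plS2i)))

def plBeta10 : Plan :=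
  (.alt [.zero, (.pw 0), (.neg (.pw 0))]
  (.kf (.neg (.add (.add (.k 12) (.mul (.pw 20) (.k 29))) (.k 33))) (.kf (.neg (.add (.add (.k 13) (.mul (.pw 60) (.k 29))) (.neg (.k 33)))) (.kf (.fr (.fr (.k 34))) (.kf (.fr (.fr (.k 35))) (.ex (.df (.mul (.v 7) (.fr (.fr (.v 3)))) (.fl [(.sub (.mul (.v 7) (.fr (.fr (.v 4)))) (.k 34)), (.sub (.v 5) (.add (.v 9) (.fr (.fr (.v 9)))))] [0, 1, 2, 3, 4, 5, 6, 7]
  plB1b0))))))))

def plB2b0 : Plan :=
  (.ex (.df (.mul (.v 4) (.fr (.fr (.v 8)))) (.fl [(.sub (.mul (.v 3) (.fr (.fr (.v 8)))) (.k 34)), (.sub (.v 6) (.add (.v 10) (.fr (.fr (.v 10)))))] [1, 0, 2, 3, 8, 7, 4]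
  plS2j)))

def plBeta20 : Plan :=
  (.alt [.zero, (.pw 0), (.neg (.pw 0))]
  (.kf (.neg (.add (.add (.k 12) (.mul (.pw 20) (.k 29))) (.k 33))) (.kf (.neg (.add (.add (.k 13) (.mul (.pw 60) (.k 29))) (.neg (.k 33)))) (.kf (.fr (.fr (.k 34))) (.kf (.fr (.fr (.k 35))) (.ex (.df (.mul (.v 3) (.fr (.fr (.v 7)))) (.fl [(.sub (.mul (.v 7) (.fr (.fr (.v 4)))) (.k 35)), (.sub (.v 5) (.add (.v 9) (.fr (.fr (.v 9)))))] [0, 1, 2, 3, 4, 5, 6, 7]
  plB2b0))))))))

def plB3c : Plan :=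
  (.df (.mul (.v 5) (.fr (.fr (.v 7)))) (.df (.mul (.v 8) (.fr (.fr (.v 6)))) (.fl [(.sub (.v 3) (.add (.v 9) (.fr (.fr (.v 9))))), (.sub (.v 4) (.add (.v 10) (.fr (.fr (.v 10)))))] [0, 1, 2, 3, 4, 5, 6, 7, 8]
  (.df .zero (.sel [1, 0, 2, 5, 8, 9, 7, 6, 9]
  plS3)))))

def plBeta3 : Plan :=
  (.fl [(.v 3), (.v 4)] [0, 1, 2, 5, 6]
  (.alt [.zero, (.pw 0), (.neg (.pw 0))]
  (.kf (.neg (.add (.add (.k 12) (.mul (.pw 20) (.k 29))) (.k 33))) (.kf (.neg (.add (.add (.k 13) (.mul (.pw 60) (.k 29))) (.neg (.k 33)))) (.kf (.fr (.fr (.k 34))) (.kf (.fr (.fr (.k 35))) (.kf .zero (.kf .zero (.ksp (.k 34)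
  (.or
    (.ex (.df .zero (.sel [0, 1, 2, 3, 4, 5, 7]
      (.ksp (.k 35)
      (.or
        (.ex (.df .zero (.sel [0, 1, 2, 3, 4, 5, 6, 7, 9]
          plB3c)))
        (.exn (.df .zero (.sel [0, 1, 2, 3, 4, 5, 6, 9, 7]
          plB3c))))
      (.exn (.df (.mul (.k 37) (.fr (.fr (.v 8)))) (.sel [0, 1, 2, 3, 4, 5, 6, 7, 9]
        plB3c)))))))
    (.exn (.df .zero (.sel [0, 1, 2, 3, 4, 7, 5]
      (.ksp (.k 35)
      (.or
        (.ex (.df .zero (.sel [0, 1, 2, 3, 4, 5, 6, 7, 9]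
          plB3c)))
        (.exn (.df .zero (.sel [0, 1, 2, 3, 4, 5, 6, 9, 7]
          plB3c))))
      (.exn (.df (.mul (.k 37) (.fr (.fr (.v 8)))) (.sel [0, 1, 2, 3, 4, 5, 6, 7, 9]
        plB3c))))))))
  (.exn (.df (.mul (.k 36) (.fr (.fr (.v 6)))) (.sel [0, 1, 2, 3, 4, 5, 7]
    (.ksp (.k 35)
    (.or
      (.ex (.df .zero (.sel [0, 1, 2, 3, 4, 5, 6, 7, 9]
        plB3c)))
      (.exn (.df .zero (.sel [0, 1, 2, 3, 4, 5, 6, 9, 7]
        plB3c))))
    (.exn (.df (.mul (.k 37) (.fr (.fr (.v 8)))) (.sel [0, 1, 2, 3, 4, 5, 6, 7, 9]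
      plB3c))))))))))))))))

def plZ0c : Plan :=
  (.df (.mul (.v 7) (.fr (.fr (.k 38)))) (.df (.mul (.k 39) (.fr (.fr (.v 8)))) (.df (.sub (.mul (.fr (.fr (.k 39))) (.v 1)) (.mul (.fr (.fr (.v 7))) (.v 0))) (.df (.sub (.mul (.fr (.fr (.v 8))) (.v 0)) (.mul (.fr (.fr (.k 38))) (.v 2))) (.df (.fr (.v 11)) (.df (.fr (.v 12)) (.df (.mul (.pw 16) (.fr (.fr (.v 13)))) (.df (.mul (.pw 56) (.fr (.fr (.v 14)))) (.fl [(.sub (.v 5) (.add (.v 9) (.fr (.fr (.v 9))))), (.sub (.v 6) (.add (.v 10) (.fr (.fr (.v 10))))), (.sub (.add (.mul (.v 1) (.v 15)) (.mul (.v 0) (.v 16))) (.mul (.mul (.pw 64) (.k 14)) (.v 14))), (.sub (.mul (.mul (.pw 24) (.k 14)) (.v 13)) (.add (.mul (.v 0) (.v 15)) (.mul (.v 2) (.v 16))))] [1, 0, 2, 7, 8]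
  (.df (.k 38) (.df (.k 39) (.df .zero (.sel [0, 1, 2, 3, 6, 7, 5, 4, 7]
  plS3)))))))))))))

def plZ0b : Plan :=
  (.ksp (.k 34)
  (.or
    (.ex (.df .zero (.sel [0, 1, 2, 3, 4, 5, 6, 7, 9]
      plZ0c)))
    (.exn (.df .zero (.sel [0, 1, 2, 3, 4, 5, 6, 9, 7]
      plZ0c))))
  (.exn (.df (.mul (.k 36) (.fr (.fr (.v 8)))) (.sel [0, 1, 2, 3, 4, 5, 6, 7, 9]
    plZ0c))))

def plZ0d : Plan :=
  (.fl [(.v 5), (.v 6)] [1, 0, 2]
  (.df (.k 38) (.df (.k 39) (.df .zero (.sel [0, 1, 2, 3, 5, 5, 5, 4, 5]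
  plS3)))))

def plZ0e : Plan :=
  (.ksp (.k 34)
  (.or
    (.alt [(.pw 0), (.pw 1), (.pw 2), (.pw 3), (.pw 4)]
      (.kf .zero plZ0d))
    (.kf .zero (.alt [.zero, (.pw 0), (.pw 1), (.pw 2), (.pw 3), (.pw 4)]
      plZ0d)))
  (.alt [(.pw 0), (.pw 1), (.pw 2), (.pw 3), (.pw 4)]
    (.kf (.mul (.k 36) (.fr (.fr (.mul (.k 38) (.mul (.mul (.mul (.fr (.k 38)) (.fr (.fr (.k 38)))) (.fr (.fr (.fr (.k 38))))) (.mul (.mul (.fr (.k 38)) (.fr (.fr (.k 38)))) (.fr (.fr (.fr (.k 38)))))))))) plZ0d)))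

def plZ0 : Plan :=
  (.alt [.zero, (.pw 0), (.neg (.pw 0))]
  (.kf (.neg (.add (.add (.k 12) (.mul (.pw 20) (.k 29))) (.k 33))) (.kf (.neg (.add (.add (.k 13) (.mul (.pw 60) (.k 29))) (.neg (.k 33)))) (.kf (.fr (.fr (.k 34))) (.kf (.fr (.fr (.k 35))) (.ksp (.k 35)
  (.or
    (.alt [(.pw 0), (.pw 1), (.pw 2), (.pw 3), (.pw 4)]
      (.kf .zero plZ0b))
    (.or
      (.kf .zero (.alt [(.pw 0), (.pw 1), (.pw 2), (.pw 3), (.pw 4)]
        plZ0b))
      plZ0e))
  (.alt [(.pw 0), (.pw 1), (.pw 2), (.pw 3), (.pw 4)]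
    (.kf (.mul (.k 37) (.fr (.fr (.mul (.k 38) (.mul (.mul (.mul (.fr (.k 38)) (.fr (.fr (.k 38)))) (.fr (.fr (.fr (.k 38))))) (.mul (.mul (.fr (.k 38)) (.fr (.fr (.k 38)))) (.fr (.fr (.fr (.k 38)))))))))) plZ0b))))))))

def plTa : Plan :=
  (.df (.add (.add (.mul (.v 1) (.k 21)) (.k 25)) (.mul (.v 0) (.k 20))) (.df (.add (.add (.mul (.v 0) (.k 21)) (.k 26)) (.mul (.v 2) (.k 20))) (.df (.mul (.v 1) (.fr (.fr (.v 0)))) (.df (.mul (.v 0) (.fr (.fr (.v 2)))) (.df (.add (.k 27) (.add (.v 5) (.fr (.fr (.v 5))))) (.df (.add (.k 28) (.add (.v 6) (.fr (.fr (.v 6))))) (.sel [0, 1, 2, 3, 4, 7, 8]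
  plAlpha)))))))

def plLa : Plan :=
  (.alt [.zero, (.pw 0), (.neg (.pw 0))]
  (.kf (.add (.k 10) (.mul (.pw 20) (.k 29))) (.kf (.add (.k 11) (.mul (.pw 60) (.k 29))) (.kf (.fr (.fr (.k 31))) (.ex (.fl [(.sub (.mul (.v 0) (.fr (.fr (.v 0)))) (.k 30))] [0]
  (.ksp (.k 31)
  (.or
    (.ex (.df .zero (.sel [0, 1, 3]
      plTa)))
    (.exn (.df .zero (.sel [0, 3, 1]
      plTa))))
  (.exn (.df (.mul (.k 32) (.fr (.fr (.v 2)))) (.sel [0, 1, 3]
    plTa))))))))))

def plTb1 : Plan :=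
  (.df (.add (.add (.mul (.v 1) (.k 21)) (.k 25)) (.mul (.v 0) (.k 20))) (.df (.add (.add (.mul (.v 0) (.k 21)) (.k 26)) (.mul (.v 2) (.k 20))) (.df (.mul (.v 1) (.fr (.fr (.v 0)))) (.df (.mul (.v 0) (.fr (.fr (.v 2)))) (.df (.add (.k 27) (.add (.v 5) (.fr (.fr (.v 5))))) (.df (.add (.k 28) (.add (.v 6) (.fr (.fr (.v 6))))) (.sel [0, 1, 2, 3, 4, 7, 8]
  plBeta1)))))))

def plLb1 : Plan :=
  (.alt [.zero, (.pw 0), (.neg (.pw 0))]
  (.kf (.add (.k 10) (.mul (.pw 20) (.k 29))) (.kf (.add (.k 11) (.mul (.pw 60) (.k 29))) (.kf (.fr (.fr (.k 31))) (.ex (.fl [(.sub (.mul (.v 0) (.fr (.fr (.v 0)))) (.k 30))] [0]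
  (.ksp (.k 31)
  (.or
    (.ex (.df .zero (.sel [0, 1, 3]
      plTb1)))
    (.exn (.df .zero (.sel [0, 3, 1]
      plTb1))))
  (.exn (.df (.mul (.k 32) (.fr (.fr (.v 2)))) (.sel [0, 1, 3]
    plTb1))))))))))

def plTb2 : Plan :=
  (.df (.add (.add (.mul (.v 1) (.k 21)) (.k 25)) (.mul (.v 0) (.k 20))) (.df (.add (.add (.mul (.v 0) (.k 21)) (.k 26)) (.mul (.v 2) (.k 20))) (.df (.mul (.v 1) (.fr (.fr (.v 0)))) (.df (.mul (.v 0) (.fr (.fr (.v 2)))) (.df (.add (.k 27) (.add (.v 5) (.fr (.fr (.v 5))))) (.df (.add (.k 28) (.add (.v 6) (.fr (.fr (.v 6))))) (.sel [0, 1, 2, 3, 4, 7, 8]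
  plBeta2)))))))

def plLb2 : Plan :=
  (.alt [.zero, (.pw 0), (.neg (.pw 0))]
  (.kf (.add (.k 10) (.mul (.pw 20) (.k 29))) (.kf (.add (.k 11) (.mul (.pw 60) (.k 29))) (.kf (.fr (.fr (.k 31))) (.ex (.fl [(.sub (.mul (.v 0) (.fr (.fr (.v 0)))) (.k 30))] [0]
  (.ksp (.k 31)
  (.or
    (.ex (.df .zero (.sel [0, 1, 3]
      plTb2)))
    (.exn (.df .zero (.sel [0, 3, 1]
      plTb2))))
  (.exn (.df (.mul (.k 32) (.fr (.fr (.v 2)))) (.sel [0, 1, 3]
    plTb2))))))))))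

def plTb3 : Plan :=
  (.df (.add (.add (.mul (.v 1) (.k 21)) (.k 25)) (.mul (.v 0) (.k 20))) (.df (.add (.add (.mul (.v 0) (.k 21)) (.k 26)) (.mul (.v 2) (.k 20))) (.df (.mul (.v 1) (.fr (.fr (.v 0)))) (.df (.mul (.v 0) (.fr (.fr (.v 2)))) (.df (.add (.k 27) (.add (.v 5) (.fr (.fr (.v 5))))) (.df (.add (.k 28) (.add (.v 6) (.fr (.fr (.v 6))))) (.sel [0, 1, 2, 3, 4, 7, 8]
  plBeta3)))))))

def plLb3 : Plan :=
  (.alt [.zero, (.pw 0), (.neg (.pw 0))]
  (.kf (.add (.k 10) (.mul (.pw 20) (.k 29))) (.kf (.add (.k 11) (.mul (.pw 60) (.k 29))) (.kf (.fr (.fr (.k 31))) (.ex (.fl [(.sub (.mul (.v 0) (.fr (.fr (.v 0)))) (.k 30))] [0]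
  (.ksp (.k 31)
  (.or
    (.ex (.df .zero (.sel [0, 1, 3]
      plTb3)))
    (.exn (.df .zero (.sel [0, 3, 1]
      plTb3))))
  (.exn (.df (.mul (.k 32) (.fr (.fr (.v 2)))) (.sel [0, 1, 3]
    plTb3))))))))))

def plTa0 : Plan :=
  (.df (.add (.add (.mul (.v 1) (.k 21)) (.k 25)) (.mul (.v 0) (.k 20))) (.df (.add (.add (.mul (.v 0) (.k 21)) (.k 26)) (.mul (.v 2) (.k 20))) (.df (.mul (.v 1) (.fr (.fr (.v 0)))) (.df (.mul (.v 0) (.fr (.fr (.v 2)))) (.df (.add (.k 27) (.add (.v 5) (.fr (.fr (.v 5))))) (.df (.add (.k 28) (.add (.v 6) (.fr (.fr (.v 6))))) (.sel [0, 1, 2, 3, 4, 7, 8]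
  plAlpha0)))))))

def plLa0 : Plan :=
  (.alt [.zero, (.pw 0), (.neg (.pw 0))]
  (.kf (.add (.k 10) (.mul (.pw 20) (.k 29))) (.kf (.add (.k 11) (.mul (.pw 60) (.k 29))) (.kf (.fr (.fr (.k 31))) (.ex (.fl [(.sub (.mul (.v 0) (.fr (.fr (.v 0)))) (.k 30))] [0]
  (.ksp (.k 31)
  (.or
    (.ex (.df .zero (.sel [0, 1, 3]
      plTa0)))
    (.exn (.df .zero (.sel [0, 3, 1]
      plTa0))))
  (.exn (.df (.mul (.k 32) (.fr (.fr (.v 2)))) (.sel [0, 1, 3]
    plTa0))))))))))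

def plTb10 : Plan :=
  (.df (.add (.add (.mul (.v 1) (.k 21)) (.k 25)) (.mul (.v 0) (.k 20))) (.df (.add (.add (.mul (.v 0) (.k 21)) (.k 26)) (.mul (.v 2) (.k 20))) (.df (.mul (.v 1) (.fr (.fr (.v 0)))) (.df (.mul (.v 0) (.fr (.fr (.v 2)))) (.df (.add (.k 27) (.add (.v 5) (.fr (.fr (.v 5))))) (.df (.add (.k 28) (.add (.v 6) (.fr (.fr (.v 6))))) (.sel [0, 1, 2, 3, 4, 7, 8]
  plBeta10)))))))

def plLb10 : Plan :=
  (.alt [.zero, (.pw 0), (.neg (.pw 0))]
  (.kf (.add (.k 10) (.mul (.pw 20) (.k 29))) (.kf (.add (.k 11) (.mul (.pw 60) (.k 29))) (.kf (.fr (.fr (.k 31))) (.ex (.fl [(.sub (.mul (.v 0) (.fr (.fr (.v 0)))) (.k 30))] [0]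
  (.ksp (.k 31)
  (.or
    (.ex (.df .zero (.sel [0, 1, 3]
      plTb10)))
    (.exn (.df .zero (.sel [0, 3, 1]
      plTb10))))
  (.exn (.df (.mul (.k 32) (.fr (.fr (.v 2)))) (.sel [0, 1, 3]
    plTb10))))))))))

def plTb20 : Plan :=
  (.df (.add (.add (.mul (.v 1) (.k 21)) (.k 25)) (.mul (.v 0) (.k 20))) (.df (.add (.add (.mul (.v 0) (.k 21)) (.k 26)) (.mul (.v 2) (.k 20))) (.df (.mul (.v 1) (.fr (.fr (.v 0)))) (.df (.mul (.v 0) (.fr (.fr (.v 2)))) (.df (.add (.k 27) (.add (.v 5) (.fr (.fr (.v 5))))) (.df (.add (.k 28) (.add (.v 6) (.fr (.fr (.v 6))))) (.sel [0, 1, 2, 3, 4, 7, 8]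
  plBeta20)))))))

def plLb20 : Plan :=
  (.alt [.zero, (.pw 0), (.neg (.pw 0))]
  (.kf (.add (.k 10) (.mul (.pw 20) (.k 29))) (.kf (.add (.k 11) (.mul (.pw 60) (.k 29))) (.kf (.fr (.fr (.k 31))) (.ex (.fl [(.sub (.mul (.v 0) (.fr (.fr (.v 0)))) (.k 30))] [0]
  (.ksp (.k 31)
  (.or
    (.ex (.df .zero (.sel [0, 1, 3]
      plTb20)))
    (.exn (.df .zero (.sel [0, 3, 1]
      plTb20))))
  (.exn (.df (.mul (.k 32) (.fr (.fr (.v 2)))) (.sel [0, 1, 3]
    plTb20))))))))))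

def plTz : Plan :=
  (.df (.add (.add (.mul (.v 1) (.k 21)) (.k 25)) (.mul (.v 0) (.k 20))) (.df (.add (.add (.mul (.v 0) (.k 21)) (.k 26)) (.mul (.v 2) (.k 20))) (.df (.mul (.v 1) (.fr (.fr (.v 0)))) (.df (.mul (.v 0) (.fr (.fr (.v 2)))) (.df (.add (.k 27) (.add (.v 5) (.fr (.fr (.v 5))))) (.df (.add (.k 28) (.add (.v 6) (.fr (.fr (.v 6))))) (.sel [0, 1, 2, 3, 4, 7, 8]
  plZ0)))))))

def plLz : Plan :=
  (.alt [.zero, (.pw 0), (.neg (.pw 0))]
  (.kf (.add (.k 10) (.mul (.pw 20) (.k 29))) (.kf (.add (.k 11) (.mul (.pw 60) (.k 29))) (.kf (.fr (.fr (.k 31))) (.ex (.fl [(.sub (.mul (.v 0) (.fr (.fr (.v 0)))) (.k 30))] [0]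
  (.ksp (.k 31)
  (.or
    (.ex (.df .zero (.sel [0, 1, 3]
      plTz)))
    (.exn (.df .zero (.sel [0, 3, 1]
      plTz))))
  (.exn (.df (.mul (.k 32) (.fr (.fr (.v 2)))) (.sel [0, 1, 3]
    plTz))))))))))

def plCa : Plan :=
  (.kf (.fr (.fr (.k 14))) (.kf (.fr (.fr (.k 15))) (.kf (.fr (.fr (.k 16))) (.kf (.fr (.fr (.k 17))) (.kf (.fr (.fr (.k 18))) (.kf (.mul (.k 23) (.mul (.mul (.mul (.fr (.k 23)) (.fr (.fr (.k 23)))) (.fr (.fr (.fr (.k 23))))) (.mul (.mul (.fr (.k 23)) (.fr (.fr (.k 23)))) (.fr (.fr (.fr (.k 23))))))) (.kf (.mul (.k 15) (.k 19)) (.kf (.mul (.k 16) (.k 19)) (.kf (.mul (.k 15) (.k 20)) (.kf (.mul (.k 16) (.k 21)) plLa))))))))))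

def plCb1 : Plan :=
  (.kf (.fr (.fr (.k 14))) (.kf (.fr (.fr (.k 15))) (.kf (.fr (.fr (.k 16))) (.kf (.fr (.fr (.k 17))) (.kf (.fr (.fr (.k 18))) (.kf (.mul (.k 23) (.mul (.mul (.mul (.fr (.k 23)) (.fr (.fr (.k 23)))) (.fr (.fr (.fr (.k 23))))) (.mul (.mul (.fr (.k 23)) (.fr (.fr (.k 23)))) (.fr (.fr (.fr (.k 23))))))) (.kf (.mul (.k 15) (.k 19)) (.kf (.mul (.k 16) (.k 19)) (.kf (.mul (.k 15) (.k 20)) (.kf (.mul (.k 16) (.k 21)) plLb1))))))))))

def plCb2 : Plan :=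
  (.kf (.fr (.fr (.k 14))) (.kf (.fr (.fr (.k 15))) (.kf (.fr (.fr (.k 16))) (.kf (.fr (.fr (.k 17))) (.kf (.fr (.fr (.k 18))) (.kf (.mul (.k 23) (.mul (.mul (.mul (.fr (.k 23)) (.fr (.fr (.k 23)))) (.fr (.fr (.fr (.k 23))))) (.mul (.mul (.fr (.k 23)) (.fr (.fr (.k 23)))) (.fr (.fr (.fr (.k 23))))))) (.kf (.mul (.k 15) (.k 19)) (.kf (.mul (.k 16) (.k 19)) (.kf (.mul (.k 15) (.k 20)) (.kf (.mul (.k 16) (.k 21)) plLb2))))))))))

def plCb3 : Plan :=
  (.kf (.fr (.fr (.k 14))) (.kf (.fr (.fr (.k 15))) (.kf (.fr (.fr (.k 16))) (.kf (.fr (.fr (.k 17))) (.kf (.fr (.fr (.k 18))) (.kf (.mul (.k 23) (.mul (.mul (.mul (.fr (.k 23)) (.fr (.fr (.k 23)))) (.fr (.fr (.fr (.k 23))))) (.mul (.mul (.fr (.k 23)) (.fr (.fr (.k 23)))) (.fr (.fr (.fr (.k 23))))))) (.kf (.mul (.k 15) (.k 19)) (.kf (.mul (.k 16) (.k 19)) (.kf (.mul (.k 15) (.k 20)) (.kf (.mul (.k 16) (.k 21)) plLb3))))))))))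

def plBr : Plan :=
  (.or
  (.kf (.pw 0) (.kf (.fr (.fr (.k 8))) (.ksp (.k 8)
    plCb1
    plCa)))
  (.kfl [(.k 8)]
    (.or
    (.kf .zero (.kf (.pw 0) plCb2))
    (.kf .zero (.kf .zero plCb3)))))

def plCa0 : Plan :=
  (.kf (.fr (.fr (.k 14))) (.kf (.fr (.fr (.k 15))) (.kf (.fr (.fr (.k 16))) (.kf (.fr (.fr (.k 17))) (.kf (.fr (.fr (.k 18))) (.kf (.mul (.k 23) (.mul (.mul (.mul (.fr (.k 23)) (.fr (.fr (.k 23)))) (.fr (.fr (.fr (.k 23))))) (.mul (.mul (.fr (.k 23)) (.fr (.fr (.k 23)))) (.fr (.fr (.fr (.k 23))))))) (.kf (.mul (.k 15) (.k 19)) (.kf (.mul (.k 16) (.k 19)) (.kf (.mul (.k 15) (.k 20)) (.kf (.mul (.k 16) (.k 21)) plLa0))))))))))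

def plCb10 : Plan :=
  (.kf (.fr (.fr (.k 14))) (.kf (.fr (.fr (.k 15))) (.kf (.fr (.fr (.k 16))) (.kf (.fr (.fr (.k 17))) (.kf (.fr (.fr (.k 18))) (.kf (.mul (.k 23) (.mul (.mul (.mul (.fr (.k 23)) (.fr (.fr (.k 23)))) (.fr (.fr (.fr (.k 23))))) (.mul (.mul (.fr (.k 23)) (.fr (.fr (.k 23)))) (.fr (.fr (.fr (.k 23))))))) (.kf (.mul (.k 15) (.k 19)) (.kf (.mul (.k 16) (.k 19)) (.kf (.mul (.k 15) (.k 20)) (.kf (.mul (.k 16) (.k 21)) plLb10))))))))))

def plCb20 : Plan :=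
  (.kf (.fr (.fr (.k 14))) (.kf (.fr (.fr (.k 15))) (.kf (.fr (.fr (.k 16))) (.kf (.fr (.fr (.k 17))) (.kf (.fr (.fr (.k 18))) (.kf (.mul (.k 23) (.mul (.mul (.mul (.fr (.k 23)) (.fr (.fr (.k 23)))) (.fr (.fr (.fr (.k 23))))) (.mul (.mul (.fr (.k 23)) (.fr (.fr (.k 23)))) (.fr (.fr (.fr (.k 23))))))) (.kf (.mul (.k 15) (.k 19)) (.kf (.mul (.k 16) (.k 19)) (.kf (.mul (.k 15) (.k 20)) (.kf (.mul (.k 16) (.k 21)) plLb20))))))))))

def plCz : Plan :=
  (.kf (.fr (.fr (.k 14))) (.kf (.fr (.fr (.k 15))) (.kf (.fr (.fr (.k 16))) (.kf (.fr (.fr (.k 17))) (.kf (.fr (.fr (.k 18))) (.kf (.mul (.k 23) (.mul (.mul (.mul (.fr (.k 23)) (.fr (.fr (.k 23)))) (.fr (.fr (.fr (.k 23))))) (.mul (.mul (.fr (.k 23)) (.fr (.fr (.k 23)))) (.fr (.fr (.fr (.k 23))))))) (.kf (.mul (.k 15) (.k 19)) (.kf (.mul (.k 16) (.k 19)) (.kf (.mul (.k 15) (.k 20)) (.kf (.mul (.k 16) (.k 21)) plLz))))))))))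

def plBr0 : Plan :=
  (.or
  (.kf (.pw 0) (.kf (.fr (.fr (.k 8))) (.ksp (.k 8)
    plCb10
    plCa0)))
  (.kfl [(.k 8)]
    (.or
    (.kf .zero (.kf (.pw 0) plCb20))
    (.kf .zero (.kf .zero plCz)))))

def plR1 : Plan :=
  (.or
  (.kf (.pw 0) (.kf (.fr (.fr (.k 7))) plBr))
  (.kfl [(.k 7)]
    (.or
    (.kf .zero (.kf (.pw 0) plBr))
    (.kf .zero (.kf .zero plBr0)))))

def plan : Plan :=
  (.kf (.add (.add (.add (.add (.pw 0) (.k 0)) (.mul (.pw 1) (.k 1))) (.mul (.pw 2) (.k 2))) (.mul (.pw 3) (.k 3))) (.kf (.neg (.add (.add (.add (.pw 0) (.k 4)) (.mul (.pw 25) (.k 5))) (.mul (.pw 55) (.k 6)))) (.kf (.add (.add (.add (.add (.k 0) (.mul (.pw 20) (.k 1))) (.mul (.pw 20) (.k 2))) (.mul (.pw 60) (.k 3))) (.k 4)) (.kf (.add (.pw 0) (.k 4)) (.kf (.add (.add (.add (.mul (.pw 18) (.k 1)) (.mul (.pw 43) (.k 2))) (.mul (.pw 54) (.k 3))) (.k 4)) (.kf (.add (.add (.pw 0) (.mul (.pw 45) (.k 5))) (.mul (.pw 25) (.k 6))) (.kf (.add (.add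 (.add (.add (.add (.add (.add (.pw 0) (.mul (.pw 40) (.k 0))) (.mul (.pw 43) (.k 1))) (.mul (.pw 46) (.k 2))) (.mul (.pw 49) (.k 3))) (.k 4)) (.mul (.pw 5) (.k 5))) (.mul (.pw 65) (.k 6))) (.alt [.zero, (.pw 0), (.pw 1), (.pw 2), (.pw 3), (.pw 4), (.pw 5), (.pw 6), (.pw 7)]
  (.kfl [(.sub (.mul (.k 14) (.fr (.fr (.k 14)))) (.k 9))]
  plR1)))))))))

end Cfsg.Agent.H136.P9
end

-- part: H516/BS/Basic
section
set_option linter.all false
open scoped Cfsg.Agent.FastGrp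

/-!
# Bit-sliced arithmetic in the field with 81 elements (helper516, S5925)

A trit is a pair of planes `(m, s)` (`m` : nonzero, `s` : equal to 2); an element of `F₈₁ = F₃[g]`, `g⁴ = -g + 1`, is a
quadruple of trits.  `R g i X u` : lane `i` of the register `X` represents `u = c₀ + c₁ g + c₂ g² + c₃ g³`.

* `Q.add Q.sub Q.neg Q.mul Q.frob Q.mulg Q.zero Q.const Q.nz` and their soundness `R.add`, …;
* `R.nz` : if `u = 0` then the bit `i` of `Q.nz X` is false.
-/

set_option autoImplicit false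
set_option linter.unusedSectionVars false

namespace Cfsg.Agent.H516.BS

/-! ### trits -/

/-- a register of trits -/
structure T where
  m : ℕ
  s : ℕ

namespace T

def zero : T := ⟨0, 0⟩

def add (x y : T) : T :=
  let s := x.m ^^^ y.s
  let t := x.s ^^^ y.m
  ⟨(s ^^^ x.s) ||| (t ^^^ y.s), s &&& t⟩

def sub (x y : T) : T :=
  let s := x.m ^^^ y.m
  ⟨s ||| (x.s ^^^ y.s), (s ^^^ y.s) &&& (y.m ^^^ x.s)⟩

def neg (x : T) : T := ⟨x.m, x.m ^^^ x.s⟩

def mul (x y : T) : T :=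
  let m := x.m &&& y.m
  ⟨m, m &&& (x.s ^^^ y.s)⟩

/-- lane `i` represents `u` -/
def Rt (i : ℕ) (x : T) (u : ZMod 3) : Prop := x.m.testBit i = decide (u ≠ 0) ∧ x.s.testBit i = decide (u = 2)

theorem Rt.zero (i : ℕ) : Rt i zero 0 := by
  constructor <;> simp [T.zero]; decide

theorem dec_add : ∀ u v : ZMod 3,
    ((((decide (u ≠ 0)) ^^ (decide (v = 2))) ^^ decide (u = 2)) || (((decide (u = 2)) ^^ decide (v ≠ 0)) ^^ decide (v = 2))) =
      decide (u + v ≠ 0) ∧
    (((decide (u ≠ 0)) ^^ (decide (v = 2))) && ((decide (u = 2)) ^^ decide (v ≠ 0))) = decide (u + v = 2) := by decide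

theorem Rt.add {i : ℕ} {x y : T} {u v : ZMod 3} (hx : Rt i x u) (hy : Rt i y v) : Rt i (x.add y) (u + v) := by
  obtain ⟨h1, h2⟩ := hx
  obtain ⟨h3, h4⟩ := hy
  constructor
  · show (((x.m ^^^ y.s) ^^^ x.s) ||| ((x.s ^^^ y.m) ^^^ y.s)).testBit i = _
    rw [Nat.testBit_or, Nat.testBit_xor, Nat.testBit_xor, Nat.testBit_xor, Nat.testBit_xor, h1, h2, h3, h4]
    exact (dec_add u v).1
  · show ((x.m ^^^ y.s) &&& (x.s ^^^ y.m)).testBit i = _
    rw [Nat.testBit_and, Nat.testBit_xor, Nat.testBit_xor, h1, h2, h3, h4]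
    exact (dec_add u v).2

theorem dec_sub : ∀ u v : ZMod 3,
    (((decide (u ≠ 0)) ^^ (decide (v ≠ 0))) || ((decide (u = 2)) ^^ decide (v = 2))) = decide (u - v ≠ 0) ∧
    ((((decide (u ≠ 0)) ^^ (decide (v ≠ 0))) ^^ (decide (v = 2))) && ((decide (v ≠ 0)) ^^ decide (u = 2))) =
      decide (u - v = 2) := by decide

theorem Rt.sub {i : ℕ} {x y : T} {u v : ZMod 3} (hx : Rt i x u) (hy : Rt i y v) : Rt i (x.sub y) (u - v) := by
  obtain ⟨h1, h2⟩ := hx
  obtain ⟨h3, h4⟩ := hy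
  constructor
  · show ((x.m ^^^ y.m) ||| (x.s ^^^ y.s)).testBit i = _
    rw [Nat.testBit_or, Nat.testBit_xor, Nat.testBit_xor, h1, h2, h3, h4]
    exact (dec_sub u v).1
  · show (((x.m ^^^ y.m) ^^^ y.s) &&& (y.m ^^^ x.s)).testBit i = _
    rw [Nat.testBit_and, Nat.testBit_xor, Nat.testBit_xor, Nat.testBit_xor, h1, h2, h3, h4]
    exact (dec_sub u v).2

theorem dec_neg : ∀ u : ZMod 3, (decide (u ≠ 0)) = decide (-u ≠ 0) ∧
    ((decide (u ≠ 0)) ^^ (decide (u = 2))) = decide (-u = 2) := by decide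

theorem Rt.neg {i : ℕ} {x : T} {u : ZMod 3} (hx : Rt i x u) : Rt i x.neg (-u) := by
  obtain ⟨h1, h2⟩ := hx
  constructor
  · show x.m.testBit i = _
    rw [h1]
    exact (dec_neg u).1
  · show (x.m ^^^ x.s).testBit i = _
    rw [Nat.testBit_xor, h1, h2]
    exact (dec_neg u).2

theorem dec_mul : ∀ u v : ZMod 3,
    ((decide (u ≠ 0)) && (decide (v ≠ 0))) = decide (u * v ≠ 0) ∧
    (((decide (u ≠ 0)) && (decide (v ≠ 0))) && ((decide (u = 2)) ^^ decide (v = 2))) = decide (u * v = 2) := by decide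

theorem Rt.mul {i : ℕ} {x y : T} {u v : ZMod 3} (hx : Rt i x u) (hy : Rt i y v) : Rt i (x.mul y) (u * v) := by
  obtain ⟨h1, h2⟩ := hx
  obtain ⟨h3, h4⟩ := hy
  constructor
  · show (x.m &&& y.m).testBit i = _
    rw [Nat.testBit_and, h1, h3]
    exact (dec_mul u v).1
  · show ((x.m &&& y.m) &&& (x.s ^^^ y.s)).testBit i = _
    rw [Nat.testBit_and, Nat.testBit_and, Nat.testBit_xor, h1, h2, h3, h4]
    exact (dec_mul u v).2

end T

/-! ### elements of the field -/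

/-- a register of elements of `F₈₁` -/
structure Q where
  c0 : T
  c1 : T
  c2 : T
  c3 : T

/-- coefficients -/
structure K4 where
  c0 : ZMod 3
  c1 : ZMod 3
  c2 : ZMod 3
  c3 : ZMod 3

namespace Q

def zero : Q := ⟨.zero, .zero, .zero, .zero⟩

def add (X Y : Q) : Q := ⟨X.c0.add Y.c0, X.c1.add Y.c1, X.c2.add Y.c2, X.c3.add Y.c3⟩

def sub (X Y : Q) : Q := ⟨X.c0.sub Y.c0, X.c1.sub Y.c1, X.c2.sub Y.c2, X.c3.sub Y.c3⟩

def neg (X : Q) : Q := ⟨X.c0.neg, X.c1.neg, X.c2.neg, X.c3.neg⟩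

/-- third power -/
def frob (X : Q) : Q := ⟨X.c0, X.c3, X.c2.add X.c3, (X.c1.sub X.c2).add X.c3⟩

def mul (X Y : Q) : Q :=
  let p4 := ((X.c1.mul Y.c3).add (X.c2.mul Y.c2)).add (X.c3.mul Y.c1)
  let p5 := (X.c2.mul Y.c3).add (X.c3.mul Y.c2)
  let p6 := X.c3.mul Y.c3
  ⟨(X.c0.mul Y.c0).add p4,
    (((X.c0.mul Y.c1).add (X.c1.mul Y.c0)).sub p4).add p5,
    ((((X.c0.mul Y.c2).add (X.c1.mul Y.c1)).add (X.c2.mul Y.c0)).sub p5).add p6,
    ((((X.c0.mul Y.c3).add (X.c1.mul Y.c2)).add (X.c2.mul Y.c1)).add (X.c3.mul Y.c0)).sub p6⟩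

/-- mask of the nonzero lanes -/
def nz (X : Q) : ℕ := (X.c0.m ||| X.c1.m) ||| (X.c2.m ||| X.c3.m)

end Q

namespace K4

def mul (x y : K4) : K4 :=
  ⟨x.c0 * y.c0 + (x.c1 * y.c3 + x.c2 * y.c2 + x.c3 * y.c1),
    x.c0 * y.c1 + x.c1 * y.c0 - (x.c1 * y.c3 + x.c2 * y.c2 + x.c3 * y.c1) + (x.c2 * y.c3 + x.c3 * y.c2),
    x.c0 * y.c2 + x.c1 * y.c1 + x.c2 * y.c0 - (x.c2 * y.c3 + x.c3 * y.c2) + x.c3 * y.c3,
    x.c0 * y.c3 + x.c1 * y.c2 + x.c2 * y.c1 + x.c3 * y.c0 - x.c3 * y.c3⟩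

end K4

/-- lane `i` of `X` is `c` -/
def Rq (i : ℕ) (X : Q) (c : K4) : Prop := X.c0.Rt i c.c0 ∧ X.c1.Rt i c.c1 ∧ X.c2.Rt i c.c2 ∧ X.c3.Rt i c.c3

section field

variable {F : Type*} [Field F] [CharP F 3]

/-- the prime field -/
def io (F : Type*) [Field F] [CharP F 3] : ZMod 3 →+* F := ZMod.castHom (dvd_refl 3) F

/-- the element with the coefficients `c` -/
def toF (g : F) (c : K4) : F := io F c.c0 + io F c.c1 * g + io F c.c2 * g ^ 2 + io F c.c3 * g ^ 3

/-- lane `i` of `X` represents `u` -/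
def R (g : F) (i : ℕ) (X : Q) (u : F) : Prop := ∃ c : K4, Rq i X c ∧ u = toF g c

variable {g : F}

theorem three_eq_zero : (3 : F) = 0 := by
  have h := CharP.cast_eq_zero F 3
  exact_mod_cast h

theorem R.zero (i : ℕ) : R g i .zero 0 :=
  ⟨⟨0, 0, 0, 0⟩, ⟨T.Rt.zero i, T.Rt.zero i, T.Rt.zero i, T.Rt.zero i⟩, by simp [toF]⟩

variable {i : ℕ} {X Y : Q} {u v : F}

theorem R.add (hx : R g i X u) (hy : R g i Y v) : R g i (X.add Y) (u + v) := by
  obtain ⟨c, ⟨a0, a1, a2, a3⟩, rfl⟩ := hx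
  obtain ⟨d, ⟨b0, b1, b2, b3⟩, rfl⟩ := hy
  refine ⟨⟨c.c0 + d.c0, c.c1 + d.c1, c.c2 + d.c2, c.c3 + d.c3⟩, ⟨a0.add b0, a1.add b1, a2.add b2, a3.add b3⟩, ?_⟩
  simp only [toF, map_add]
  ring

theorem R.sub (hx : R g i X u) (hy : R g i Y v) : R g i (X.sub Y) (u - v) := by
  obtain ⟨c, ⟨a0, a1, a2, a3⟩, rfl⟩ := hx
  obtain ⟨d, ⟨b0, b1, b2, b3⟩, rfl⟩ := hy
  refine ⟨⟨c.c0 - d.c0, c.c1 - d.c1, c.c2 - d.c2, c.c3 - d.c3⟩, ⟨a0.sub b0, a1.sub b1, a2.sub b2, a3.sub b3⟩, ?_⟩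
  simp only [toF, map_sub]
  ring

theorem R.neg (hx : R g i X u) : R g i X.neg (-u) := by
  obtain ⟨c, ⟨a0, a1, a2, a3⟩, rfl⟩ := hx
  refine ⟨⟨-c.c0, -c.c1, -c.c2, -c.c3⟩, ⟨a0.neg, a1.neg, a2.neg, a3.neg⟩, ?_⟩
  simp only [toF, map_neg]
  ring

theorem toF_mul (hg : g ^ 4 = -g + 1) (c d : K4) : toF g (c.mul d) = toF g c * toF g d := by
  simp only [toF, K4.mul, map_add, map_sub, map_mul]
  linear_combination (-(io F c.c1 * io F d.c3 + io F c.c2 * io F d.c2 + io F c.c3 * io F d.c1) -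
    (io F c.c2 * io F d.c3 + io F c.c3 * io F d.c2) * g - io F c.c3 * io F d.c3 * g ^ 2) * hg

theorem R.mul (hg : g ^ 4 = -g + 1) (hx : R g i X u) (hy : R g i Y v) : R g i (X.mul Y) (u * v) := by
  obtain ⟨c, ⟨a0, a1, a2, a3⟩, rfl⟩ := hx
  obtain ⟨d, ⟨b0, b1, b2, b3⟩, rfl⟩ := hy
  refine ⟨c.mul d, ⟨?_, ?_, ?_, ?_⟩, (toF_mul hg c d).symm⟩
  · exact (a0.mul b0).add (((a1.mul b3).add (a2.mul b2)).add (a3.mul b1))
  · exact (((a0.mul b1).add (a1.mul b0)).sub (((a1.mul b3).add (a2.mul b2)).add (a3.mul b1))).add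
      ((a2.mul b3).add (a3.mul b2))
  · exact ((((a0.mul b2).add (a1.mul b1)).add (a2.mul b0)).sub ((a2.mul b3).add (a3.mul b2))).add (a3.mul b3)
  · exact ((((a0.mul b3).add (a1.mul b2)).add (a2.mul b1)).add (a3.mul b0)).sub (a3.mul b3)

theorem io_cube (a : ZMod 3) : (io F a) ^ 3 = io F a := by
  rw [← map_pow]
  congr 1
  revert a
  decide

theorem R.frob (hg : g ^ 4 = -g + 1) (hx : R g i X u) : R g i X.frob (u ^ 3) := by
  obtain ⟨c, ⟨a0, a1, a2, a3⟩, rfl⟩ := hx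
  refine ⟨⟨c.c0, c.c3, c.c2 + c.c3, c.c1 - c.c2 + c.c3⟩, ⟨a0, a3, a2.add a3, (a1.sub a2).add a3⟩, ?_⟩
  have : Fact (Nat.Prime 3) := ⟨by norm_num⟩
  have h6 : g ^ 6 = - g ^ 3 + g ^ 2 := by linear_combination g ^ 2 * hg
  have h9 : g ^ 9 = g ^ 3 + g ^ 2 + g := by
    have h3 := three_eq_zero (F := F)
    linear_combination (g ^ 5 - g ^ 2 + g) * hg + (- g ^ 2) * h3
  have key : toF g c ^ 3 = io F c.c0 + io F c.c1 * g ^ 3 + io F c.c2 * g ^ 6 + io F c.c3 * g ^ 9 := by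
    rw [toF, add_pow_char, add_pow_char, add_pow_char, mul_pow, mul_pow, mul_pow, io_cube, io_cube, io_cube, io_cube]
    ring
  rw [key, h6, h9]
  simp only [toF, map_add, map_sub]
  ring

/-! ### the zero test -/

/-- coefficients as a quadruple -/
abbrev P4 : Type := ZMod 3 × ZMod 3 × ZMod 3 × ZMod 3

/-- product of quadruples -/
def pmul (x y : P4) : P4 :=
  (x.1 * y.1 + (x.2.1 * y.2.2.2 + x.2.2.1 * y.2.2.1 + x.2.2.2 * y.2.1),
    x.1 * y.2.1 + x.2.1 * y.1 - (x.2.1 * y.2.2.2 + x.2.2.1 * y.2.2.1 + x.2.2.2 * y.2.1) +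
      (x.2.2.1 * y.2.2.2 + x.2.2.2 * y.2.2.1),
    x.1 * y.2.2.1 + x.2.1 * y.2.1 + x.2.2.1 * y.1 - (x.2.2.1 * y.2.2.2 + x.2.2.2 * y.2.2.1) + x.2.2.2 * y.2.2.2,
    x.1 * y.2.2.2 + x.2.1 * y.2.2.1 + x.2.2.1 * y.2.1 + x.2.2.2 * y.1 - x.2.2.2 * y.2.2.2)

set_option maxRecDepth 20000 in
theorem exists_pinv : ∀ x : P4, x ≠ 0 → ∃ y : P4, pmul x y = (1, 0, 0, 0) := by decide +kernel

theorem toF_eq_zero (hg : g ^ 4 = -g + 1) {c : K4} (h : toF g c = 0) : c.c0 = 0 ∧ c.c1 = 0 ∧ c.c2 = 0 ∧ c.c3 = 0 := by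
  by_contra hcon
  have h0 : ((c.c0, c.c1, c.c2, c.c3) : P4) ≠ 0 := by
    intro h1
    apply hcon
    simpa [Prod.ext_iff] using h1
  obtain ⟨y, hy⟩ := exists_pinv _ h0
  have h1 : K4.mul c ⟨y.1, y.2.1, y.2.2.1, y.2.2.2⟩ = ⟨1, 0, 0, 0⟩ := by
    simp only [pmul, Prod.mk.injEq] at hy
    obtain ⟨e0, e1, e2, e3⟩ := hy
    simp only [K4.mul]
    rw [e0, e1, e2, e3]
  have h2 := toF_mul hg c ⟨y.1, y.2.1, y.2.2.1, y.2.2.2⟩
  rw [h1, h, zero_mul] at h2
  simp [toF] at h2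

/-- **the zero test** -/
theorem R.nz (hg : g ^ 4 = -g + 1) (hx : R g i X u) (hu : u = 0) : X.nz.testBit i = false := by
  obtain ⟨c, ⟨a0, a1, a2, a3⟩, rfl⟩ := hx
  obtain ⟨e0, e1, e2, e3⟩ := toF_eq_zero hg hu
  rw [Q.nz, Nat.testBit_or, Nat.testBit_or, Nat.testBit_or, a0.1, a1.1, a2.1, a3.1, e0, e1, e2, e3]
  decide

end field

end Cfsg.Agent.H516.BS

private theorem dce_4654639cd5db : _root_.True := by
  try have : _root_.True := by simp only [_root_.Cfsg.Agent.H516.BS.pmul.eq_1]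
  try have : _root_.True := by simp only [_root_.Cfsg.Agent.H516.BS.io.congr_simp]
  try have : _root_.True := by simp only [_root_.Cfsg.Agent.H516.BS.K4.mul.eq_1]
  try have : _root_.True := by simp only [_root_.Cfsg.Agent.H516.BS.Q.nz.eq_1]
  try have : _root_.True := by simp only [_root_.Cfsg.Agent.H516.BS.toF.eq_1]
  try have : _root_.True := by simp only [_root_.Cfsg.Agent.H516.BS.T.zero.eq_1]
  exact _root_.True.intro
end

-- part: H728/BS/Prog
section
set_option linter.all false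
open scoped Cfsg.Agent.FastGrp

-- part: H728/BS/Raw
section
/-!
# Bit-sliced arithmetic in the field with 81 elements: raw kernel form of helper516's operations (helper728, S5925)
-/

set_option autoImplicit false

namespace Cfsg.Agent.H728.BS

open Cfsg.Agent.H516.BS

/-- Forcing: in the kernel the literal value of `n` is substituted in `k`. -/
def fc {α : Type} (n : Nat) (k : Nat → α) : α :=
  Nat.rec (motive := fun _ => α) (k 0) (fun m _ => k m) (Nat.succ n)

theorem fc_eq {α : Type} (n : Nat) (k : Nat → α) : fc n k = k n := rfl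

def tadd (x y : T) : T :=
  ⟨Nat.lor (Nat.xor (Nat.xor x.m y.s) x.s) (Nat.xor (Nat.xor x.s y.m) y.s),
    Nat.land (Nat.xor x.m y.s) (Nat.xor x.s y.m)⟩

def tsub (x y : T) : T :=
  ⟨Nat.lor (Nat.xor x.m y.m) (Nat.xor x.s y.s), Nat.land (Nat.xor (Nat.xor x.m y.m) y.s) (Nat.xor y.m x.s)⟩

def tneg (x : T) : T := ⟨x.m, Nat.xor x.m x.s⟩

def tmul (x y : T) : T := ⟨Nat.land x.m y.m, Nat.land (Nat.land x.m y.m) (Nat.xor x.s y.s)⟩

def qadd (X Y : Q) : Q := ⟨tadd X.c0 Y.c0, tadd X.c1 Y.c1, tadd X.c2 Y.c2, tadd X.c3 Y.c3⟩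

def qsub (X Y : Q) : Q := ⟨tsub X.c0 Y.c0, tsub X.c1 Y.c1, tsub X.c2 Y.c2, tsub X.c3 Y.c3⟩

def qneg (X : Q) : Q := ⟨tneg X.c0, tneg X.c1, tneg X.c2, tneg X.c3⟩

def qfrob (X : Q) : Q := ⟨X.c0, X.c3, tadd X.c2 X.c3, tadd (tsub X.c1 X.c2) X.c3⟩

def p4 (X Y : Q) : T := tadd (tadd (tmul X.c1 Y.c3) (tmul X.c2 Y.c2)) (tmul X.c3 Y.c1)

def p5 (X Y : Q) : T := tadd (tmul X.c2 Y.c3) (tmul X.c3 Y.c2)

def qmul (X Y : Q) : Q :=
  ⟨tadd (tmul X.c0 Y.c0) (p4 X Y),
    tadd (tsub (tadd (tmul X.c0 Y.c1) (tmul X.c1 Y.c0)) (p4 X Y)) (p5 X Y),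
    tadd (tsub (tadd (tadd (tmul X.c0 Y.c2) (tmul X.c1 Y.c1)) (tmul X.c2 Y.c0)) (p5 X Y)) (tmul X.c3 Y.c3),
    tsub (tadd (tadd (tadd (tmul X.c0 Y.c3) (tmul X.c1 Y.c2)) (tmul X.c2 Y.c1)) (tmul X.c3 Y.c0)) (tmul X.c3 Y.c3)⟩

/-- Forcing of all planes. -/
def fo {α : Type} (x : Q) (k : Q → α) : α :=
  fc x.c0.m fun a0 => fc x.c0.s fun b0 => fc x.c1.m fun a1 => fc x.c1.s fun b1 =>
    fc x.c2.m fun a2 => fc x.c2.s fun b2 => fc x.c3.m fun a3 => fc x.c3.s fun b3 =>
      k ⟨⟨a0, b0⟩, ⟨a1, b1⟩, ⟨a2, b2⟩, ⟨a3, b3⟩⟩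

/-- The lanes where the value is not zero. -/
def qnz (x : Q) : Nat := Nat.lor (Nat.lor x.c0.m x.c1.m) (Nat.lor x.c2.m x.c3.m)

end Cfsg.Agent.H728.BS
end

-- part: H728/BS/Prog
section
/-!
# Bit-sliced programs over the field with 81 elements (helper728, S5925)

`Ex` : expressions in variables `v 0, v 1, …` over `F₈₁ = F₃[g]`, `g ^ 4 = -g + 1`;
`chk N ts defs cs exc` : kernel check: on the `N` lanes of the table `ts` (trit inputs `v 0 … v (n-1)`), with
`v (n + j) := defs[j]`, every lane where all the constraints `cs` vanish is in the list `exc`.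
-/

set_option autoImplicit false

namespace Cfsg.Agent.H728.BS

open Cfsg.Agent.H516.BS

/-- Expressions. -/
inductive Ex
  | v (i : ℕ)
  | pw (n : ℕ)
  | add (x y : Ex)
  | sub (x y : Ex)
  | neg (x : Ex)
  | mul (x y : Ex)
  | fr (x : Ex)

/-- The value of an expression: `pw n` is `g ^ n`, `fr x` is `x ^ 3`. -/
def Ex.eval {F : Type*} [Field F] (g : F) (v : ℕ → F) : Ex → F
  | .v i => v i
  | .pw n => g ^ n
  | .add x y => x.eval g v + y.eval g v
  | .sub x y => x.eval g v - y.eval g v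
  | .neg x => - x.eval g v
  | .mul x y => x.eval g v * y.eval g v
  | .fr x => x.eval g v ^ 3

/-- The element of a list, last-in first. -/
def getr (rs : List Q) (n : ℕ) : Q :=
  List.rec (motive := fun _ => ℕ → Q) (fun _ => ⟨⟨0, 0⟩, ⟨0, 0⟩, ⟨0, 0⟩, ⟨0, 0⟩⟩)
    (fun h _ ih n => Nat.rec (motive := fun _ => Q) h (fun m _ => ih m) n) rs n

/-- The planes of a constant trit. -/
def tc (O c : ℕ) : T :=
  Nat.rec (motive := fun _ => T) ⟨0, 0⟩ (fun k _ => Nat.rec (motive := fun _ => T) ⟨O, 0⟩ (fun _ _ => ⟨O, O⟩) k) c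

/-- The coefficients of `g ^ n` (codes 0, 1, 2). -/
def gp (n : ℕ) : ℕ × ℕ × ℕ × ℕ :=
  Nat.rec (motive := fun _ => ℕ × ℕ × ℕ × ℕ) (1, 0, 0, 0)
    (fun _ p => (p.2.2.2, Nat.mod (Nat.add p.1 (Nat.mul 2 p.2.2.2)) 3, p.2.1, p.2.2.1)) n

def qpw (O n : ℕ) : Q := ⟨tc O (gp n).1, tc O (gp n).2.1, tc O (gp n).2.2.1, tc O (gp n).2.2.2⟩

/-- Evaluation on planes. -/
noncomputable def ev (O L : ℕ) (rs : List Q) (e : Ex) : (Q → Bool) → Bool :=
  Ex.rec (motive := fun _ => (Q → Bool) → Bool)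
    (fun j k => Bool.rec (motive := fun _ => Bool) false (k (getr rs (Nat.sub L (Nat.succ j)))) (Nat.ble (Nat.succ j) L))
    (fun n k => fo (qpw O n) k)
    (fun _ _ x y k => x fun X => y fun Y => fo (qadd X Y) k)
    (fun _ _ x y k => x fun X => y fun Y => fo (qsub X Y) k)
    (fun _ x k => x fun X => fo (qneg X) k)
    (fun _ _ x y k => x fun X => y fun Y => fo (qmul X Y) k)
    (fun _ x k => x fun X => fo (qfrob X) k) e

theorem ev_v (O L : ℕ) (rs : List Q) (j : ℕ) (k : Q → Bool) :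
    ev O L rs (.v j) k = Bool.rec (motive := fun _ => Bool) false (k (getr rs (Nat.sub L (Nat.succ j))))
      (Nat.ble (Nat.succ j) L) := rfl
theorem ev_add (O L : ℕ) (rs : List Q) (x y : Ex) (k : Q → Bool) :
    ev O L rs (.add x y) k = ev O L rs x fun X => ev O L rs y fun Y => k (X.add Y) := rfl
theorem ev_sub (O L : ℕ) (rs : List Q) (x y : Ex) (k : Q → Bool) :
    ev O L rs (.sub x y) k = ev O L rs x fun X => ev O L rs y fun Y => k (X.sub Y) := rfl
theorem ev_neg (O L : ℕ) (rs : List Q) (x : Ex) (k : Q → Bool) :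
    ev O L rs (.neg x) k = ev O L rs x fun X => k (X.neg) := rfl
theorem ev_mul (O L : ℕ) (rs : List Q) (x y : Ex) (k : Q → Bool) :
    ev O L rs (.mul x y) k = ev O L rs x fun X => ev O L rs y fun Y => k (X.mul Y) := rfl
theorem ev_fr (O L : ℕ) (rs : List Q) (x : Ex) (k : Q → Bool) :
    ev O L rs (.fr x) k = ev O L rs x fun X => k (X.frob) := rfl

/-- Running the definitions. -/
noncomputable def run (O : ℕ) (ds : List Ex) : ℕ → List Q → (ℕ → List Q → Bool) → Bool :=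
  List.rec (motive := fun _ => ℕ → List Q → (ℕ → List Q → Bool) → Bool) (fun L rs k => k L rs)
    (fun d _ ih L rs k => ev O L rs d fun X => fc (Nat.succ L) fun L' => ih L' (X :: rs) k) ds

theorem run_cons (O L : ℕ) (rs : List Q) (k : ℕ → List Q → Bool) (d : Ex) (ds : List Ex) :
    run O (d :: ds) L rs k = ev O L rs d fun X => run O ds (L + 1) (X :: rs) k := rfl

/-- Running the constraints. -/
noncomputable def cons (O L : ℕ) (rs : List Q) (cs : List Ex) : ℕ → (ℕ → Bool) → Bool :=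
  List.rec (motive := fun _ => ℕ → (ℕ → Bool) → Bool) (fun acc k => k acc)
    (fun c _ ih acc k => ev O L rs c fun X => fc (Nat.lor acc (qnz X)) fun a => ih a k) cs

/-- Loading the inputs. -/
def ini (ts : List T) : ℕ → List Q → (ℕ → List Q → Bool) → Bool :=
  List.rec (motive := fun _ => ℕ → List Q → (ℕ → List Q → Bool) → Bool) (fun L rs k => k L rs)
    (fun t _ ih L rs k => fc t.m fun a => fc t.s fun b => fc (Nat.succ L) fun L' =>
      ih L' (⟨⟨a, b⟩, ⟨0, 0⟩, ⟨0, 0⟩, ⟨0, 0⟩⟩ :: rs) k) ts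

theorem ini_cons (t : T) (ts : List T) (L : ℕ) (rs : List Q) (k : ℕ → List Q → Bool) :
    ini (t :: ts) L rs k = ini ts (L + 1) (⟨t, .zero, .zero, .zero⟩ :: rs) k := rfl

section sound

variable {F : Type*} [Field F] [CharP F 3] {g : F} {i : ℕ} {v : ℕ → F}

/-- The registers represent the variables in lane `i`. -/
def Good (g : F) (i : ℕ) (v : ℕ → F) (L : ℕ) (rs : List Q) : Prop :=
  ∀ j < L, R g i (getr rs (L - (j + 1))) (v j)

theorem getr_zero (X : Q) (rs : List Q) : getr (X :: rs) 0 = X := rfl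

theorem getr_succ (X : Q) (rs : List Q) (n : ℕ) : getr (X :: rs) (n + 1) = getr rs n := rfl

theorem Good.nil : Good g i v 0 [] := fun _ h => absurd h (Nat.not_lt_zero _)

theorem Good.cons {L : ℕ} {rs : List Q} (h : Good g i v L rs) {X : Q} (hX : R g i X (v L)) :
    Good g i v (L + 1) (X :: rs) := by
  intro j hj
  rcases Nat.lt_succ_iff_lt_or_eq.1 hj with h1 | h1
  · have : L + 1 - (j + 1) = (L - (j + 1)) + 1 := by omega
    rw [this, getr_succ]
    exact h j h1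
  · subst h1
    rw [Nat.sub_self, getr_zero]
    exact hX

theorem rt_tc {O : ℕ} (hO : O.testBit i = true) {c : ℕ} (hc : c < 3) : T.Rt i (tc O c) (c : ZMod 3) := by
  have h : c = 0 ∨ c = 1 ∨ c = 2 := by omega
  rcases h with rfl | rfl | rfl
  · exact T.Rt.zero i
  · refine ⟨?_, ?_⟩
    · show O.testBit i = _
      rw [hO]
      decide
    · show (0 : ℕ).testBit i = _
      rw [Nat.zero_testBit]
      decide
  · refine ⟨?_, ?_⟩
    · show O.testBit i = _
      rw [hO]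
      decide
    · show O.testBit i = _
      rw [hO]
      decide

theorem gp_succ (n : ℕ) : gp (n + 1) = ((gp n).2.2.2, ((gp n).1 + 2 * (gp n).2.2.2) % 3, (gp n).2.1, (gp n).2.2.1) := rfl

theorem gp_lt (n : ℕ) : (gp n).1 < 3 ∧ (gp n).2.1 < 3 ∧ (gp n).2.2.1 < 3 ∧ (gp n).2.2.2 < 3 := by
  induction n with
  | zero => decide
  | succ n ih =>
    rw [gp_succ]
    exact ⟨ih.2.2.2, Nat.mod_lt _ (by norm_num), ih.2.1, ih.2.2.1⟩

theorem gp_toF (hg : g ^ 4 = -g + 1) (n : ℕ) :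
    toF g ⟨((gp n).1 : ZMod 3), ((gp n).2.1 : ZMod 3), ((gp n).2.2.1 : ZMod 3), ((gp n).2.2.2 : ZMod 3)⟩ = g ^ n := by
  induction n with
  | zero =>
    show toF g ⟨((1 : ℕ) : ZMod 3), ((0 : ℕ) : ZMod 3), ((0 : ℕ) : ZMod 3), ((0 : ℕ) : ZMod 3)⟩ = g ^ 0
    simp [toF]
  | succ n ih =>
    have e : (((((gp n).1 + 2 * (gp n).2.2.2) % 3 : ℕ)) : ZMod 3) = (gp n).1 - (gp n).2.2.2 := by
      rw [ZMod.natCast_mod]
      push_cast
      have h3 : (3 : ZMod 3) = 0 := by decide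
      linear_combination ((gp n).2.2.2 : ZMod 3) * h3
    rw [gp_succ, pow_succ, ← ih]
    simp only [toF, e, map_sub]
    linear_combination -(io F ((gp n).2.2.2 : ZMod 3)) * hg

theorem R_pw (hg : g ^ 4 = -g + 1) {O : ℕ} (hO : O.testBit i = true) (n : ℕ) : R g i (qpw O n) (g ^ n) := by
  refine ⟨⟨((gp n).1 : ZMod 3), ((gp n).2.1 : ZMod 3), ((gp n).2.2.1 : ZMod 3), ((gp n).2.2.2 : ZMod 3)⟩,
    ⟨rt_tc hO (gp_lt n).1, rt_tc hO (gp_lt n).2.1, rt_tc hO (gp_lt n).2.2.1, rt_tc hO (gp_lt n).2.2.2⟩,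
    (gp_toF hg n).symm⟩

theorem ev_sound (hg : g ^ 4 = -g + 1) {O L : ℕ} {rs : List Q} (hO : O.testBit i = true) (hr : Good g i v L rs) :
    ∀ (e : Ex) (k : Q → Bool), ev O L rs e k = true → ∃ X, R g i X (e.eval g v) ∧ k X = true := by
  intro e
  induction e with
  | v j =>
    intro k h
    rw [ev_v] at h
    by_cases hj : Nat.ble (Nat.succ j) L = true
    · rw [hj] at h
      exact ⟨_, hr j (Nat.le_of_ble_eq_true hj), h⟩
    · rw [Bool.not_eq_true] at hj
      rw [hj] at h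
      exact absurd (show false = true from h) (by decide)
  | pw n =>
    intro k h
    exact ⟨_, R_pw hg hO n, h⟩
  | add x y ihx ihy =>
    intro k h
    rw [ev_add] at h
    obtain ⟨X, hX, h⟩ := ihx _ h
    obtain ⟨Y, hY, h⟩ := ihy _ h
    exact ⟨_, hX.add hY, h⟩
  | sub x y ihx ihy =>
    intro k h
    rw [ev_sub] at h
    obtain ⟨X, hX, h⟩ := ihx _ h
    obtain ⟨Y, hY, h⟩ := ihy _ h
    exact ⟨_, hX.sub hY, h⟩
  | neg x ihx =>
    intro k h
    rw [ev_neg] at h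
    obtain ⟨X, hX, h⟩ := ihx _ h
    exact ⟨_, hX.neg, h⟩
  | mul x y ihx ihy =>
    intro k h
    rw [ev_mul] at h
    obtain ⟨X, hX, h⟩ := ihx _ h
    obtain ⟨Y, hY, h⟩ := ihy _ h
    exact ⟨_, hX.mul hg hY, h⟩
  | fr x ihx =>
    intro k h
    rw [ev_fr] at h
    obtain ⟨X, hX, h⟩ := ihx _ h
    exact ⟨_, hX.frob hg, h⟩

/-- The definitions hold. -/
def Defs (g : F) (v : ℕ → F) : ℕ → List Ex → Prop
  | _, [] => True
  | L, d :: ds => v L = d.eval g v ∧ Defs g v (L + 1) ds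

theorem run_sound (hg : g ^ 4 = -g + 1) {O : ℕ} (hO : O.testBit i = true) :
    ∀ (ds : List Ex) (L : ℕ) (rs : List Q) (k : ℕ → List Q → Bool), Good g i v L rs → Defs g v L ds →
      run O ds L rs k = true → ∃ L' rs', Good g i v L' rs' ∧ k L' rs' = true := by
  intro ds
  induction ds with
  | nil =>
    intro L rs k hr _ h
    exact ⟨L, rs, hr, h⟩
  | cons d ds ih =>
    intro L rs k hr hd h
    rw [run_cons] at h
    obtain ⟨X, hX, h⟩ := ev_sound hg hO hr _ _ h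
    rw [← hd.1] at hX
    exact ih (L + 1) (X :: rs) k (hr.cons hX) hd.2 h

/-- Lane `i` of the table gives the values of the first variables. -/
def Lane (F : Type*) [Field F] [CharP F 3] (i : ℕ) (v : ℕ → F) : ℕ → List T → Prop
  | _, [] => True
  | L, t :: ts => (∃ c : ZMod 3, v L = io F c ∧ t.Rt i c) ∧ Lane F i v (L + 1) ts

theorem ini_sound :
    ∀ (ts : List T) (L : ℕ) (rs : List Q) (k : ℕ → List Q → Bool), Good g i v L rs → Lane F i v L ts →
      ini ts L rs k = true → ∃ rs', Good g i v (L + ts.length) rs' ∧ k (L + ts.length) rs' = true := by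
  intro ts
  induction ts with
  | nil =>
    intro L rs k hr _ h
    exact ⟨rs, hr, h⟩
  | cons t ts ih =>
    intro L rs k hr ht h
    rw [ini_cons] at h
    obtain ⟨⟨c, hc, hR⟩, ht⟩ := ht
    have hX : R g i ⟨t, .zero, .zero, .zero⟩ (v L) :=
      ⟨⟨c, 0, 0, 0⟩, ⟨hR, T.Rt.zero i, T.Rt.zero i, T.Rt.zero i⟩, by simp [toF, hc]⟩
    have h1 := ih (L + 1) _ k (hr.cons hX) ht h
    rw [show L + 1 + ts.length = L + (t :: ts).length by simp; omega] at h1
    exact h1

end sound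

end Cfsg.Agent.H728.BS
end
end

-- part: H728/PM/Run
section
prune_inst 0x352041006522020800002594330020246400019000200000e8a00f440b09e302894201003a90340000ceb28058080000001000d0024000000e0034000003012080ab12063050ae041e001f808084000000000000000000000000000000000004000000000
set_option linter.all false
open scoped Cfsg.Agent.FastGrp

-- part: H728/BS/Tab
section
/-!
# Lane tables for bit-sliced programs (helper728, S5925)
-/

set_option autoImplicit false

namespace Cfsg.Agent.H728.BS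

open Cfsg.Agent.H516.BS

/-- Base 3 digit. -/
def dg (w j : ℕ) : ℕ := Nat.mod (Nat.div w (Nat.pow 3 j)) 3

/-- Repunit: `b` ones at distance `P`. -/
def rpu (P b : ℕ) : ℕ := Nat.div (Nat.sub (Nat.pow 2 (Nat.mul P b)) 1) (Nat.sub (Nat.pow 2 P) 1)

theorem rpu_zero {P : ℕ} : rpu P 0 = 0 := by
  show (2 ^ (P * 0) - 1) / (2 ^ P - 1) = 0
  simp

theorem rpu_mul {P : ℕ} (hP : 0 < P) (b : ℕ) : ∃ s, s * (2 ^ P - 1) = 2 ^ (P * b) - 1 ∧ rpu P b = s := by
  have h1 : 1 < 2 ^ P := Nat.one_lt_two_pow (by omega)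
  have hd : 2 ^ P - 1 ∣ 2 ^ (P * b) - 1 := by
    rw [pow_mul]
    simpa using Nat.sub_dvd_pow_sub_pow (2 ^ P) 1 b
  obtain ⟨s, hs⟩ := hd
  refine ⟨s, by rw [hs, mul_comm], ?_⟩
  show (2 ^ (P * b) - 1) / (2 ^ P - 1) = s
  rw [hs, Nat.mul_div_cancel_left _ (by omega)]

theorem rpu_succ {P : ℕ} (hP : 0 < P) (b : ℕ) : rpu P (b + 1) = 2 ^ (P * b) + rpu P b := by
  obtain ⟨s, hs, h1⟩ := rpu_mul hP b
  obtain ⟨s', hs', h2⟩ := rpu_mul hP (b + 1)
  rw [h1, h2]
  have h3 : 1 < 2 ^ P := Nat.one_lt_two_pow (by omega)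
  have h4 : 0 < 2 ^ P - 1 := by omega
  apply Nat.eq_of_mul_eq_mul_right h4
  rw [hs', add_mul, hs]
  have h5 : 0 < 2 ^ (P * b) := by positivity
  have h6 : 2 ^ (P * (b + 1)) = 2 ^ (P * b) * 2 ^ P := by rw [mul_add, mul_one, pow_add]
  rw [h6, Nat.mul_sub, mul_one]
  have h7 : 2 ^ (P * b) * 1 ≤ 2 ^ (P * b) * 2 ^ P := Nat.mul_le_mul_left _ (by omega)
  omega

theorem tile_lt {P : ℕ} (hP : 0 < P) {a : ℕ} (ha : a < 2 ^ P) (b : ℕ) : a * rpu P b < 2 ^ (P * b) := by
  induction b with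
  | zero => rw [rpu_zero]; simp
  | succ b ih =>
    rw [rpu_succ hP, mul_add, mul_add, mul_one, pow_add]
    have h : a * 2 ^ (P * b) ≤ (2 ^ P - 1) * 2 ^ (P * b) := Nat.mul_le_mul_right _ (by omega)
    have h2 : 1 < 2 ^ P := Nat.one_lt_two_pow (by omega)
    have h3 : (2 ^ P - 1) * 2 ^ (P * b) + 2 ^ (P * b) = 2 ^ (P * b) * 2 ^ P := by
      obtain ⟨c, hc⟩ : ∃ c, 2 ^ P = c + 1 := ⟨2 ^ P - 1, by omega⟩
      rw [hc, Nat.add_sub_cancel]
      ring
    omega

theorem tile_testBit {P : ℕ} (hP : 0 < P) {a : ℕ} (ha : a < 2 ^ P) (b i t : ℕ) (hi : i < P) (ht : t < b) :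
    (a * rpu P b).testBit (i + P * t) = a.testBit i := by
  induction b with
  | zero => omega
  | succ b ih =>
    rw [rpu_succ hP, mul_add, mul_comm a (2 ^ (P * b)), Nat.testBit_two_pow_mul_add _ (tile_lt hP ha b)]
    rcases Nat.lt_succ_iff_lt_or_eq.1 ht with h | h
    · have h1 : P * t + P ≤ P * b := by
        rw [← Nat.mul_succ]
        exact Nat.mul_le_mul_left _ h
      rw [if_pos (by omega)]
      exact ih h
    · subst h
      rw [if_neg (by omega), Nat.add_sub_cancel]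

/-- Block pattern: ones in `[lo, hi)`. -/
def blk (lo hi : ℕ) : ℕ := Nat.mul (Nat.sub (Nat.pow 2 (Nat.sub hi lo)) 1) (Nat.pow 2 lo)

theorem blk_testBit {lo hi : ℕ} (i : ℕ) (h : lo ≤ hi) : (blk lo hi).testBit i = decide (lo ≤ i ∧ i < hi) := by
  show ((2 ^ (hi - lo) - 1) * 2 ^ lo).testBit i = _
  rw [Nat.testBit_mul_two_pow, Nat.testBit_two_pow_sub_one, ← Bool.decide_and]
  congr 1
  apply propext
  omega

theorem blk_lt {lo hi : ℕ} (h : lo ≤ hi) : blk lo hi < 2 ^ hi := by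
  show (2 ^ (hi - lo) - 1) * 2 ^ lo < 2 ^ hi
  have h1 : 2 ^ hi = 2 ^ (hi - lo) * 2 ^ lo := by rw [← pow_add]; congr 1; omega
  rw [h1]
  apply Nat.mul_lt_mul_of_pos_right _ (by positivity)
  have : 0 < 2 ^ (hi - lo) := by positivity
  omega

/-- The planes of digit `j` of `t` on the lanes `i + n0 * t`, `t < 3 ^ k`. -/
def dgp (n0 k j : ℕ) : T :=
  ⟨Nat.mul (blk (Nat.mul n0 (Nat.pow 3 j)) (Nat.mul n0 (Nat.pow 3 (Nat.succ j))))
      (rpu (Nat.mul n0 (Nat.pow 3 (Nat.succ j))) (Nat.pow 3 (Nat.sub k (Nat.succ j)))),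
    Nat.mul (blk (Nat.mul 2 (Nat.mul n0 (Nat.pow 3 j))) (Nat.mul n0 (Nat.pow 3 (Nat.succ j))))
      (rpu (Nat.mul n0 (Nat.pow 3 (Nat.succ j))) (Nat.pow 3 (Nat.sub k (Nat.succ j))))⟩

theorem dgp_rt {n0 k j i t : ℕ} (hi : i < n0) (hj : j < k) (ht : t < 3 ^ k) :
    (dgp n0 k j).Rt (i + n0 * t) ((dg t j : ℕ) : ZMod 3) := by
  have hn0 : 0 < n0 := by omega
  set B := n0 * 3 ^ j with hB
  have hBpos : 0 < B := by positivity
  have hP : n0 * 3 ^ (j + 1) = 3 * B := by rw [hB, pow_succ]; ring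
  have hPpos : 0 < n0 * 3 ^ (j + 1) := by positivity
  -- position
  set q := t / 3 ^ (j + 1) with hq
  set r := t % 3 ^ (j + 1) with hr
  have htq : t = 3 ^ (j + 1) * q + r := (Nat.div_add_mod t _).symm
  have hrlt : r < 3 ^ (j + 1) := Nat.mod_lt _ (by positivity)
  have hqlt : q < 3 ^ (k - (j + 1)) := by
    apply Nat.div_lt_of_lt_mul
    rw [← pow_add]
    have : j + 1 + (k - (j + 1)) = k := by omega
    rwa [this]
  have hpos : i + n0 * t = (i + n0 * r) + n0 * 3 ^ (j + 1) * q := by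
    rw [htq]
    ring
  have hlt : i + n0 * r < n0 * 3 ^ (j + 1) := by
    have : n0 * (r + 1) ≤ n0 * 3 ^ (j + 1) := Nat.mul_le_mul_left _ hrlt
    rw [mul_add, mul_one] at this
    omega
  have hd : dg t j = r / 3 ^ j := by
    show t / 3 ^ j % 3 = r / 3 ^ j
    have h1 : t / 3 ^ j = 3 * q + r / 3 ^ j := by
      have h2 : t = 3 ^ j * (3 * q) + r := by
        conv_lhs => rw [htq]
        rw [pow_succ]
        ring
      conv_lhs => rw [h2]
      rw [Nat.mul_add_div (by positivity)]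
    have h3 : r / 3 ^ j < 3 := by
      apply Nat.div_lt_of_lt_mul
      rw [← pow_succ]
      exact hrlt
    rw [h1, Nat.mul_add_mod, Nat.mod_eq_of_lt h3]
  -- comparison of i + n0 * r with multiples of B
  have hcmp : ∀ c : ℕ, (c * B ≤ i + n0 * r ↔ c ≤ r / 3 ^ j) := by
    intro c
    rw [Nat.le_div_iff_mul_le (by positivity)]
    constructor
    · intro h
      by_contra hcon
      have h1 : r + 1 ≤ c * 3 ^ j := by omega
      have h2 : n0 * (r + 1) ≤ n0 * (c * 3 ^ j) := Nat.mul_le_mul_left _ h1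
      have h3 : c * B = n0 * (c * 3 ^ j) := by rw [hB]; ring
      rw [mul_add, mul_one] at h2
      omega
    · intro h
      have h2 : n0 * (c * 3 ^ j) ≤ n0 * r := Nat.mul_le_mul_left _ h
      have h3 : c * B = n0 * (c * 3 ^ j) := by rw [hB]; ring
      omega
  have hr3 : r / 3 ^ j < 3 := by
    apply Nat.div_lt_of_lt_mul
    rw [← pow_succ]
    exact hrlt
  constructor
  · show ((blk (n0 * 3 ^ j) (n0 * 3 ^ (j + 1))) * (rpu (n0 * 3 ^ (j + 1)) (3 ^ (k - (j + 1))))).testBit _ = _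
    rw [hpos, tile_testBit hPpos (blk_lt (by rw [hP]; omega)) _ _ _ hlt hqlt, blk_testBit _ (by rw [hP]; omega), hd]
    have h1 := hcmp 1
    rw [one_mul] at h1
    have h2 : r / 3 ^ j = 0 ∨ r / 3 ^ j = 1 ∨ r / 3 ^ j = 2 := by omega
    rcases h2 with h2 | h2 | h2 <;> rw [h2] at h1 ⊢
    · rw [decide_eq_false (by rw [← hB]; omega)]
      decide
    · rw [decide_eq_true (by rw [← hB]; omega)]
      decide
    · rw [decide_eq_true (by rw [← hB]; omega)]
      decide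
  · show ((blk (2 * (n0 * 3 ^ j)) (n0 * 3 ^ (j + 1))) * (rpu (n0 * 3 ^ (j + 1)) (3 ^ (k - (j + 1))))).testBit _ = _
    rw [hpos, tile_testBit hPpos (blk_lt (by rw [hP]; omega)) _ _ _ hlt hqlt, blk_testBit _ (by rw [hP]; omega), hd]
    have h1 := hcmp 2
    have h2 : r / 3 ^ j = 0 ∨ r / 3 ^ j = 1 ∨ r / 3 ^ j = 2 := by omega
    rcases h2 with h2 | h2 | h2 <;> rw [h2] at h1 ⊢
    · rw [decide_eq_false (by rw [← hB]; omega)]
      decide
    · rw [decide_eq_false (by rw [← hB]; omega)]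
      decide
    · rw [decide_eq_true (by rw [← hB]; omega)]
      decide

theorem exists_digits (d : ℕ → ℕ) (hd : ∀ j, d j < 3) (k : ℕ) : ∃ t < 3 ^ k, ∀ j < k, dg t j = d j := by
  induction k with
  | zero => exact ⟨0, by norm_num, fun j hj => absurd hj (Nat.not_lt_zero _)⟩
  | succ k ih =>
    obtain ⟨t, ht, h⟩ := ih
    refine ⟨t + 3 ^ k * d k, ?_, ?_⟩
    · have := hd k
      have h1 : 3 ^ k * d k ≤ 3 ^ k * 2 := Nat.mul_le_mul_left _ (by omega)
      rw [pow_succ]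
      omega
    · intro j hj
      show (t + 3 ^ k * d k) / 3 ^ j % 3 = d j
      rcases Nat.lt_succ_iff_lt_or_eq.1 hj with h1 | h1
      · have h2 : 3 ^ k * d k = 3 ^ j * (3 * (3 ^ (k - j - 1) * d k)) := by
          have : 3 ^ k = 3 ^ j * (3 * 3 ^ (k - j - 1)) := by
            rw [← pow_succ', ← pow_add]
            congr 1
            omega
          rw [this]
          ring
        rw [h2, Nat.add_mul_div_left _ _ (by positivity), Nat.add_mul_mod_self_left]
        exact h j h1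
      · subst h1
        rw [Nat.add_mul_div_left _ _ (by positivity), Nat.div_eq_of_lt ht, zero_add, Nat.mod_eq_of_lt (hd j)]

end Cfsg.Agent.H728.BS
end

-- part: H516/BS/Compact
section
/-!
# Compaction of lanes (helper516, S5925): a network of `log` shifts computed in the kernel from the mask
-/

set_option autoImplicit false
set_option linter.unusedSectionVars false

namespace Cfsg.Agent.H516.BS.C

open Cfsg.Agent.H728.BS

/-! ### the network -/

/-- One step : the lanes of `a` stay, the lanes of `b` take the value of `s` lanes above. -/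
def st (s a b X : ℕ) : ℕ := Nat.lor (Nat.land X a) (Nat.land (Nat.shiftRight X s) b)

theorem st_testBit (s a b X j : ℕ) :
    (st s a b X).testBit j = ((X.testBit j && a.testBit j) || (X.testBit (s + j) && b.testBit j)) := by
  show ((X &&& a) ||| ((X >>> s) &&& b)).testBit j = _
  rw [Nat.testBit_or, Nat.testBit_and, Nat.testBit_and, Nat.testBit_shiftRight]

/-- The steps of a network. -/
inductive Sl
  | nil
  | cons (s a b : ℕ) (tl : Sl)

/-- Parallel prefix parity. -/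
noncomputable def pp (K : ℕ) : ℕ → ℕ → ℕ :=
  Nat.rec (motive := fun _ => ℕ → ℕ → ℕ) (fun _ x => x)
    (fun _ ih s x => fc (Nat.xor x (Nat.shiftLeft x s)) fun x' => fc (Nat.mul 2 s) fun s' => ih s' x') K

/-- The network of a mask. -/
noncomputable def gen (K0 K : ℕ) : ℕ → ℕ → ℕ → (Sl → ℕ → Bool) → Bool :=
  Nat.rec (motive := fun _ => ℕ → ℕ → ℕ → (Sl → ℕ → Bool) → Bool)
    (fun _ M _ k => k Sl.nil M)
    (fun _ ih s M mk k =>
      fc (pp K0 1 mk) fun mp =>
      fc (Nat.land mp M) fun mv =>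
      fc (Nat.shiftRight mv s) fun b =>
      fc (Nat.xor M mv) fun a =>
      fc (Nat.xor mk (Nat.land mk mp)) fun mk' =>
      fc (Nat.mul 2 s) fun s' =>
      Bool.rec (motive := fun _ => Bool) false
        (Bool.rec (motive := fun _ => Bool) false
          (fc (Nat.lor a b) fun M' => ih s' M' mk' fun l Mf => k (Sl.cons s a b l) Mf)
          (Nat.beq (Nat.land a b) 0))
        (Nat.beq (Nat.shiftLeft b s) mv)) K

theorem brec_true {b c : Bool} (h : Bool.rec (motive := fun _ => Bool) false c b = true) : b = true ∧ c = true := by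
  cases b
  · exact absurd h (by simp)
  · exact ⟨rfl, h⟩

/-- The network of the mask `M` (mask of `N` lanes), and its final mask (`K` is the number of bits of `N`). -/
noncomputable def net (N K M : ℕ) (k : Sl → ℕ → Bool) : Bool :=
  fc (Nat.shiftLeft (Nat.xor (Nat.sub (Nat.pow 2 N) 1) M) 1) fun mk => gen K K 1 M mk k

/-- The position of the first bit of `X < 2 ^ 2 ^ K`. -/
noncomputable def bl (X K : ℕ) : ℕ → ℕ :=
  Nat.rec (motive := fun _ => ℕ → ℕ) (fun acc => acc)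
    (fun K ih acc => fc (Nat.add acc (Nat.pow 2 K)) fun t =>
      Bool.rec (motive := fun _ => ℕ) (ih t) (ih acc) (Nat.beq (Nat.shiftRight X t) 0)) K

end Cfsg.Agent.H516.BS.C
end

-- part: H516/BS/Comp
section
/-!
# The way of a lane in the network (helper516, S5925)
-/

set_option autoImplicit false
set_option linter.unusedSectionVars false

namespace Cfsg.Agent.H516.BS.CM

open Cfsg.Agent.H728.BS Cfsg.Agent.H516.BS.C

/-- The way of a lane in a network. -/
inductive Path : Sl → ℕ → ℕ → Prop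
  | nil (i : ℕ) : Path .nil i i
  | stay {s a b : ℕ} {tl : Sl} {i j : ℕ} : a.testBit i = true → b.testBit i = false → Path tl i j →
      Path (.cons s a b tl) i j
  | move {s a b : ℕ} {tl : Sl} {i j : ℕ} : b.testBit i = true → a.testBit i = false → Path tl i j →
      Path (.cons s a b tl) (s + i) j

theorem gen_path (K0 : ℕ) : ∀ (K s M mk : ℕ) (k : Sl → ℕ → Bool), gen K0 K s M mk k = true →
    ∃ l Mf, k l Mf = true ∧ ∀ i, M.testBit i = true → ∃ j, Mf.testBit j = true ∧ Path l i j := by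
  intro K
  induction K with
  | zero =>
    intro s M mk k h
    exact ⟨.nil, M, h, fun i hi => ⟨i, hi, .nil i⟩⟩
  | succ K ih =>
    intro s M mk k h
    obtain ⟨mp, hmp⟩ : ∃ mp, pp K0 1 mk = mp := ⟨_, rfl⟩
    have h' : Bool.rec (motive := fun _ => Bool) false
        (Bool.rec (motive := fun _ => Bool) false
          (gen K0 K (2 * s) ((M ^^^ (mp &&& M)) ||| ((mp &&& M) >>> s)) (mk ^^^ (mk &&& mp)) fun l Mf =>
            k (Sl.cons s (M ^^^ (mp &&& M)) ((mp &&& M) >>> s) l) Mf)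
          (Nat.beq ((M ^^^ (mp &&& M)) &&& ((mp &&& M) >>> s)) 0))
        (Nat.beq (((mp &&& M) >>> s) <<< s) (mp &&& M)) = true := by
      rw [← hmp]
      exact h
    obtain ⟨h1, h⟩ := brec_true h'
    obtain ⟨h2, h⟩ := brec_true h
    replace h1 := Nat.eq_of_beq_eq_true h1
    replace h2 := Nat.eq_of_beq_eq_true h2
    obtain ⟨l, Mf, hk, hl⟩ := ih _ _ _ _ h
    refine ⟨_, Mf, hk, fun i hi => ?_⟩
    generalize (mp &&& M) = mv at *
    generalize hb : mv >>> s = b at *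
    generalize ha : M ^^^ mv = a at *
    have hab : ∀ j, ¬(a.testBit j = true ∧ b.testBit j = true) := by
      intro j hj
      have h3 : (a &&& b).testBit j = true := by rw [Nat.testBit_and, hj.1, hj.2]; rfl
      rw [h2, Nat.zero_testBit] at h3
      exact absurd h3 (by simp)
    by_cases hm : mv.testBit i = true
    · have h4 : (b <<< s).testBit i = true := by rw [h1]; exact hm
      rw [Nat.testBit_shiftLeft, Bool.and_eq_true, decide_eq_true_eq] at h4
      obtain ⟨h5, h6⟩ := h4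
      have h7 : a.testBit (i - s) = false := by
        by_contra hc
        exact hab _ ⟨by simpa using hc, h6⟩
      obtain ⟨j, hj, hp⟩ := hl (i - s) (by rw [Nat.testBit_or, h6, Bool.or_true])
      refine ⟨j, hj, ?_⟩
      have h8 := Path.move (s := s) h6 h7 hp
      rwa [Nat.add_sub_cancel' h5] at h8
    · have h8 : a.testBit i = true := by
        rw [← ha, Nat.testBit_xor, hi, Bool.eq_false_of_not_eq_true hm]
        rfl
      have h9 : b.testBit i = false := by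
        by_contra hc
        exact hab _ ⟨h8, by simpa using hc⟩
      obtain ⟨j, hj, hp⟩ := hl i (by rw [Nat.testBit_or, h8, Bool.true_or])
      exact ⟨j, hj, Path.stay h8 h9 hp⟩

theorem net_path {N K M : ℕ} {k : Sl → ℕ → Bool} (h : net N K M k = true) :
    ∃ l Mf, k l Mf = true ∧ ∀ i, M.testBit i = true → ∃ j, Mf.testBit j = true ∧ Path l i j := by
  unfold net at h
  rw [fc_eq] at h
  exact gen_path _ _ _ _ _ _ h

theorem Path.le {l : Sl} {i j : ℕ} (h : Path l i j) : j ≤ i := by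
  induction h with
  | nil i => exact le_refl _
  | stay _ _ _ ih => exact ih
  | move _ _ _ ih => omega

/-- One more plane. -/
def p1 (S O X W : ℕ) : ℕ := Nat.lor (Nat.land X O) (Nat.shiftLeft W S)

end Cfsg.Agent.H516.BS.CM
end

-- part: H728/PM/Run
section
/-!
# The plan machine: the run on planes (S5925)

All registers, the scalars too, live on lanes, so that many digit vectors are run at once.  The lanes are the pairs
`(i, t)`, `i < N`, `t < f`, at the position `i + N * t`; a register `.b X` does not depend on `t` and has `N` lanes only.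
The registers are evaluated on demand.  `V` is the mask of the lanes which are alive.
-/

set_option autoImplicit false

namespace Cfsg.Agent.H728.PM

open Cfsg.Agent.H516.BS Cfsg.Agent.H516.BS.C Cfsg.Agent.H516.BS.CM
open Cfsg.Agent.H728.BS hiding Ex run ini ev Good ev_sound run_sound ini_sound

/-- Eight planes. -/
structure W where
  (a0 a1 a2 a3 a4 a5 a6 a7 : ℕ)

/-- The register of the planes. -/
def W.q (X : W) : Q := ⟨⟨X.a0, X.a1⟩, ⟨X.a2, X.a3⟩, ⟨X.a4, X.a5⟩, ⟨X.a6, X.a7⟩⟩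

/-- `x` is evaluated first. -/
def fw (x : ℕ) (w : W) : W := Bool.rec (motive := fun _ => W) w w (Nat.beq x 0)

theorem fw_eq (x : ℕ) (w : W) : fw x w = w := by
  unfold fw
  cases Nat.beq x 0 <;> rfl

/-- `x` is evaluated first. -/
def fz (x : ℕ) (k : ℕ → ℕ) : ℕ := Bool.rec (motive := fun _ => ℕ) (k x) (k x) (Nat.beq x 0)

theorem fz_eq (x : ℕ) (k : ℕ → ℕ) : fz x k = k x := by
  unfold fz
  cases Nat.beq x 0 <;> rfl

def wmk (a0 a1 a2 a3 a4 a5 a6 a7 : ℕ) : W :=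
  fw a0 (fw a1 (fw a2 (fw a3 (fw a4 (fw a5 (fw a6 (fw a7 ⟨a0, a1, a2, a3, a4, a5, a6, a7⟩)))))))

theorem wmk_eq (a0 a1 a2 a3 a4 a5 a6 a7 : ℕ) : wmk a0 a1 a2 a3 a4 a5 a6 a7 = ⟨a0, a1, a2, a3, a4, a5, a6, a7⟩ := by
  simp only [wmk, fw_eq]

/-- flat form -/
noncomputable def waddF (a0 a1 a2 a3 a4 a5 a6 a7 b0 b1 b2 b3 b4 b5 b6 b7 : ℕ) : W := by
  refine (?_ : ℕ → W) (Nat.xor a0 b1); intro u0
  refine (?_ : ℕ → W) (Nat.xor a1 b0); intro u1
  refine (?_ : ℕ → W) (Nat.xor u0 a1); intro u2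
  refine (?_ : ℕ → W) (Nat.xor u1 b1); intro u3
  refine (?_ : ℕ → W) (Nat.lor u2 u3); intro u4
  refine (?_ : ℕ → W) (Nat.land u0 u1); intro u5
  refine (?_ : ℕ → W) (Nat.xor a2 b3); intro u6
  refine (?_ : ℕ → W) (Nat.xor a3 b2); intro u7
  refine (?_ : ℕ → W) (Nat.xor u6 a3); intro u8
  refine (?_ : ℕ → W) (Nat.xor u7 b3); intro u9
  refine (?_ : ℕ → W) (Nat.lor u8 u9); intro u10
  refine (?_ : ℕ → W) (Nat.land u6 u7); intro u11
  refine (?_ : ℕ → W) (Nat.xor a4 b5); intro u12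
  refine (?_ : ℕ → W) (Nat.xor a5 b4); intro u13
  refine (?_ : ℕ → W) (Nat.xor u12 a5); intro u14
  refine (?_ : ℕ → W) (Nat.xor u13 b5); intro u15
  refine (?_ : ℕ → W) (Nat.lor u14 u15); intro u16
  refine (?_ : ℕ → W) (Nat.land u12 u13); intro u17
  refine (?_ : ℕ → W) (Nat.xor a6 b7); intro u18
  refine (?_ : ℕ → W) (Nat.xor a7 b6); intro u19
  refine (?_ : ℕ → W) (Nat.xor u18 a7); intro u20
  refine (?_ : ℕ → W) (Nat.xor u19 b7); intro u21
  refine (?_ : ℕ → W) (Nat.lor u20 u21); intro u22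
  refine (?_ : ℕ → W) (Nat.land u18 u19); intro u23
  exact wmk u4 u5 u10 u11 u16 u17 u22 u23

noncomputable def wadd (X Y : W) : W :=
  W.rec (motive := fun _ => W) (fun a0 a1 a2 a3 a4 a5 a6 a7 => W.rec (motive := fun _ => W) (waddF a0 a1 a2 a3 a4 a5 a6 a7) Y) X

/-- flat form -/
noncomputable def wsubF (a0 a1 a2 a3 a4 a5 a6 a7 b0 b1 b2 b3 b4 b5 b6 b7 : ℕ) : W := by
  refine (?_ : ℕ → W) (Nat.xor a0 b0); intro u0
  refine (?_ : ℕ → W) (Nat.xor a1 b1); intro u1
  refine (?_ : ℕ → W) (Nat.lor u0 u1); intro u2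
  refine (?_ : ℕ → W) (Nat.xor u0 b1); intro u3
  refine (?_ : ℕ → W) (Nat.xor b0 a1); intro u4
  refine (?_ : ℕ → W) (Nat.land u3 u4); intro u5
  refine (?_ : ℕ → W) (Nat.xor a2 b2); intro u6
  refine (?_ : ℕ → W) (Nat.xor a3 b3); intro u7
  refine (?_ : ℕ → W) (Nat.lor u6 u7); intro u8
  refine (?_ : ℕ → W) (Nat.xor u6 b3); intro u9
  refine (?_ : ℕ → W) (Nat.xor b2 a3); intro u10
  refine (?_ : ℕ → W) (Nat.land u9 u10); intro u11
  refine (?_ : ℕ → W) (Nat.xor a4 b4); intro u12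
  refine (?_ : ℕ → W) (Nat.xor a5 b5); intro u13
  refine (?_ : ℕ → W) (Nat.lor u12 u13); intro u14
  refine (?_ : ℕ → W) (Nat.xor u12 b5); intro u15
  refine (?_ : ℕ → W) (Nat.xor b4 a5); intro u16
  refine (?_ : ℕ → W) (Nat.land u15 u16); intro u17
  refine (?_ : ℕ → W) (Nat.xor a6 b6); intro u18
  refine (?_ : ℕ → W) (Nat.xor a7 b7); intro u19
  refine (?_ : ℕ → W) (Nat.lor u18 u19); intro u20
  refine (?_ : ℕ → W) (Nat.xor u18 b7); intro u21
  refine (?_ : ℕ → W) (Nat.xor b6 a7); intro u22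
  refine (?_ : ℕ → W) (Nat.land u21 u22); intro u23
  exact wmk u2 u5 u8 u11 u14 u17 u20 u23

noncomputable def wsub (X Y : W) : W :=
  W.rec (motive := fun _ => W) (fun a0 a1 a2 a3 a4 a5 a6 a7 => W.rec (motive := fun _ => W) (wsubF a0 a1 a2 a3 a4 a5 a6 a7) Y) X

/-- flat form -/
noncomputable def wnegF (a0 a1 a2 a3 a4 a5 a6 a7 : ℕ) : W := by
  refine (?_ : ℕ → W) (Nat.xor a0 a1); intro u0
  refine (?_ : ℕ → W) (Nat.xor a2 a3); intro u1
  refine (?_ : ℕ → W) (Nat.xor a4 a5); intro u2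
  refine (?_ : ℕ → W) (Nat.xor a6 a7); intro u3
  exact wmk a0 u0 a2 u1 a4 u2 a6 u3

noncomputable def wneg (X : W) : W := W.rec (motive := fun _ => W) wnegF X

/-- flat form -/
noncomputable def wfrF (a0 a1 a2 a3 a4 a5 a6 a7 : ℕ) : W := by
  refine (?_ : ℕ → W) (Nat.xor a4 a7); intro u0
  refine (?_ : ℕ → W) (Nat.xor a5 a6); intro u1
  refine (?_ : ℕ → W) (Nat.xor u0 a5); intro u2
  refine (?_ : ℕ → W) (Nat.xor u1 a7); intro u3
  refine (?_ : ℕ → W) (Nat.lor u2 u3); intro u4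
  refine (?_ : ℕ → W) (Nat.land u0 u1); intro u5
  refine (?_ : ℕ → W) (Nat.xor a2 a4); intro u6
  refine (?_ : ℕ → W) (Nat.xor a3 a5); intro u7
  refine (?_ : ℕ → W) (Nat.lor u6 u7); intro u8
  refine (?_ : ℕ → W) (Nat.xor u6 a5); intro u9
  refine (?_ : ℕ → W) (Nat.xor a4 a3); intro u10
  refine (?_ : ℕ → W) (Nat.land u9 u10); intro u11
  refine (?_ : ℕ → W) (Nat.xor u8 a7); intro u12
  refine (?_ : ℕ → W) (Nat.xor u11 a6); intro u13
  refine (?_ : ℕ → W) (Nat.xor u12 u11); intro u14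
  refine (?_ : ℕ → W) (Nat.xor u13 a7); intro u15
  refine (?_ : ℕ → W) (Nat.lor u14 u15); intro u16
  refine (?_ : ℕ → W) (Nat.land u12 u13); intro u17
  exact wmk a0 a1 a6 a7 u4 u5 u16 u17

noncomputable def wfr (X : W) : W := W.rec (motive := fun _ => W) wfrF X

/-- flat form -/
noncomputable def wmulF (a0 a1 a2 a3 a4 a5 a6 a7 b0 b1 b2 b3 b4 b5 b6 b7 : ℕ) : W := by
  refine (?_ : ℕ → W) (Nat.land a2 b6); intro u0
  refine (?_ : ℕ → W) (Nat.xor a3 b7); intro u1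
  refine (?_ : ℕ → W) (Nat.land u0 u1); intro u2
  refine (?_ : ℕ → W) (Nat.land a4 b4); intro u3
  refine (?_ : ℕ → W) (Nat.xor a5 b5); intro u4
  refine (?_ : ℕ → W) (Nat.land u3 u4); intro u5
  refine (?_ : ℕ → W) (Nat.xor u0 u5); intro u6
  refine (?_ : ℕ → W) (Nat.xor u2 u3); intro u7
  refine (?_ : ℕ → W) (Nat.xor u6 u2); intro u8
  refine (?_ : ℕ → W) (Nat.xor u7 u5); intro u9
  refine (?_ : ℕ → W) (Nat.lor u8 u9); intro u10
  refine (?_ : ℕ → W) (Nat.land u6 u7); intro u11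
  refine (?_ : ℕ → W) (Nat.land a6 b2); intro u12
  refine (?_ : ℕ → W) (Nat.xor a7 b3); intro u13
  refine (?_ : ℕ → W) (Nat.land u12 u13); intro u14
  refine (?_ : ℕ → W) (Nat.xor u10 u14); intro u15
  refine (?_ : ℕ → W) (Nat.xor u11 u12); intro u16
  refine (?_ : ℕ → W) (Nat.xor u15 u11); intro u17
  refine (?_ : ℕ → W) (Nat.xor u16 u14); intro u18
  refine (?_ : ℕ → W) (Nat.lor u17 u18); intro u19
  refine (?_ : ℕ → W) (Nat.land u15 u16); intro u20
  refine (?_ : ℕ → W) (Nat.land a4 b6); intro u21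
  refine (?_ : ℕ → W) (Nat.xor a5 b7); intro u22
  refine (?_ : ℕ → W) (Nat.land u21 u22); intro u23
  refine (?_ : ℕ → W) (Nat.land a6 b4); intro u24
  refine (?_ : ℕ → W) (Nat.xor a7 b5); intro u25
  refine (?_ : ℕ → W) (Nat.land u24 u25); intro u26
  refine (?_ : ℕ → W) (Nat.xor u21 u26); intro u27
  refine (?_ : ℕ → W) (Nat.xor u23 u24); intro u28
  refine (?_ : ℕ → W) (Nat.xor u27 u23); intro u29
  refine (?_ : ℕ → W) (Nat.xor u28 u26); intro u30
  refine (?_ : ℕ → W) (Nat.lor u29 u30); intro u31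
  refine (?_ : ℕ → W) (Nat.land u27 u28); intro u32
  refine (?_ : ℕ → W) (Nat.land a6 b6); intro u33
  refine (?_ : ℕ → W) (Nat.xor a7 b7); intro u34
  refine (?_ : ℕ → W) (Nat.land u33 u34); intro u35
  refine (?_ : ℕ → W) (Nat.land a0 b0); intro u36
  refine (?_ : ℕ → W) (Nat.xor a1 b1); intro u37
  refine (?_ : ℕ → W) (Nat.land u36 u37); intro u38
  refine (?_ : ℕ → W) (Nat.xor u36 u20); intro u39
  refine (?_ : ℕ → W) (Nat.xor u38 u19); intro u40
  refine (?_ : ℕ → W) (Nat.xor u39 u38); intro u41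
  refine (?_ : ℕ → W) (Nat.xor u40 u20); intro u42
  refine (?_ : ℕ → W) (Nat.lor u41 u42); intro u43
  refine (?_ : ℕ → W) (Nat.land u39 u40); intro u44
  refine (?_ : ℕ → W) (Nat.land a0 b2); intro u45
  refine (?_ : ℕ → W) (Nat.xor a1 b3); intro u46
  refine (?_ : ℕ → W) (Nat.land u45 u46); intro u47
  refine (?_ : ℕ → W) (Nat.land a2 b0); intro u48
  refine (?_ : ℕ → W) (Nat.xor a3 b1); intro u49
  refine (?_ : ℕ → W) (Nat.land u48 u49); intro u50
  refine (?_ : ℕ → W) (Nat.xor u45 u50); intro u51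
  refine (?_ : ℕ → W) (Nat.xor u47 u48); intro u52
  refine (?_ : ℕ → W) (Nat.xor u51 u47); intro u53
  refine (?_ : ℕ → W) (Nat.xor u52 u50); intro u54
  refine (?_ : ℕ → W) (Nat.lor u53 u54); intro u55
  refine (?_ : ℕ → W) (Nat.land u51 u52); intro u56
  refine (?_ : ℕ → W) (Nat.xor u55 u19); intro u57
  refine (?_ : ℕ → W) (Nat.xor u56 u20); intro u58
  refine (?_ : ℕ → W) (Nat.lor u57 u58); intro u59
  refine (?_ : ℕ → W) (Nat.xor u57 u20); intro u60
  refine (?_ : ℕ → W) (Nat.xor u19 u56); intro u61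
  refine (?_ : ℕ → W) (Nat.land u60 u61); intro u62
  refine (?_ : ℕ → W) (Nat.xor u59 u32); intro u63
  refine (?_ : ℕ → W) (Nat.xor u62 u31); intro u64
  refine (?_ : ℕ → W) (Nat.xor u63 u62); intro u65
  refine (?_ : ℕ → W) (Nat.xor u64 u32); intro u66
  refine (?_ : ℕ → W) (Nat.lor u65 u66); intro u67
  refine (?_ : ℕ → W) (Nat.land u63 u64); intro u68
  refine (?_ : ℕ → W) (Nat.land a0 b4); intro u69
  refine (?_ : ℕ → W) (Nat.xor a1 b5); intro u70
  refine (?_ : ℕ → W) (Nat.land u69 u70); intro u71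
  refine (?_ : ℕ → W) (Nat.land a2 b2); intro u72
  refine (?_ : ℕ → W) (Nat.xor a3 b3); intro u73
  refine (?_ : ℕ → W) (Nat.land u72 u73); intro u74
  refine (?_ : ℕ → W) (Nat.xor u69 u74); intro u75
  refine (?_ : ℕ → W) (Nat.xor u71 u72); intro u76
  refine (?_ : ℕ → W) (Nat.xor u75 u71); intro u77
  refine (?_ : ℕ → W) (Nat.xor u76 u74); intro u78
  refine (?_ : ℕ → W) (Nat.lor u77 u78); intro u79
  refine (?_ : ℕ → W) (Nat.land u75 u76); intro u80
  refine (?_ : ℕ → W) (Nat.land a4 b0); intro u81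
  refine (?_ : ℕ → W) (Nat.xor a5 b1); intro u82
  refine (?_ : ℕ → W) (Nat.land u81 u82); intro u83
  refine (?_ : ℕ → W) (Nat.xor u79 u83); intro u84
  refine (?_ : ℕ → W) (Nat.xor u80 u81); intro u85
  refine (?_ : ℕ → W) (Nat.xor u84 u80); intro u86
  refine (?_ : ℕ → W) (Nat.xor u85 u83); intro u87
  refine (?_ : ℕ → W) (Nat.lor u86 u87); intro u88
  refine (?_ : ℕ → W) (Nat.land u84 u85); intro u89
  refine (?_ : ℕ → W) (Nat.xor u88 u31); intro u90
  refine (?_ : ℕ → W) (Nat.xor u89 u32); intro u91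
  refine (?_ : ℕ → W) (Nat.lor u90 u91); intro u92
  refine (?_ : ℕ → W) (Nat.xor u90 u32); intro u93
  refine (?_ : ℕ → W) (Nat.xor u31 u89); intro u94
  refine (?_ : ℕ → W) (Nat.land u93 u94); intro u95
  refine (?_ : ℕ → W) (Nat.xor u92 u35); intro u96
  refine (?_ : ℕ → W) (Nat.xor u95 u33); intro u97
  refine (?_ : ℕ → W) (Nat.xor u96 u95); intro u98
  refine (?_ : ℕ → W) (Nat.xor u97 u35); intro u99
  refine (?_ : ℕ → W) (Nat.lor u98 u99); intro u100
  refine (?_ : ℕ → W) (Nat.land u96 u97); intro u101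
  refine (?_ : ℕ → W) (Nat.land a0 b6); intro u102
  refine (?_ : ℕ → W) (Nat.xor a1 b7); intro u103
  refine (?_ : ℕ → W) (Nat.land u102 u103); intro u104
  refine (?_ : ℕ → W) (Nat.land a2 b4); intro u105
  refine (?_ : ℕ → W) (Nat.xor a3 b5); intro u106
  refine (?_ : ℕ → W) (Nat.land u105 u106); intro u107
  refine (?_ : ℕ → W) (Nat.xor u102 u107); intro u108
  refine (?_ : ℕ → W) (Nat.xor u104 u105); intro u109
  refine (?_ : ℕ → W) (Nat.xor u108 u104); intro u110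
  refine (?_ : ℕ → W) (Nat.xor u109 u107); intro u111
  refine (?_ : ℕ → W) (Nat.lor u110 u111); intro u112
  refine (?_ : ℕ → W) (Nat.land u108 u109); intro u113
  refine (?_ : ℕ → W) (Nat.land a4 b2); intro u114
  refine (?_ : ℕ → W) (Nat.xor a5 b3); intro u115
  refine (?_ : ℕ → W) (Nat.land u114 u115); intro u116
  refine (?_ : ℕ → W) (Nat.xor u112 u116); intro u117
  refine (?_ : ℕ → W) (Nat.xor u113 u114); intro u118
  refine (?_ : ℕ → W) (Nat.xor u117 u113); intro u119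
  refine (?_ : ℕ → W) (Nat.xor u118 u116); intro u120
  refine (?_ : ℕ → W) (Nat.lor u119 u120); intro u121
  refine (?_ : ℕ → W) (Nat.land u117 u118); intro u122
  refine (?_ : ℕ → W) (Nat.land a6 b0); intro u123
  refine (?_ : ℕ → W) (Nat.xor a7 b1); intro u124
  refine (?_ : ℕ → W) (Nat.land u123 u124); intro u125
  refine (?_ : ℕ → W) (Nat.xor u121 u125); intro u126
  refine (?_ : ℕ → W) (Nat.xor u122 u123); intro u127
  refine (?_ : ℕ → W) (Nat.xor u126 u122); intro u128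
  refine (?_ : ℕ → W) (Nat.xor u127 u125); intro u129
  refine (?_ : ℕ → W) (Nat.lor u128 u129); intro u130
  refine (?_ : ℕ → W) (Nat.land u126 u127); intro u131
  refine (?_ : ℕ → W) (Nat.xor u130 u33); intro u132
  refine (?_ : ℕ → W) (Nat.xor u131 u35); intro u133
  refine (?_ : ℕ → W) (Nat.lor u132 u133); intro u134
  refine (?_ : ℕ → W) (Nat.xor u132 u35); intro u135
  refine (?_ : ℕ → W) (Nat.xor u33 u131); intro u136
  refine (?_ : ℕ → W) (Nat.land u135 u136); intro u137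
  exact wmk u43 u44 u67 u68 u100 u101 u134 u137

noncomputable def wmul (X Y : W) : W :=
  W.rec (motive := fun _ => W) (fun a0 a1 a2 a3 a4 a5 a6 a7 => W.rec (motive := fun _ => W) (wmulF a0 a1 a2 a3 a4 a5 a6 a7) Y) X

/-- The same map on all planes. -/
noncomputable def wmap (f : ℕ → ℕ) (X : W) : W :=
  W.rec (motive := fun _ => W) (fun a0 a1 a2 a3 a4 a5 a6 a7 =>
    wmk (f a0) (f a1) (f a2) (f a3) (f a4) (f a5) (f a6) (f a7)) X

/-- The nonzero lanes. -/
noncomputable def wnz (X : W) : ℕ :=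
  W.rec (motive := fun _ => ℕ) (fun a0 _ a2 _ a4 _ a6 _ => Nat.lor (Nat.lor a0 a2) (Nat.lor a4 a6)) X

/-- The planes of a register. -/
def wq (X : Q) : W := wmk X.c0.m X.c0.s X.c1.m X.c1.s X.c2.m X.c2.s X.c3.m X.c3.s

def wz : W := ⟨0, 0, 0, 0, 0, 0, 0, 0⟩

/-- `2 ^ N - 1` -/
def ones (N : ℕ) : ℕ := Nat.sub (Nat.shiftLeft 1 N) 1

/-- `f` copies of `x < 2 ^ N`. -/
noncomputable def tlb (N x k : ℕ) : ℕ → ℕ :=
  Nat.rec (motive := fun _ => ℕ → ℕ) (fun _ => x)
    (fun _ ih f => Bool.rec (motive := fun _ => ℕ)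
      (fc (Nat.div f 2) fun h => fz (ih h) fun y => fz (Nat.lor y (Nat.shiftLeft y (Nat.mul N h))) fun d =>
        Bool.rec (motive := fun _ => ℕ) (Nat.lor x (Nat.shiftLeft d N)) d (Nat.beq (Nat.mod f 2) 0))
      x (Nat.ble f 1)) k

/-- `f` copies of the first `N` lanes. -/
noncomputable def tile (N O f a : ℕ) : ℕ :=
  Bool.rec (motive := fun _ => ℕ) (tlb N (Nat.land a O) f f) 0 (Nat.beq a 0)

/-- Registers. -/
inductive Rg : Type
  | b (X : W) : Rg
  | f (X : W) : Rg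

noncomputable def tw (N O f : ℕ) (X : W) : W :=
  Bool.rec (motive := fun _ => W) (wmap (tile N O f) X) X (Nat.beq f 1)

/-- A register on all lanes. -/
noncomputable def rd (N O f : ℕ) (r : Rg) : W := Rg.rec (motive := fun _ => W) (tw N O f) (fun X => X) r

noncomputable def un (op : W → W) (x : Rg) : Rg :=
  Rg.rec (motive := fun _ => Rg) (fun X => .b (op X)) (fun X => .f (op X)) x

noncomputable def bin (N O f : ℕ) (op : W → W → W) (x y : Rg) : Rg :=
  Rg.rec (motive := fun _ => Rg)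
    (fun X => Rg.rec (motive := fun _ => Rg) (fun Y => .b (op X Y)) (fun Y => .f (op (tw N O f X) Y)) y)
    (fun X => Rg.rec (motive := fun _ => Rg) (fun Y => .f (op X (tw N O f Y))) (fun Y => .f (op X Y)) y) x

noncomputable def gt (rs : List Rg) : ℕ → Rg :=
  List.rec (motive := fun _ => ℕ → Rg) (fun _ => .b wz)
    (fun h _ ih n => Nat.rec (motive := fun _ => Rg) h (fun m _ => ih m) n) rs

noncomputable def snoc (rs : List Rg) (x : Rg) : List Rg :=
  List.rec (motive := fun _ => List Rg) [x] (fun h _ ih => h :: ih) rs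

noncomputable def rmap (f : Rg → Rg) (rs : List Rg) : List Rg :=
  List.rec (motive := fun _ => List Rg) [] (fun h _ ih => f h :: ih) rs

noncomputable def sels (rs : List Rg) (js : List ℕ) : List Rg :=
  List.rec (motive := fun _ => List Rg) [] (fun j _ ih => gt rs j :: ih) js

/-- Evaluation. -/
noncomputable def ev (N O f : ℕ) (ks ls : List Rg) (e : Ex) : Rg :=
  Ex.rec (motive := fun _ => Rg) (fun j => gt ks j) (fun j => gt ls j) (fun n => .b (wq (qpw O n))) (.b wz)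
    (fun _ _ x y => bin N O f wadd x y) (fun _ _ x y => bin N O f wsub x y) (fun _ x => un wneg x)
    (fun _ _ x y => bin N O f wmul x y) (fun _ x => un wfr x) e

/-- The lanes of the mask where all constraints vanish. -/
noncomputable def cns (N O f : ℕ) (ks ls : List Rg) (k : ℕ → Bool) (cs : List Ex) : ℕ → Bool :=
  List.rec (motive := fun _ => ℕ → Bool) k
    (fun c _ ih m => fc (Nat.xor m (Nat.land m (wnz (rd N O f (ev N O f ks ls c))))) fun m' =>
      Bool.rec (motive := fun _ => Bool) (ih m') true (Nat.beq m' 0)) cs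

/-- All vanish on the lanes of `V`. -/
noncomputable def lf (N O f : ℕ) (ks ls : List Rg) (V : ℕ) (ds : List Ex) : Bool :=
  List.rec (motive := fun _ => Bool) true
    (fun d _ ih => Bool.rec (motive := fun _ => Bool) false ih
      (Nat.beq (Nat.land V (wnz (rd N O f (ev N O f ks ls d)))) 0)) ds

def and2 (a b : Bool) : Bool := Bool.rec (motive := fun _ => Bool) false b a

/-! ### folding -/

/-- The upper half on the lower half. -/
def hf (s x : ℕ) : ℕ := Nat.lor (Nat.land x (ones s)) (Nat.shiftRight x s)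

/-- `2 ^ K` blocks of `N` lanes on one block. -/
noncomputable def fold (N K : ℕ) : ℕ → ℕ :=
  Nat.rec (motive := fun _ => ℕ → ℕ) (fun x => x)
    (fun K ih x => fc (Nat.shiftLeft N K) fun s => fz (hf s x) ih) K

/-- No two lanes of the mask meet. -/
noncomputable def fchk (N K : ℕ) : ℕ → Bool :=
  Nat.rec (motive := fun _ => ℕ → Bool) (fun _ => true)
    (fun K ih x => fc (Nat.shiftLeft N K) fun s => Bool.rec (motive := fun _ => Bool) false (ih (hf s x))
      (Nat.beq (Nat.land (Nat.land x (ones s)) (Nat.shiftRight x s)) 0)) K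

/-- One lane of the mask over every lane of the block. -/
noncomputable def pick (N K : ℕ) : ℕ → ℕ :=
  Nat.rec (motive := fun _ => ℕ → ℕ) (fun x => x)
    (fun K ih x => fc (Nat.shiftLeft N K) fun s => fz (hf s x) fun y => fz (ih y) fun S =>
      fz (Nat.land S (Nat.land x (ones s))) fun A => Nat.lor A (Nat.shiftLeft (Nat.xor S A) s)) K

/-- `x`, with a label. -/
def kk (x _s : ℕ) : ℕ := x

/-- The classes. -/
noncomputable def cls (N K F : ℕ) : ℕ → (List ℕ → ℕ → Bool) → Bool :=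
  Nat.rec (motive := fun _ => ℕ → (List ℕ → ℕ → Bool) → Bool) (fun _ _ => false)
    (fun _ ih rest k => Bool.rec (motive := fun _ => Bool)
      (fc (pick N K rest) fun M => fc (Nat.mod M 4294967291) fun s => fc (Nat.xor rest M) fun rest' =>
        Bool.rec (motive := fun _ => Bool) false
          (ih (kk rest' s) fun l c => fc (Nat.succ c) fun c' => k (kk M s :: l) c') (fchk N K (kk M s)))
      (k [] 0) (Nat.beq rest 0)) F

/-- The folded plane. -/
noncomputable def fp (N O K : ℕ) (l : List ℕ) (x : ℕ) : ℕ :=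
  List.rec (motive := fun _ => ℕ) 0 (fun M _ ih => p1 N O (fold N K (Nat.land x M)) ih) l

noncomputable def fr1 (N O K : ℕ) (l : List ℕ) (r : Rg) : Rg :=
  Rg.rec (motive := fun _ => Rg) (fun X => .b X) (fun X => .f (wmap (fp N O K l) X)) r

/-! ### compaction -/

/-- The network on eight packed planes. -/
noncomputable def runs8 (S O : ℕ) (l : Sl) : ℕ → ℕ :=
  Sl.rec (motive := fun _ => ℕ → ℕ) (fun X => X)
    (fun s a b _ ih X => fz (st s (tile S O 8 a) (tile S O 8 b) X) ih) l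

noncomputable def up8 (S O x0 : ℕ) : W := by
  refine (?_ : ℕ → W) (Nat.shiftRight x0 S); intro x1
  refine (?_ : ℕ → W) (Nat.shiftRight x1 S); intro x2
  refine (?_ : ℕ → W) (Nat.shiftRight x2 S); intro x3
  refine (?_ : ℕ → W) (Nat.shiftRight x3 S); intro x4
  refine (?_ : ℕ → W) (Nat.shiftRight x4 S); intro x5
  refine (?_ : ℕ → W) (Nat.shiftRight x5 S); intro x6
  refine (?_ : ℕ → W) (Nat.shiftRight x6 S); intro x7
  exact wmk (Nat.land x0 O) (Nat.land x1 O) (Nat.land x2 O) (Nat.land x3 O) (Nat.land x4 O) (Nat.land x5 O)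
    (Nat.land x6 O) (Nat.land x7 O)

noncomputable def cw (S O : ℕ) (l : Sl) (X : W) : W :=
  W.rec (motive := fun _ => W) (fun a0 a1 a2 a3 a4 a5 a6 a7 =>
    up8 S O (runs8 S O l (p1 S O a0 (p1 S O a1 (p1 S O a2 (p1 S O a3 (p1 S O a4 (p1 S O a5 (p1 S O a6 (p1 S O a7 0)))))))))) X

/-- The state. -/
abbrev Kn : Type := List Rg → List Rg → ℕ → ℕ → ℕ → ℕ → Bool

/-- An estimate of the number of lanes of `m < 2 ^ N` (any value is sound). -/
def pc (N m : ℕ) : ℕ :=
  fc (Nat.sub m (Nat.land (Nat.shiftRight m 1) (Nat.div (ones (Nat.add N N)) 3))) fun a =>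
  fc (Nat.div (ones (Nat.mul 4 N)) 5) fun u =>
  fc (Nat.add (Nat.land a u) (Nat.land (Nat.shiftRight a 2) u)) fun b =>
  fc (Nat.div (ones (Nat.mul 8 N)) 17) fun u =>
  fc (Nat.add (Nat.land b u) (Nat.land (Nat.shiftRight b 4) u)) fun c =>
  fc (Nat.div (ones (Nat.mul 16 N)) 257) fun u =>
  fc (Nat.add (Nat.land c u) (Nat.land (Nat.shiftRight c 8) u)) fun d =>
  fc (Nat.div (ones (Nat.mul 32 N)) 65537) fun u =>
  Nat.mod (Nat.add (Nat.land d u) (Nat.land (Nat.shiftRight d 16) u)) 4294967295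

noncomputable def cmp (ks ls : List Rg) (N O f m : ℕ) (k : Kn) : Bool :=
  fc (Nat.mul N f) fun S => Bool.rec (motive := fun _ => Bool)
    (fc (Nat.succ (Nat.log2 S)) fun K => fc (ones S) fun OS => net S K m fun l Mf =>
      fc (Nat.succ (bl Mf K 0)) fun n => Bool.rec (motive := fun _ => Bool) false
        (fc (ones n) fun On => k (rmap (fun r => .b (cw S OS l (rd N O f r))) ks)
          (rmap (fun r => .b (cw S OS l (rd N O f r))) ls) n On 1 Mf) (Nat.beq (Nat.shiftRight Mf n) 0))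
    (k ks ls N O f m) (Nat.ble (Nat.mul 9 S) (Nat.mul 10 (pc (Nat.succ (Nat.div S 32)) m)))

/-- The lanes of `m` go on. -/
noncomputable def flt (ks ls : List Rg) (N O f m : ℕ) (k : Kn) : Bool :=
  Bool.rec (motive := fun _ => Bool)
    (Bool.rec (motive := fun _ => Bool) (cmp ks ls N O f m k)
      (fc (Nat.succ (Nat.log2 (Nat.pred f))) fun K => cls N K (Nat.succ f) m fun l c => fc (fp N O K l m) fun m' =>
        cmp (rmap (fr1 N O K l) ks) (rmap (fr1 N O K l) ls) N O c m' k) (Nat.ble 9 f))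
    true (Nat.beq m 0)

/-! ### more lanes -/

/-- The bits of `c < 2 ^ 3 ^ k` as blocks of `N` lanes. -/
noncomputable def spr (N O k : ℕ) : ℕ → ℕ :=
  Nat.rec (motive := fun _ => ℕ → ℕ) (fun c => Nat.mul (Nat.land c 1) O)
    (fun k ih c => fc (Nat.pow 3 k) fun w => fc (Nat.mul N w) fun s =>
      fc (Nat.land c (ones w)) fun c0 => fc (Nat.land (Nat.shiftRight c w) (ones w)) fun c1 =>
      fc (Nat.land (Nat.shiftRight c (Nat.mul 2 w)) (ones w)) fun c2 =>
        Nat.lor (ih c0) (Nat.shiftLeft (Nat.lor (ih c1) (Nat.shiftLeft (ih c2) s)) s)) k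

/-- `x ^ 79` -/
noncomputable def w79 (y : W) : W :=
  wmul (wmul (wfr (wfr (wfr (wmul y y)))) (wfr (wfr (wmul y y)))) (wmul (wfr (wmul y y)) y)

/-- The elements of the field on 81 lanes. -/
def y0 : W := wq ⟨dgp 1 4 0, dgp 1 4 1, dgp 1 4 2, dgp 1 4 3⟩

noncomputable def z0 : W := w79 y0

/-- The table from lane `u` on, every lane is repeated `N` times. -/
noncomputable def sw (N O u : ℕ) (X : W) : W := wmap (fun a => fc (Nat.shiftRight a u) (spr N O 4)) X

/-- All registers are brought to `N * f` lanes. -/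
noncomputable def rb (N O f : ℕ) (rs : List Rg) : List Rg := rmap (fun r => .b (rd N O f r)) rs

noncomputable def wcat (N O : ℕ) (X Y : W) : W :=
  W.rec (motive := fun _ => W) (fun a0 a1 a2 a3 a4 a5 a6 a7 => W.rec (motive := fun _ => W)
    (fun b0 b1 b2 b3 b4 b5 b6 b7 => wmk (p1 N O a0 b0) (p1 N O a1 b1) (p1 N O a2 b2) (p1 N O a3 b3) (p1 N O a4 b4)
      (p1 N O a5 b5) (p1 N O a6 b6) (p1 N O a7 b7)) Y) X

noncomputable def alts (N O : ℕ) (ks : List Rg) (es : List Ex) : W :=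
  List.rec (motive := fun _ => W) wz (fun e _ ih => wcat N O (rd N O 1 (ev N O 1 ks [] e)) ih) es

noncomputable def len (es : List Ex) : ℕ := List.rec (motive := fun _ => ℕ) 0 (fun _ _ ih => Nat.succ ih) es

/-- Every lane is repeated `f'` times. -/
noncomputable def wide (ks ls : List Rg) (N O f V f' : ℕ) (k : List Rg → List Rg → ℕ → ℕ → ℕ → Bool) : Bool :=
  fc (Nat.mul N f) fun S => fc (ones S) fun OS => fc (tile S OS f' V) fun V' => k (rb N O f ks) (rb N O f ls) S OS V'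

/-! ### the machine -/

/-- **The machine.** `O = 2 ^ N - 1`. -/
noncomputable def run (p : Plan) : Kn :=
  Plan.rec (motive := fun _ => Kn)
    -- kf
    (fun e _ ih ks ls N O f V => ih (snoc ks (ev N O f ks [] e)) ls N O f V)
    -- kfl
    (fun cs _ ih ks ls N O f V => cns N O f ks [] (fun m => flt ks ls N O f m ih) cs V)
    -- ksp
    (fun e _ _ ihp ihq ks ls N O f V => fc (Nat.land V (wnz (rd N O f (ev N O f ks [] e)))) fun m =>
      fc (Nat.xor V m) fun m' => and2 (flt ks ls N O f m' ihp) (flt ks ls N O f m ihq))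
    -- alt
    (fun es _ ih ks ls N O f V => fc (len es) fun f' => wide ks ls N O f V f' fun ks ls S OS V' =>
      ih (snoc ks (.f (alts S OS ks es))) ls S OS f' V')
    -- or
    (fun _ _ ihp ihq ks ls N O f V => and2 (ihp ks ls N O f V) (ihq ks ls N O f V))
    -- ex
    (fun _ ih ks ls N O f V => wide ks ls N O f V 81 fun ks ls S OS V' =>
      ih ks (snoc (snoc ls (.f (sw S OS 0 y0))) (.f (sw S OS 0 z0))) S OS 81 V')
    -- exn
    (fun _ ih ks ls N O f V => wide ks ls N O f V 80 fun ks ls S OS V' =>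
      ih ks (snoc (snoc ls (.f (sw S OS 1 y0))) (.f (sw S OS 1 z0))) S OS 80 V')
    -- df
    (fun e _ ih ks ls N O f V => ih ks (snoc ls (ev N O f ks ls e)) N O f V)
    -- fl
    (fun cs js _ ih ks ls N O f V => cns N O f ks ls (fun m => flt ks (sels ls js) N O f m ih) cs V)
    -- sel
    (fun js _ ih ks ls N O f V => ih ks (sels ls js) N O f V)
    -- leaf
    (fun ds ks ls N O f V => lf N O f ks ls V ds) p

/-- The digit `j` of the lane number. -/
def ini (j : ℕ) : Rg := .b (wq ⟨dgp 1 7 j, .zero, .zero, .zero⟩)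

/-- **The check**: the plan is run for all bits `d` of `M` with the 7 base 3 digits of `d` as scalars. -/
noncomputable def rng (p : Plan) (M : ℕ) : Bool :=
  fc (ones 2187) fun O => flt [ini 0, ini 1, ini 2, ini 3, ini 4, ini 5, ini 6] [] 2187 O 1 M (run p)

/-! ### soundness: planes -/

theorem wadd_q (X Y : W) : (wadd X Y).q = X.q.add Y.q := by
  cases X; cases Y
  show (wmk _ _ _ _ _ _ _ _).q = _
  rw [wmk_eq]; rfl

theorem wsub_q (X Y : W) : (wsub X Y).q = X.q.sub Y.q := by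
  cases X; cases Y
  show (wmk _ _ _ _ _ _ _ _).q = _
  rw [wmk_eq]; rfl

theorem wneg_q (X : W) : (wneg X).q = X.q.neg := by
  cases X
  show (wmk _ _ _ _ _ _ _ _).q = _
  rw [wmk_eq]; rfl

theorem wfr_q (X : W) : (wfr X).q = X.q.frob := by
  cases X
  show (wmk _ _ _ _ _ _ _ _).q = _
  rw [wmk_eq]; rfl

theorem wmul_q (X Y : W) : (wmul X Y).q = X.q.mul Y.q := by
  cases X; cases Y
  show (wmk _ _ _ _ _ _ _ _).q = _
  rw [wmk_eq]; rfl

theorem wq_q (X : Q) : (wq X).q = X := by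
  show (wmk _ _ _ _ _ _ _ _).q = _
  rw [wmk_eq]; rfl

theorem wnz_eq (X : W) : wnz X = X.q.nz := by
  cases X; rfl

theorem wmap_eq (f : ℕ → ℕ) (X : W) :
    wmap f X = ⟨f X.a0, f X.a1, f X.a2, f X.a3, f X.a4, f X.a5, f X.a6, f X.a7⟩ := by
  cases X
  exact wmk_eq _ _ _ _ _ _ _ _

theorem ones_eq (N : ℕ) : ones N = 2 ^ N - 1 := by
  show 1 <<< N - 1 = _
  rw [Nat.one_shiftLeft]

theorem ones_bit (N j : ℕ) : (ones N).testBit j = decide (j < N) := by
  rw [ones_eq, Nat.testBit_two_pow_sub_one]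

theorem land_bit (a b j : ℕ) : (Nat.land a b).testBit j = (a.testBit j && b.testBit j) := Nat.testBit_and a b j

theorem lor_bit (a b j : ℕ) : (Nat.lor a b).testBit j = (a.testBit j || b.testBit j) := Nat.testBit_or a b j

theorem xor_bit (a b j : ℕ) : (Nat.xor a b).testBit j = (a.testBit j ^^ b.testBit j) := Nat.testBit_xor a b j

theorem shr_bit (a s j : ℕ) : (Nat.shiftRight a s).testBit j = a.testBit (s + j) := Nat.testBit_shiftRight a

theorem shl_bit (a s j : ℕ) : (Nat.shiftLeft a s).testBit j = (decide (s ≤ j) && a.testBit (j - s)) :=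
  Nat.testBit_shiftLeft a

theorem shl_lo {a s j : ℕ} (h : j < s) : (Nat.shiftLeft a s).testBit j = false := by
  rw [shl_bit, decide_eq_false (by omega), Bool.false_and]

theorem shl_hi (a s j : ℕ) : (Nat.shiftLeft a s).testBit (s + j) = a.testBit j := by
  rw [shl_bit, decide_eq_true (by omega), Bool.true_and, Nat.add_sub_cancel_left]

theorem pos_lt {N i t f : ℕ} (hi : i < N) (ht : t < f) : i + N * t < N * f := by
  have : N * (t + 1) ≤ N * f := Nat.mul_le_mul_left _ ht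
  rw [Nat.mul_succ] at this
  omega

theorem tlb_succ (N x k f : ℕ) : tlb N x (k + 1) f = Bool.rec (motive := fun _ => ℕ)
    (Bool.rec (motive := fun _ => ℕ)
      (Nat.lor x (Nat.shiftLeft (Nat.lor (tlb N x k (f / 2)) (Nat.shiftLeft (tlb N x k (f / 2)) (N * (f / 2)))) N))
      (Nat.lor (tlb N x k (f / 2)) (Nat.shiftLeft (tlb N x k (f / 2)) (N * (f / 2)))) (Nat.beq (f % 2) 0))
    x (Nat.ble f 1) := by
  show Bool.rec (motive := fun _ => ℕ) (fz (tlb N x k (f / 2)) fun y => fz (Nat.lor y (Nat.shiftLeft y (N * (f / 2))))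
    fun d => Bool.rec (motive := fun _ => ℕ) (Nat.lor x (Nat.shiftLeft d N)) d (Nat.beq (f % 2) 0)) x (Nat.ble f 1) = _
  rw [fz_eq, fz_eq]

theorem tlb_bit {N x : ℕ} (hx : ∀ j, N ≤ j → x.testBit j = false) :
    ∀ k f, 1 ≤ f → f ≤ k + 1 → (∀ j, N * f ≤ j → (tlb N x k f).testBit j = false) ∧
      ∀ i t, i < N → t < f → (tlb N x k f).testBit (i + N * t) = x.testBit i := by
  have base : (∀ j, N * 1 ≤ j → x.testBit j = false) ∧ ∀ i t, i < N → t < 1 → x.testBit (i + N * t) = x.testBit i := by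
    refine ⟨fun j hj => hx j (by omega), fun i t _ ht => ?_⟩
    obtain rfl : t = 0 := by omega
    rfl
  intro k
  induction k with
  | zero =>
    intro f h1 h2
    obtain rfl : f = 1 := by omega
    exact base
  | succ k ih =>
    intro f h1 h2
    rw [tlb_succ]
    cases hf : Nat.ble f 1 with
    | true =>
      obtain rfl : f = 1 := le_antisymm (Nat.le_of_ble_eq_true hf) h1
      exact base
    | false =>
      have h3 : 2 ≤ f := by
        by_contra hc
        rw [Nat.ble_eq_true_of_le (show f ≤ 1 by omega)] at hf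
        exact absurd hf (by decide)
      obtain ⟨y1, y2⟩ := ih (f / 2) (by omega) (by omega)
      generalize tlb N x k (f / 2) = y at y1 y2
      obtain ⟨h, hh⟩ : ∃ h, h = f / 2 := ⟨_, rfl⟩
      rw [← hh] at y1 y2 ⊢
      have d1 : ∀ j, N * (2 * h) ≤ j → (Nat.lor y (Nat.shiftLeft y (N * h))).testBit j = false := by
        intro j hj
        have e : N * (2 * h) = N * h + N * h := by ring
        obtain ⟨j', rfl⟩ : ∃ j', j = N * h + j' := ⟨j - N * h, by omega⟩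
        rw [lor_bit, y1 _ (by omega), shl_hi, y1 _ (by omega)]
        rfl
      have d2 : ∀ i t, i < N → t < 2 * h → (Nat.lor y (Nat.shiftLeft y (N * h))).testBit (i + N * t) = x.testBit i := by
        intro i t hi ht
        by_cases h4 : t < h
        · rw [lor_bit, y2 i t hi h4, shl_lo (pos_lt hi h4), Bool.or_false]
        · obtain ⟨t', rfl⟩ : ∃ t', t = h + t' := ⟨t - h, by omega⟩
          rw [show i + N * (h + t') = N * h + (i + N * t') by ring, lor_bit, y1 _ (by omega), shl_hi,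
            y2 i t' hi (by omega), Bool.false_or]
      generalize Nat.lor y (Nat.shiftLeft y (N * h)) = d at d1 d2
      cases hp : Nat.beq (f % 2) 0 with
      | true =>
        have h5 := Nat.eq_of_beq_eq_true hp
        obtain rfl : f = 2 * h := by omega
        exact ⟨d1, d2⟩
      | false =>
        have h5 := Nat.ne_of_beq_eq_false hp
        obtain rfl : f = 2 * h + 1 := by omega
        refine ⟨fun j hj => ?_, fun i t hi ht => ?_⟩
        · rw [Nat.mul_succ] at hj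
          obtain ⟨j', rfl⟩ : ∃ j', j = N + j' := ⟨j - N, by omega⟩
          show (Nat.lor x (Nat.shiftLeft d N)).testBit _ = _
          rw [lor_bit, hx _ (by omega), shl_hi, d1 _ (by omega)]
          rfl
        · show (Nat.lor x (Nat.shiftLeft d N)).testBit _ = _
          cases t with
          | zero => rw [Nat.mul_zero, Nat.add_zero, lor_bit, shl_lo hi, Bool.or_false]
          | succ t =>
            rw [show i + N * (t + 1) = N + (i + N * t) by ring, lor_bit, hx _ (by omega), shl_hi,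
              d2 i t hi (by omega), Bool.false_or]

theorem tile_bit {N f i t : ℕ} (hi : i < N) (ht : t < f) (a : ℕ) :
    (tile N (ones N) f a).testBit (i + N * t) = a.testBit i := by
  unfold tile
  cases h : Nat.beq a 0 with
  | true =>
    rw [Nat.eq_of_beq_eq_true h]
    exact (Nat.zero_testBit _).trans (Nat.zero_testBit _).symm
  | false =>
    show (tlb N (Nat.land a (ones N)) f f).testBit _ = _
    rw [(tlb_bit (fun j hj => by rw [land_bit, ones_bit, decide_eq_false (by omega), Bool.and_false]) f f (by omega)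
      (by omega)).2 i t hi ht, land_bit, ones_bit, decide_eq_true hi, Bool.and_true]

theorem p1_l {S X Y i : ℕ} (hi : i < S) : (p1 S (ones S) X Y).testBit i = X.testBit i := by
  show (Nat.lor (Nat.land X (ones S)) (Nat.shiftLeft Y S)).testBit i = _
  rw [lor_bit, land_bit, ones_bit, decide_eq_true hi, shl_lo hi, Bool.and_true, Bool.or_false]

theorem p1_h (S X Y j : ℕ) : (p1 S (ones S) X Y).testBit (S + j) = Y.testBit j := by
  show (Nat.lor (Nat.land X (ones S)) (Nat.shiftLeft Y S)).testBit _ = _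
  rw [lor_bit, land_bit, ones_bit, decide_eq_false (by omega), shl_hi, Bool.and_false, Bool.false_or]

theorem hf_bit {s j : ℕ} (hj : j < s) (x : ℕ) : (hf s x).testBit j = (x.testBit j || x.testBit (s + j)) := by
  show (Nat.lor (Nat.land x (ones s)) (Nat.shiftRight x s)).testBit j = _
  rw [lor_bit, land_bit, ones_bit, decide_eq_true hj, Bool.and_true, shr_bit]

theorem hf_sub {s x M : ℕ} (h : ∀ j, x.testBit j = true → M.testBit j = true) (j : ℕ)
    (hj : (hf s x).testBit j = true) : (hf s M).testBit j = true := by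
  change (Nat.lor (Nat.land x (ones s)) (Nat.shiftRight x s)).testBit j = true at hj
  show (Nat.lor (Nat.land M (ones s)) (Nat.shiftRight M s)).testBit j = true
  rw [lor_bit, land_bit, shr_bit, Bool.or_eq_true, Bool.and_eq_true] at hj ⊢
  rcases hj with hj | hj
  · exact Or.inl ⟨h _ hj.1, hj.2⟩
  · exact Or.inr (h _ hj)

theorem fold_bit' {N i : ℕ} (hi : i < N) : ∀ (K M x t : ℕ), fchk N K M = true →
    (∀ j, x.testBit j = true → M.testBit j = true) → t < 2 ^ K → M.testBit (i + N * t) = true →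
    (fold N K x).testBit i = x.testBit (i + N * t) := by
  intro K
  induction K with
  | zero =>
    intro M x t _ _ ht _
    obtain rfl : t = 0 := by omega
    rfl
  | succ K ih =>
    intro M x t hc hx ht hM
    have e : fold N (K + 1) x = fold N K (hf (Nat.shiftLeft N K) x) := fz_eq _ _
    have hs : Nat.shiftLeft N K = N * 2 ^ K := Nat.shiftLeft_eq N K
    obtain ⟨h1, h2⟩ := brec_true (b := Nat.beq (Nat.land (Nat.land M (ones (Nat.shiftLeft N K)))
      (Nat.shiftRight M (Nat.shiftLeft N K))) 0) (c := fchk N K (hf (Nat.shiftLeft N K) M)) hc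
    rw [e]
    rw [hs] at h1 h2 ⊢
    have hd : ∀ j, j < N * 2 ^ K → M.testBit j = true → M.testBit (N * 2 ^ K + j) = true → False := by
      intro j hj a b
      have h3 := congrArg (fun z => z.testBit j) (Nat.eq_of_beq_eq_true h1)
      simp only [land_bit, shr_bit, ones_bit, a, b, decide_eq_true hj, Nat.zero_testBit] at h3
      exact absurd h3 (by decide)
    by_cases h4 : t < 2 ^ K
    · have hp := pos_lt hi h4
      rw [ih _ _ t h2 (hf_sub hx) h4 (by rw [hf_bit hp, hM, Bool.true_or]), hf_bit hp]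
      cases h5 : x.testBit (N * 2 ^ K + (i + N * t)) with
      | false => exact Bool.or_false _
      | true => exact (hd _ hp hM (hx _ h5)).elim
    · obtain ⟨t', rfl⟩ : ∃ t', t = 2 ^ K + t' := ⟨t - 2 ^ K, by omega⟩
      have h6 : t' < 2 ^ K := by rw [pow_succ] at ht; omega
      have hp := pos_lt hi h6
      rw [show i + N * (2 ^ K + t') = N * 2 ^ K + (i + N * t') by ring] at hM ⊢
      rw [ih _ _ t' h2 (hf_sub hx) h6 (by rw [hf_bit hp, hM, Bool.or_true]), hf_bit hp]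
      cases h5 : x.testBit (i + N * t') with
      | false => exact Bool.false_or _
      | true => exact (hd _ hp (hx _ h5) hM).elim

theorem kk_eq (x s : ℕ) : kk x s = x := rfl

theorem cls_sound {N K i t : ℕ} (hi : i < N) (ht : t < 2 ^ K) : ∀ (F rest : ℕ) (k : List ℕ → ℕ → Bool),
    cls N K F rest k = true → ∃ l c, k l c = true ∧ (rest.testBit (i + N * t) = true →
      ∃ r < c, ∀ x, (fp N (ones N) K l x).testBit (i + N * r) = x.testBit (i + N * t)) := by
  intro F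
  induction F with
  | zero =>
    intro rest k h
    exact absurd (show false = true from h) (by decide)
  | succ F ih =>
    intro rest k h
    change Bool.rec (motive := fun _ => Bool) (Bool.rec (motive := fun _ => Bool) false
      (cls N K F (kk (Nat.xor rest (pick N K rest)) (Nat.mod (pick N K rest) 4294967291)) fun l c =>
        k (kk (pick N K rest) (Nat.mod (pick N K rest) 4294967291) :: l) (c + 1))
      (fchk N K (kk (pick N K rest) (Nat.mod (pick N K rest) 4294967291)))) (k [] 0) (Nat.beq rest 0) = true at h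
    rw [kk_eq, kk_eq] at h
    generalize pick N K rest = M at h
    cases hz : Nat.beq rest 0 with
    | true =>
      rw [hz] at h
      refine ⟨[], 0, h, fun hr => ?_⟩
      rw [Nat.eq_of_beq_eq_true hz, Nat.zero_testBit] at hr
      exact absurd hr (by decide)
    | false =>
      rw [hz] at h
      obtain ⟨h1, h2⟩ := brec_true h
      obtain ⟨l, c, hk, hl⟩ := ih _ _ h2
      refine ⟨M :: l, c + 1, hk, fun hr => ?_⟩
      cases hM : M.testBit (i + N * t) with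
      | true =>
        refine ⟨0, by omega, fun x => ?_⟩
        show (p1 N (ones N) (fold N K (Nat.land x M)) (fp N (ones N) K l x)).testBit _ = _
        rw [Nat.mul_zero, Nat.add_zero, p1_l hi, fold_bit' hi K M _ t h1 (fun j hj => by
          rw [land_bit, Bool.and_eq_true] at hj
          exact hj.2) ht hM, land_bit, hM, Bool.and_true]
      | false =>
        obtain ⟨r, hrc, hx⟩ := hl (by rw [xor_bit, hr, hM]; rfl)
        refine ⟨r + 1, by omega, fun x => ?_⟩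
        show (p1 N (ones N) (fold N K (Nat.land x M)) (fp N (ones N) K l x)).testBit _ = _
        rw [show i + N * (r + 1) = N + (i + N * r) by ring, p1_h, hx]

theorem runs8_bit {l : Sl} {i j : ℕ} (h : Path l i j) {S : ℕ} (hi : i < S) {q : ℕ} (hq : q < 8) (X : ℕ) :
    (runs8 S (ones S) l X).testBit (j + S * q) = X.testBit (i + S * q) := by
  have e : ∀ s a b l X, runs8 S (ones S) (.cons s a b l) X =
      runs8 S (ones S) l (st s (tile S (ones S) 8 a) (tile S (ones S) 8 b) X) := fun _ _ _ _ _ => fz_eq _ _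
  induction h generalizing X with
  | nil i => rfl
  | @stay s a b tl i j ha hb hp ih =>
    rw [e, ih hi, st_testBit, tile_bit hi hq, tile_bit hi hq, ha, hb, Bool.and_true, Bool.and_false, Bool.or_false]
  | @move s a b tl i j hb ha hp ih =>
    have hi' : i < S := by omega
    rw [e, ih hi', st_testBit, tile_bit hi' hq, tile_bit hi' hq, ha, hb, Bool.and_true, Bool.and_false, Bool.false_or,
      Nat.add_assoc]

theorem spr_bit {N : ℕ} : ∀ (k c : ℕ), (∀ j, N * 3 ^ k ≤ j → (spr N (ones N) k c).testBit j = false) ∧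
    ∀ i t, i < N → t < 3 ^ k → (spr N (ones N) k c).testBit (i + N * t) = c.testBit t := by
  intro k
  induction k with
  | zero =>
    intro c
    have e : ∀ j, (spr N (ones N) 0 c).testBit j = (c.testBit 0 && decide (j < N)) := by
      intro j
      have h1 : Nat.land c 1 = c % 2 := Nat.and_one_is_mod c
      show (Nat.land c 1 * ones N).testBit j = _
      rw [h1, Nat.testBit_zero]
      rcases Nat.mod_two_eq_zero_or_one c with h | h
      · rw [h, Nat.zero_mul, Nat.zero_testBit]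
        rfl
      · rw [h, Nat.one_mul, ones_bit]
        rfl
    refine ⟨fun j hj => ?_, fun i t hi ht => ?_⟩
    · rw [e, decide_eq_false (by omega), Bool.and_false]
    · obtain rfl : t = 0 := by omega
      rw [e, decide_eq_true (by omega), Bool.and_true]
  | succ k ih =>
    intro c
    have e : spr N (ones N) (k + 1) c = Nat.lor (spr N (ones N) k (Nat.land c (ones (3 ^ k))))
        (Nat.shiftLeft (Nat.lor (spr N (ones N) k (Nat.land (Nat.shiftRight c (3 ^ k)) (ones (3 ^ k))))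
          (Nat.shiftLeft (spr N (ones N) k (Nat.land (Nat.shiftRight c (2 * 3 ^ k)) (ones (3 ^ k)))) (N * 3 ^ k)))
          (N * 3 ^ k)) := rfl
    rw [e, pow_succ]
    generalize 3 ^ k = w at ih ⊢
    refine ⟨fun j hj => ?_, fun i t hi ht => ?_⟩
    · have e3 : N * (w * 3) = N * w + (N * w + N * w) := by ring
      obtain ⟨j', rfl⟩ : ∃ j', j = N * w + (N * w + j') := ⟨j - (N * w + N * w), by omega⟩
      rw [lor_bit, (ih _).1 _ (by omega), shl_hi, lor_bit, (ih _).1 _ (by omega), shl_hi, (ih _).1 _ (by omega)]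
      rfl
    · by_cases h1 : t < w
      · rw [lor_bit, (ih _).2 i t hi h1, shl_lo (pos_lt hi h1), land_bit, ones_bit, decide_eq_true h1, Bool.and_true,
          Bool.or_false]
      · obtain ⟨t, rfl⟩ : ∃ t', t = w + t' := ⟨t - w, by omega⟩
        rw [show i + N * (w + t) = N * w + (i + N * t) by ring, lor_bit, (ih _).1 _ (by omega), shl_hi, Bool.false_or]
        by_cases h2 : t < w
        · rw [lor_bit, (ih _).2 i t hi h2, shl_lo (pos_lt hi h2), land_bit, ones_bit, decide_eq_true h2, Bool.and_true,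
            Bool.or_false, shr_bit]
        · obtain ⟨t, rfl⟩ : ∃ t', t = w + t' := ⟨t - w, by omega⟩
          have h3 : t < w := by omega
          rw [show i + N * (w + t) = N * w + (i + N * t) by ring, lor_bit, (ih _).1 _ (by omega), shl_hi, Bool.false_or,
            (ih _).2 i t hi h3, land_bit, ones_bit, decide_eq_true h3, Bool.and_true, shr_bit,
            show 2 * w + t = w + (w + t) by ring]

/-! ### soundness: registers -/

section sound

variable {F : Type*} [Field F] [CharP F 3] {g : F}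

theorem R_bits {i j : ℕ} {X Y : W} {u : F} (h0 : Y.a0.testBit j = X.a0.testBit i) (h1 : Y.a1.testBit j = X.a1.testBit i)
    (h2 : Y.a2.testBit j = X.a2.testBit i) (h3 : Y.a3.testBit j = X.a3.testBit i) (h4 : Y.a4.testBit j = X.a4.testBit i)
    (h5 : Y.a5.testBit j = X.a5.testBit i) (h6 : Y.a6.testBit j = X.a6.testBit i) (h7 : Y.a7.testBit j = X.a7.testBit i)
    (hX : R g i X.q u) : R g j Y.q u := by
  obtain ⟨c, ⟨a0, a1, a2, a3⟩, hu⟩ := hX
  exact ⟨c, ⟨⟨h0.trans a0.1, h1.trans a0.2⟩, ⟨h2.trans a1.1, h3.trans a1.2⟩, ⟨h4.trans a2.1, h5.trans a2.2⟩,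
    ⟨h6.trans a3.1, h7.trans a3.2⟩⟩, hu⟩

theorem R_wmap {i j : ℕ} {f : ℕ → ℕ} (hf : ∀ a, (f a).testBit j = a.testBit i) {X : W} {u : F} (hX : R g i X.q u) :
    R g j (wmap f X).q u := by
  rw [wmap_eq]
  exact R_bits (hf _) (hf _) (hf _) (hf _) (hf _) (hf _) (hf _) (hf _) hX

theorem R_cw {l : Sl} {i j S : ℕ} (h : Path l i j) (hi : i < S) {X : W} {u : F} (hX : R g i X.q u) :
    R g j (cw S (ones S) l X).q u := by
  have hj : j < S := lt_of_le_of_lt h.le hi
  obtain ⟨a0, a1, a2, a3, a4, a5, a6, a7⟩ := X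
  obtain ⟨P, hP⟩ : ∃ P, P = p1 S (ones S) a0 (p1 S (ones S) a1 (p1 S (ones S) a2 (p1 S (ones S) a3 (p1 S (ones S) a4
    (p1 S (ones S) a5 (p1 S (ones S) a6 (p1 S (ones S) a7 0))))))) := ⟨_, rfl⟩
  have e : cw S (ones S) l ⟨a0, a1, a2, a3, a4, a5, a6, a7⟩ = up8 S (ones S) (runs8 S (ones S) l P) := by
    rw [hP]
    rfl
  have key : ∀ q < 8, (runs8 S (ones S) l P).testBit (j + S * q) = P.testBit (i + S * q) :=
    fun q hq => runs8_bit h hi hq P
  rw [e]
  generalize runs8 S (ones S) l P = Z at key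
  have k0 := key 0 (by omega)
  have k1 := key 1 (by omega)
  have k2 := key 2 (by omega)
  have k3 := key 3 (by omega)
  have k4 := key 4 (by omega)
  have k5 := key 5 (by omega)
  have k6 := key 6 (by omega)
  have k7 := key 7 (by omega)
  have e0 : ∀ n, n + S * 0 = n := fun n => by ring
  have e1 : ∀ n, n + S * 1 = S + n := fun n => by ring
  have e2 : ∀ n, n + S * 2 = S + (S + n) := fun n => by ring
  have e3 : ∀ n, n + S * 3 = S + (S + (S + n)) := fun n => by ring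
  have e4 : ∀ n, n + S * 4 = S + (S + (S + (S + n))) := fun n => by ring
  have e5 : ∀ n, n + S * 5 = S + (S + (S + (S + (S + n)))) := fun n => by ring
  have e6 : ∀ n, n + S * 6 = S + (S + (S + (S + (S + (S + n))))) := fun n => by ring
  have e7 : ∀ n, n + S * 7 = S + (S + (S + (S + (S + (S + (S + n)))))) := fun n => by ring
  simp only [e0, e1, e2, e3, e4, e5, e6, e7, hP, p1_h, p1_l hi] at k0 k1 k2 k3 k4 k5 k6 k7
  change R g j (wmk _ _ _ _ _ _ _ _).q u
  rw [wmk_eq]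
  refine R_bits ?_ ?_ ?_ ?_ ?_ ?_ ?_ ?_ hX <;>
    simp only [land_bit, shr_bit, ones_bit, decide_eq_true hj, Bool.and_true, k0, k1, k2, k3, k4, k5, k6, k7]

/-- The register represents `u` in the lane `(i, t)`. -/
def RR (g : F) (N i t : ℕ) : Rg → F → Prop
  | .b X, u => R g i X.q u
  | .f X, u => R g (i + N * t) X.q u

variable {N i t f : ℕ}

theorem R_tw (hi : i < N) (ht : t < f) {X : W} {u : F} (hX : R g i X.q u) : R g (i + N * t) (tw N (ones N) f X).q u := by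
  unfold tw
  cases h : Nat.beq f 1 with
  | true =>
    have := Nat.eq_of_beq_eq_true h
    obtain rfl : t = 0 := by omega
    exact hX
  | false => exact R_wmap (tile_bit hi ht) hX

theorem RR.rd (hi : i < N) (ht : t < f) {r : Rg} {u : F} (h : RR g N i t r u) :
    R g (i + N * t) (rd N (ones N) f r).q u := by
  cases r with
  | b X => exact R_tw hi ht h
  | f X => exact h

theorem RR.un {op : W → W} {u w : F} (hop : ∀ j X, R g j X.q u → R g j (op X).q w) {x : Rg} (hx : RR g N i t x u) :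
    RR g N i t (un op x) w := by
  cases x <;> exact hop _ _ hx

theorem RR.bin (hi : i < N) (ht : t < f) {op : W → W → W} {u v w : F}
    (hop : ∀ j X Y, R g j X.q u → R g j Y.q v → R g j (op X Y).q w) {x y : Rg} (hx : RR g N i t x u)
    (hy : RR g N i t y v) : RR g N i t (bin N (ones N) f op x y) w := by
  cases x <;> cases y
  · exact hop _ _ _ hx hy
  · exact hop _ _ _ (R_tw hi ht hx) hy
  · exact hop _ _ _ hx (R_tw hi ht hy)
  · exact hop _ _ _ hx hy

/-- The registers represent the values. -/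
def Good (g : F) (N i t : ℕ) (rs : List Rg) (ρ : List F) : Prop := List.Forall₂ (RR g N i t) rs ρ

theorem Good.gt {rs : List Rg} {ρ : List F} (h : Good g N i t rs ρ) (j : ℕ) : RR g N i t (gt rs j) (ρ.getD j 0) := by
  unfold Good at h
  induction h generalizing j with
  | nil => exact R.zero i
  | cons hX h ih =>
    cases j with
    | zero => exact hX
    | succ n => exact ih n

theorem Good.snoc {rs : List Rg} {ρ : List F} (h : Good g N i t rs ρ) {x : Rg} {u : F} (hx : RR g N i t x u) :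
    Good g N i t (snoc rs x) (ρ ++ [u]) := by
  unfold Good at h
  induction h with
  | nil => exact List.Forall₂.cons hx List.Forall₂.nil
  | cons hX h ih => exact List.Forall₂.cons hX ih

theorem Good.rmap {rs : List Rg} {ρ : List F} (h : Good g N i t rs ρ) {N' i' t' : ℕ} {φ : Rg → Rg}
    (hφ : ∀ r u, RR g N i t r u → RR g N' i' t' (φ r) u) : Good g N' i' t' (rmap φ rs) ρ := by
  unfold Good at h
  induction h with
  | nil => exact List.Forall₂.nil
  | cons hX h ih => exact List.Forall₂.cons (hφ _ _ hX) ih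

theorem Good.sels {rs : List Rg} {ρ : List F} (h : Good g N i t rs ρ) (js : List ℕ) :
    Good g N i t (sels rs js) (js.map fun j => ρ.getD j 0) := by
  induction js with
  | nil => exact List.Forall₂.nil
  | cons j js ih => exact List.Forall₂.cons (h.gt j) ih

theorem ev_sound (hg : g ^ 4 = -g + 1) (hi : i < N) (ht : t < f) {ks ls : List Rg} {κ ρ : List F}
    (hk : Good g N i t ks κ) (hl : Good g N i t ls ρ) (e : Ex) :
    RR g N i t (ev N (ones N) f ks ls e) (e.eval g κ ρ) := by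
  induction e with
  | k j => exact hk.gt j
  | v j => exact hl.gt j
  | pw n =>
    show R g i (wq _).q _
    rw [wq_q]
    exact R_pw hg (by rw [ones_bit]; exact decide_eq_true hi) n
  | zero => exact R.zero i
  | add x y ihx ihy => exact RR.bin hi ht (fun j X Y a b => by rw [wadd_q]; exact a.add b) ihx ihy
  | sub x y ihx ihy => exact RR.bin hi ht (fun j X Y a b => by rw [wsub_q]; exact a.sub b) ihx ihy
  | neg x ihx => exact RR.un (fun j X a => by rw [wneg_q]; exact a.neg) ihx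
  | mul x y ihx ihy => exact RR.bin hi ht (fun j X Y a b => by rw [wmul_q]; exact a.mul hg b) ihx ihy
  | fr x ihx => exact RR.un (fun j X a => by rw [wfr_q]; exact a.frob hg) ihx

theorem R_eq_zero {j : ℕ} {X : Q} {u : F} (hX : R g j X u) (h : X.nz.testBit j = false) : u = 0 := by
  obtain ⟨c, ⟨a0, a1, a2, a3⟩, rfl⟩ := hX
  rw [Q.nz, Nat.testBit_or, Nat.testBit_or, Nat.testBit_or, a0.1, a1.1, a2.1, a3.1] at h
  simp only [Bool.or_eq_false_iff, decide_eq_false_iff_not, not_not] at h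
  obtain ⟨⟨h0, h1⟩, h2, h3⟩ := h
  simp [toF, h0, h1, h2, h3]

theorem ne_of_bit {m j : ℕ} (h : m.testBit j = true) : Nat.beq m 0 = false := by
  cases hz : Nat.beq m 0 with
  | false => rfl
  | true =>
    rw [Nat.eq_of_beq_eq_true hz, Nat.zero_testBit] at h
    exact absurd h (by decide)

theorem cns_sound (hg : g ^ 4 = -g + 1) (hi : i < N) (ht : t < f) {ks ls : List Rg} {κ ρ : List F}
    (hk : Good g N i t ks κ) (hl : Good g N i t ls ρ) {k : ℕ → Bool} :
    ∀ (cs : List Ex) (m : ℕ), (∀ c ∈ cs, c.eval g κ ρ = 0) → m.testBit (i + N * t) = true →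
      cns N (ones N) f ks ls k cs m = true → ∃ m' : ℕ, m'.testBit (i + N * t) = true ∧ k m' = true := by
  intro cs
  induction cs with
  | nil => exact fun m _ hm h => ⟨m, hm, h⟩
  | cons c cs ih =>
    intro m hc hm h
    have hX := (ev_sound hg hi ht hk hl c).rd hi ht
    have h1 : (Nat.xor m (Nat.land m (wnz (rd N (ones N) f (ev N (ones N) f ks ls c))))).testBit (i + N * t) = true := by
      rw [xor_bit, land_bit, hm, wnz_eq, hX.nz hg (hc c List.mem_cons_self)]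
      rfl
    change Bool.rec (motive := fun _ => Bool) (cns N (ones N) f ks ls k cs _) true (Nat.beq _ 0) = true at h
    rw [ne_of_bit h1] at h
    exact ih _ (fun c' hc' => hc c' (List.mem_cons_of_mem _ hc')) h1 h

theorem lf_sound (hg : g ^ 4 = -g + 1) (hi : i < N) (ht : t < f) {ks ls : List Rg} {κ ρ : List F}
    (hk : Good g N i t ks κ) (hl : Good g N i t ls ρ) {V : ℕ} (hV : V.testBit (i + N * t) = true) :
    ∀ ds : List Ex, lf N (ones N) f ks ls V ds = true → ∀ d ∈ ds, d.eval g κ ρ = 0 := by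
  intro ds
  induction ds with
  | nil => exact fun _ d hd => absurd hd List.not_mem_nil
  | cons d ds ih =>
    intro h d' hd'
    obtain ⟨h0, h⟩ := brec_true (b := Nat.beq (Nat.land V (wnz (rd N (ones N) f (ev N (ones N) f ks ls d)))) 0)
      (c := lf N (ones N) f ks ls V ds) h
    rcases List.mem_cons.1 hd' with rfl | hd'
    · apply R_eq_zero ((ev_sound hg hi ht hk hl d').rd hi ht)
      have h1 := congrArg (fun z => z.testBit (i + N * t)) (Nat.eq_of_beq_eq_true h0)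
      simp only [land_bit, hV, Bool.true_and, Nat.zero_testBit, wnz_eq] at h1
      exact h1
    · exact ih h d' hd'

theorem brec_or {a b c : Bool} (h : Bool.rec (motive := fun _ => Bool) a b c = true) :
    (c = false ∧ a = true) ∨ (c = true ∧ b = true) := by
  cases c
  · exact Or.inl ⟨rfl, h⟩
  · exact Or.inr ⟨rfl, h⟩

theorem and2_true {a b : Bool} (h : and2 a b = true) : a = true ∧ b = true := brec_true h

/-- The values are in a lane which is alive, and the continuation holds. -/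
def Ok (g : F) (k : Kn) (κ ρ : List F) : Prop :=
  ∃ (ks ls : List Rg) (N f V i t : ℕ), i < N ∧ t < f ∧ V.testBit (i + N * t) = true ∧ Good g N i t ks κ ∧
    Good g N i t ls ρ ∧ k ks ls N (ones N) f V = true

theorem cmp_sound (hi : i < N) (ht : t < f) {ks ls : List Rg} {κ ρ : List F} (hk : Good g N i t ks κ)
    (hl : Good g N i t ls ρ) {m : ℕ} (hm : m.testBit (i + N * t) = true) {k : Kn}
    (h : cmp ks ls N (ones N) f m k = true) : Ok g k κ ρ := by
  unfold cmp at h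
  rw [fc_eq] at h
  rcases brec_or h with ⟨-, h⟩ | ⟨-, h⟩
  swap
  · exact ⟨ks, ls, N, f, m, i, t, hi, ht, hm, hk, hl, h⟩
  · rw [fc_eq, fc_eq] at h
    obtain ⟨l, Mf, h1, h2⟩ := net_path h
    obtain ⟨j, hj, hp⟩ := h2 _ hm
    beta_reduce at h1
    rw [fc_eq] at h1
    generalize Nat.succ (bl Mf _ 0) = n at h1
    obtain ⟨h3, h4⟩ := brec_true h1
    rw [fc_eq] at h4
    have hn : j < n := by
      by_contra hc
      have h5 := congrArg (fun z => z.testBit (j - n)) (Nat.eq_of_beq_eq_true h3)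
      simp only [shr_bit, Nat.zero_testBit] at h5
      rw [Nat.add_sub_cancel' (not_lt.1 hc), hj] at h5
      exact absurd h5 (by decide)
    have hφ : ∀ r u, RR g N i t r u → RR g n j 0 (.b (cw (Nat.mul N f) (ones (Nat.mul N f)) l (rd N (ones N) f r))) u :=
      fun r u hr => R_cw hp (pos_lt hi ht) (hr.rd hi ht)
    exact ⟨_, _, n, 1, Mf, j, 0, hn, Nat.one_pos, hj, hk.rmap hφ, hl.rmap hφ, h4⟩

theorem flt_sound (hi : i < N) (ht : t < f) {ks ls : List Rg} {κ ρ : List F} (hk : Good g N i t ks κ)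
    (hl : Good g N i t ls ρ) {m : ℕ} (hm : m.testBit (i + N * t) = true) {k : Kn}
    (h : flt ks ls N (ones N) f m k = true) : Ok g k κ ρ := by
  unfold flt at h
  rcases brec_or h with ⟨-, h⟩ | ⟨h0, -⟩
  swap
  · rw [ne_of_bit hm] at h0
    exact absurd h0 (by decide)
  rcases brec_or h with ⟨-, h⟩ | ⟨-, h⟩
  · exact cmp_sound hi ht hk hl hm h
  · have hK : t < 2 ^ (Nat.succ (Nat.log2 (Nat.pred f))) :=
      lt_of_le_of_lt (show t ≤ f - 1 by omega) Nat.lt_log2_self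
    rw [fc_eq] at h
    obtain ⟨l, c, h1, h2⟩ := cls_sound hi hK _ _ _ h
    beta_reduce at h1
    rw [fc_eq] at h1
    obtain ⟨r, hr, hx⟩ := h2 hm
    have hφ : ∀ x u, RR g N i t x u → RR g N i r (fr1 N (ones N) (Nat.succ (Nat.log2 (Nat.pred f))) l x) u := by
      intro x u hu
      cases x with
      | b X => exact hu
      | f X => exact R_wmap hx hu
    exact cmp_sound hi hr (hk.rmap hφ) (hl.rmap hφ) ((hx m).trans hm) h1

theorem wide_sound (hi : i < N) (ht : t < f) {ks ls : List Rg} {κ ρ : List F} (hk : Good g N i t ks κ)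
    (hl : Good g N i t ls ρ) {V : ℕ} (hV : V.testBit (i + N * t) = true) {f' : ℕ}
    {k : List Rg → List Rg → ℕ → ℕ → ℕ → Bool} (h : wide ks ls N (ones N) f V f' k = true) :
    ∃ (ks' ls' : List Rg) (S V' j : ℕ), j < S ∧ k ks' ls' S (ones S) V' = true ∧ (∀ s < f', V'.testBit (j + S * s) = true) ∧
      ∀ s, Good g S j s ks' κ ∧ Good g S j s ls' ρ := by
  have hφ : ∀ s r u, RR g N i t r u → RR g (N * f) (i + N * t) s (.b (rd N (ones N) f r)) u :=
    fun s r u hr => hr.rd hi ht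
  exact ⟨_, _, N * f, _, i + N * t, pos_lt hi ht, h, fun s hs => (tile_bit (pos_lt hi ht) hs V).trans hV,
    fun s => ⟨hk.rmap (hφ s), hl.rmap (hφ s)⟩⟩

theorem alts_sound (hg : g ^ 4 = -g + 1) (hi : i < N) {ks : List Rg} {κ : List F} (hk : Good g N i 0 ks κ) {e : Ex} :
    ∀ {es : List Ex}, e ∈ es → ∃ s < len es, R g (i + N * s) (alts N (ones N) ks es).q (e.eval g κ []) := by
  intro es
  induction es with
  | nil => exact fun h => absurd h List.not_mem_nil
  | cons e' es ih =>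
    intro he
    have e1 : ∀ X Y : W, wcat N (ones N) X Y = ⟨p1 N (ones N) X.a0 Y.a0, p1 N (ones N) X.a1 Y.a1, p1 N (ones N) X.a2 Y.a2,
        p1 N (ones N) X.a3 Y.a3, p1 N (ones N) X.a4 Y.a4, p1 N (ones N) X.a5 Y.a5, p1 N (ones N) X.a6 Y.a6,
        p1 N (ones N) X.a7 Y.a7⟩ := by
      intro X Y
      cases X; cases Y
      exact wmk_eq _ _ _ _ _ _ _ _
    have e2 : alts N (ones N) ks (e' :: es) =
      wcat N (ones N) (rd N (ones N) 1 (ev N (ones N) 1 ks [] e')) (alts N (ones N) ks es) := rfl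
    rw [e2, e1]
    rcases List.mem_cons.1 he with rfl | he
    · refine ⟨0, Nat.succ_pos _, ?_⟩
      exact R_bits (p1_l hi) (p1_l hi) (p1_l hi) (p1_l hi) (p1_l hi) (p1_l hi) (p1_l hi) (p1_l hi)
        ((ev_sound hg hi Nat.one_pos hk List.Forall₂.nil e).rd hi Nat.one_pos)
    · obtain ⟨s, hs, h⟩ := ih he
      refine ⟨s + 1, Nat.succ_lt_succ hs, ?_⟩
      rw [show i + N * (s + 1) = N + (i + N * s) by ring]
      exact R_bits (p1_h _ _ _ _) (p1_h _ _ _ _) (p1_h _ _ _ _) (p1_h _ _ _ _) (p1_h _ _ _ _) (p1_h _ _ _ _)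
        (p1_h _ _ _ _) (p1_h _ _ _ _) h

theorem R_sw (hi : i < N) {s w : ℕ} (hs : s < 81) {X : W} {u : F} (hX : R g (w + s) X.q u) :
    R g (i + N * s) (sw N (ones N) w X).q u :=
  R_wmap (f := fun a => fc (Nat.shiftRight a w) (spr N (ones N) 4)) (fun a => by
    rw [fc_eq, (spr_bit 4 (Nat.shiftRight a w)).2 i s hi (by norm_num; exact hs), shr_bit]) hX

theorem R_w79 (hg : g ^ 4 = -g + 1) {j : ℕ} {Y : W} {y : F} (hY : R g j Y.q y) : R g j (w79 Y).q (y ^ 79) := by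
  have hZ := ((((hY.mul hg hY).frob hg).frob hg).frob hg |>.mul hg (((hY.mul hg hY).frob hg).frob hg)).mul hg
    (((hY.mul hg hY).frob hg).mul hg hY)
  have e79 : ((((y * y) ^ 3) ^ 3) ^ 3 * (((y * y) ^ 3) ^ 3)) * (((y * y) ^ 3) * y) = y ^ 79 := by ring
  rw [e79] at hZ
  have e : (w79 Y).q = ((Y.q.mul Y.q).frob.frob.frob.mul (Y.q.mul Y.q).frob.frob).mul ((Y.q.mul Y.q).frob.mul Y.q) := by
    unfold w79
    simp only [wmul_q, wfr_q]
  rw [e]
  exact hZ

theorem run_alt (es : List Ex) (p : Plan) (ks ls : List Rg) (N O f V : ℕ) : run (.alt es p) ks ls N O f V =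
    fc (len es) fun f' => wide ks ls N O f V f' fun ks ls S OS V' =>
      run p (snoc ks (.f (alts S OS ks es))) ls S OS f' V' := rfl

theorem run_ex (p : Plan) (ks ls : List Rg) (N O f V : ℕ) : run (.ex p) ks ls N O f V =
    wide ks ls N O f V 81 fun ks ls S OS V' =>
      run p ks (snoc (snoc ls (.f (sw S OS 0 y0))) (.f (sw S OS 0 z0))) S OS 81 V' := rfl

theorem run_exn (p : Plan) (ks ls : List Rg) (N O f V : ℕ) : run (.exn p) ks ls N O f V =
    wide ks ls N O f V 80 fun ks ls S OS V' =>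
      run p ks (snoc (snoc ls (.f (sw S OS 1 y0))) (.f (sw S OS 1 z0))) S OS 80 V' := rfl

theorem R_z0 (hg : g ^ 4 = -g + 1) {j : ℕ} {y : F} (hY : R g j y0.q y) : R g j z0.q (y ^ 79) := by
  unfold z0
  exact R_w79 hg hY

/-- **Soundness of the machine.** -/
theorem run_sound (hg : g ^ 4 = -g + 1)
    (hy0 : ∀ y : F, y ^ 81 = y → ∃ s < 81, R g s y0.q y ∧ (y ≠ 0 → 0 < s)) {G : Prop} :
    ∀ (p : Plan) {κ ρ : List F}, Ok g (run p) κ ρ → p.WP g κ ρ G → G := by
  intro p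
  induction p with
  | kf e p ih =>
    rintro κ ρ ⟨ks, ls, N, f, V, i, t, hi, ht, hV, hk, hl, h⟩ hw
    exact ih ⟨_, _, N, f, V, i, t, hi, ht, hV, hk.snoc (ev_sound hg hi ht hk List.Forall₂.nil e), hl, h⟩ hw
  | kfl cs p ih =>
    rintro κ ρ ⟨ks, ls, N, f, V, i, t, hi, ht, hV, hk, hl, h⟩ hw
    obtain ⟨m, hm, h⟩ := cns_sound hg hi ht hk List.Forall₂.nil cs V hw.1 hV h
    exact ih (flt_sound hi ht hk hl hm h) hw.2
  | ksp e p q ihp ihq =>
    rintro κ ρ ⟨ks, ls, N, f, V, i, t, hi, ht, hV, hk, hl, h⟩ hw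
    have hX := (ev_sound hg hi ht hk List.Forall₂.nil e).rd hi ht
    obtain ⟨h1, h2⟩ := and2_true
      (a := flt ks ls N (ones N) f (Nat.xor V (Nat.land V (wnz (rd N (ones N) f (ev N (ones N) f ks [] e))))) (run p))
      (b := flt ks ls N (ones N) f (Nat.land V (wnz (rd N (ones N) f (ev N (ones N) f ks [] e)))) (run q)) h
    cases hz : (rd N (ones N) f (ev N (ones N) f ks [] e)).q.nz.testBit (i + N * t) with
    | false =>
      exact ihp (flt_sound hi ht hk hl (by rw [xor_bit, land_bit, hV, wnz_eq, hz]; rfl) h1) (hw.1 (R_eq_zero hX hz))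
    | true =>
      refine ihq (flt_sound hi ht hk hl (by rw [land_bit, hV, wnz_eq, hz]; rfl) h2) (hw.2 fun h0 => ?_)
      rw [hX.nz hg h0] at hz
      exact absurd hz (by decide)
  | alt es p ih =>
    rintro κ ρ ⟨ks, ls, N, f, V, i, t, hi, ht, hV, hk, hl, h⟩ ⟨e, he, hw⟩
    rw [run_alt, fc_eq] at h
    obtain ⟨ks', ls', S, V', j, hj, h1, h2, h3⟩ := wide_sound hi ht hk hl hV h
    obtain ⟨s, hs, hX⟩ := alts_sound hg hj (h3 0).1 he
    exact ih ⟨_, _, S, len es, V', j, s, hj, hs, h2 s hs, (h3 s).1.snoc (x := .f _) hX, (h3 s).2, h1⟩ hw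
  | or p q ihp ihq =>
    rintro κ ρ ⟨ks, ls, N, f, V, i, t, hi, ht, hV, hk, hl, h⟩ hw
    obtain ⟨h1, h2⟩ := and2_true (a := run p ks ls N (ones N) f V) (b := run q ks ls N (ones N) f V) h
    rcases hw with hw | hw
    · exact ihp ⟨_, _, N, f, V, i, t, hi, ht, hV, hk, hl, h1⟩ hw
    · exact ihq ⟨_, _, N, f, V, i, t, hi, ht, hV, hk, hl, h2⟩ hw
  | ex p ih =>
    rintro κ ρ ⟨ks, ls, N, f, V, i, t, hi, ht, hV, hk, hl, h⟩ ⟨y, hy, hw⟩
    rw [run_ex] at h
    obtain ⟨ks', ls', S, V', j, hj, h1, h2, h3⟩ := wide_sound hi ht hk hl hV h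
    obtain ⟨s, hs, hY, -⟩ := hy0 y hy
    rw [← Nat.zero_add s] at hY
    have h4 := ((h3 s).2.snoc (x := .f _) (R_sw hj hs hY)).snoc (x := .f _) (R_sw hj hs (R_z0 hg hY))
    rw [List.append_assoc, List.singleton_append] at h4
    exact ih ⟨_, _, S, 81, V', j, s, hj, hs, h2 s hs, (h3 s).1, h4, h1⟩ hw
  | exn p ih =>
    rintro κ ρ ⟨ks, ls, N, f, V, i, t, hi, ht, hV, hk, hl, h⟩ ⟨y, hy, hw⟩
    rw [run_exn] at h
    obtain ⟨ks', ls', S, V', j, hj, h1, h2, h3⟩ := wide_sound hi ht hk hl hV h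
    have hne : y ≠ 0 := by
      rintro rfl
      rw [zero_pow (by norm_num)] at hy
      exact zero_ne_one hy
    obtain ⟨s, hs, hY, hs0⟩ := hy0 y (by rw [pow_succ, hy, one_mul])
    obtain ⟨s, rfl⟩ : ∃ s', s = 1 + s' := ⟨s - 1, by have := hs0 hne; omega⟩
    have hs1 : s < 80 := by omega
    have h4 := ((h3 s).2.snoc (x := .f _) (R_sw hj (by omega) hY)).snoc (x := .f _) (R_sw hj (by omega) (R_z0 hg hY))
    rw [List.append_assoc, List.singleton_append] at h4
    exact ih ⟨_, _, S, 80, V', j, s, hj, hs1, h2 s hs1, (h3 s).1, h4, h1⟩ hw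
  | df e p ih =>
    rintro κ ρ ⟨ks, ls, N, f, V, i, t, hi, ht, hV, hk, hl, h⟩ hw
    exact ih ⟨_, _, N, f, V, i, t, hi, ht, hV, hk, hl.snoc (ev_sound hg hi ht hk hl e), h⟩ hw
  | fl cs js p ih =>
    rintro κ ρ ⟨ks, ls, N, f, V, i, t, hi, ht, hV, hk, hl, h⟩ hw
    obtain ⟨m, hm, h⟩ := cns_sound hg hi ht hk hl cs V hw.1 hV h
    exact ih (flt_sound hi ht hk (hl.sels js) hm h) hw.2
  | sel js p ih =>
    rintro κ ρ ⟨ks, ls, N, f, V, i, t, hi, ht, hV, hk, hl, h⟩ hw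
    exact ih ⟨_, _, N, f, V, i, t, hi, ht, hV, hk, hl.sels js, h⟩ hw
  | leaf ds =>
    rintro κ ρ ⟨ks, ls, N, f, V, i, t, hi, ht, hV, hk, hl, h⟩ hw
    exact hw (lf_sound hg hi ht hk hl hV ds h)

theorem ini_sound {d j : ℕ} (hd : d < 3 ^ 7) (hj : j < 7) :
    RR g 2187 d 0 (ini j) (io F ((dg d j : ℕ) : ZMod 3)) := by
  show R g d (wq _).q _
  rw [wq_q]
  have h := dgp_rt (n0 := 1) (i := 0) Nat.one_pos hj hd
  rw [Nat.one_mul, Nat.zero_add] at h
  exact ⟨⟨((dg d j : ℕ) : ZMod 3), 0, 0, 0⟩, ⟨h, T.Rt.zero d, T.Rt.zero d, T.Rt.zero d⟩, by simp [toF]⟩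

/-- **Soundness of the checks.** -/
theorem rng_sound' (hg : g ^ 4 = -g + 1)
    (hy0 : ∀ y : F, y ^ 81 = y → ∃ s < 81, R g s y0.q y ∧ (y ≠ 0 → 0 < s)) {G : Prop} {p : Plan}
    (H : ∀ d < 2187, ∃ M : ℕ, M.testBit d = true ∧ rng p M = true) {ks : List F} (hl : ks.length = 7)
    (ht : ∀ x ∈ ks, x = 0 ∨ x = 1 ∨ x = -1) (hw : p.WP g ks [] G) : G := by
  have key : ∀ a : F, (a = 0 ∨ a = 1 ∨ a = -1) → ∃ z : ℕ, z < 3 ∧ a = io F ((z : ℕ) : ZMod 3) := by
    rintro a (rfl | rfl | rfl)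
    · exact ⟨0, by norm_num, by simp⟩
    · exact ⟨1, by norm_num, by simp⟩
    · refine ⟨2, by norm_num, ?_⟩
      have h3 := three_eq_zero (F := F)
      have h2 : io F ((2 : ℕ) : ZMod 3) = 2 := by
        rw [Nat.cast_ofNat, map_ofNat]
      rw [h2]
      linear_combination -h3
  have hex : ∀ j : ℕ, ∃ z : ℕ, z < 3 ∧ (j < 7 → ks.getD j 0 = io F ((z : ℕ) : ZMod 3)) := by
    intro j
    by_cases hj : j < ks.length
    · obtain ⟨z, hz, h⟩ := key (ks.getD j 0) (ht _ (by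
        rw [List.getD_eq_getElem _ _ hj]
        exact List.getElem_mem hj))
      exact ⟨z, hz, fun _ => h⟩
    · exact ⟨0, by norm_num, fun h => absurd (by omega) hj⟩
  choose z hz hz' using hex
  obtain ⟨d, hd, hdz⟩ := exists_digits z hz 7
  obtain ⟨M, hM, h⟩ := H d hd
  have he : ((List.range 7).map fun j => io F ((dg d j : ℕ) : ZMod 3)) = ks := by
    apply List.ext_getElem
    · rw [List.length_map, List.length_range, hl]
    · intro j hj1 hj2
      have hj7 : j < 7 := by omega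
      rw [List.getElem_map, List.getElem_range, hdz j hj7, ← hz' j hj7, List.getD_eq_getElem _ _ hj2]
  have hk : Good g 2187 d 0 [ini 0, ini 1, ini 2, ini 3, ini 4, ini 5, ini 6] ks := by
    rw [← he]
    exact .cons (ini_sound hd (by omega)) (.cons (ini_sound hd (by omega)) (.cons (ini_sound hd (by omega))
      (.cons (ini_sound hd (by omega)) (.cons (ini_sound hd (by omega)) (.cons (ini_sound hd (by omega))
        (.cons (ini_sound hd (by omega)) .nil))))))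
  exact run_sound hg hy0 p (flt_sound (f := 1) hd Nat.one_pos hk List.Forall₂.nil hM h) hw

end sound

end Cfsg.Agent.H728.PM
end

private theorem dce_c8530a945d88 : _root_.True := by
  try have : _root_.True := by simp only [_root_.Cfsg.Agent.H516.BS.C.Qr.eq_1]
  try have : _root_.True := by simp only [_root_.Cfsg.Agent.H728.BS.pv.eq_1]
  try have : _root_.True := by simp only [_root_.Cfsg.Agent.H728.BS.pv.eq_def]
  try have : _root_.True := by simp only [_root_.Cfsg.Agent.H728.BS.pv.eq_2]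
  try have : _root_.True := by simp only [_root_.Cfsg.Agent.H728.PM.p79.eq_1]
  try have : _root_.True := by simp only [_root_.Cfsg.Agent.H728.BS.next.eq_1]
  try have : _root_.True := by simp only [_root_.Cfsg.Agent.H728.BS.next.eq_def]
  try have : _root_.True := by simp only [_root_.Cfsg.Agent.H516.BS.C.Qc.eq_1]
  try have : _root_.True := by simp only [_root_.Cfsg.Agent.H728.BS.next.eq_2]
  try have : _root_.True := by simp only [_root_.Cfsg.Agent.H728.BS.next._sparseCasesOn_1.else_eq]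
  exact _root_.True.intro
end

-- part: H837/E83/NM11
section
prune_inst 0x352041000500020800002596310020446400019200630001d9e00f440a46f36389022f0078b03f10112aaea040088040001000d9027000000e008e004001012084ab5226b37cbd0437001fc09087180c00000000000000000000000000041004000000000
set_option linter.all false
open scoped Cfsg.Agent.FastGrp

-- part: H837/JM/Math
section
/-!
# Generators of the Mathieu groups containing a given group `11:5` (helper837)

`x = (z ↦ 2z)` of order 11, `f` of order 5 with `f x f⁻¹ = x³`, `w` inverting `f` with `(x w)³ = 1` (these generate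
`L₂(11)`), and elements `u, v, k` of order 4 with square `w`, acting on `f` as squaring:
`M11 = ⟨x, u⟩`, `M12 = ⟨x, u, v⟩`, `M22 = ⟨x, k⟩`, `M23 = ⟨x, v, k⟩`, `M24 = ⟨x, u, v, k⟩`.
-/

set_option autoImplicit false

namespace Cfsg.Agent.H837.JM.Math

open Cfsg Cfsg.Agent.H994.TwoGen Cfsg.Agent.H994.TwoGen.Chain
open Cfsg.Agent.J4.M24Hom (fn perm_ext)

/-- table -/
def tX : List ℕ := [0, 2, 4, 6, 8, 10, 12, 14, 16, 18, 20, 22, 1, 3, 5, 7, 9, 11, 13, 15, 17, 19, 21, 23]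
/-- table of the inverse -/
def tXi : List ℕ := [0, 12, 1, 13, 2, 14, 3, 15, 4, 16, 5, 17, 6, 18, 7, 19, 8, 20, 9, 21, 10, 22, 11, 23]
/-- the permutation `X` -/
def X : Equiv.Perm GolayPt where
  toFun := fn tX
  invFun := fn tXi
  left_inv := by decide +kernel
  right_inv := by decide +kernel

/-- table -/
def tF : List ℕ := [0, 18, 6, 3, 2, 21, 1, 5, 16, 12, 7, 19, 8, 9, 17, 15, 13, 11, 4, 22, 10, 20, 14, 23]
/-- table of the inverse -/
def tFi : List ℕ := [0, 6, 4, 3, 18, 7, 2, 10, 12, 13, 20, 17, 9, 16, 22, 15, 8, 14, 1, 11, 21, 5, 19, 23]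
/-- the permutation `F` -/
def F : Equiv.Perm GolayPt where
  toFun := fn tF
  invFun := fn tFi
  left_inv := by decide +kernel
  right_inv := by decide +kernel

/-- table -/
def tW : List ℕ := [0, 2, 1, 3, 18, 5, 6, 21, 16, 9, 20, 22, 13, 12, 17, 15, 8, 14, 4, 19, 10, 7, 11, 23]
/-- table of the inverse -/
def tWi : List ℕ := [0, 2, 1, 3, 18, 5, 6, 21, 16, 9, 20, 22, 13, 12, 17, 15, 8, 14, 4, 19, 10, 7, 11, 23]
/-- the permutation `W` -/
def W : Equiv.Perm GolayPt where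
  toFun := fn tW
  invFun := fn tWi
  left_inv := by decide +kernel
  right_inv := by decide +kernel

/-- table -/
def tU : List ℕ := [0, 18, 4, 3, 1, 19, 6, 17, 13, 9, 22, 10, 8, 16, 7, 23, 12, 21, 2, 5, 11, 14, 20, 15]
/-- table of the inverse -/
def tUi : List ℕ := [0, 4, 18, 3, 2, 19, 6, 14, 12, 9, 11, 20, 16, 8, 21, 23, 13, 7, 1, 5, 22, 17, 10, 15]
/-- the permutation `U` -/
def U : Equiv.Perm GolayPt where
  toFun := fn tU
  invFun := fn tUi
  left_inv := by decide +kernel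
  right_inv := by decide +kernel

theorem X_mem24 : X ∈ M24 :=
  SporadicA.GolayWalk.mem_M24_of_table X tX rfl (by decide +kernel) (by decide +kernel)

theorem F_mem24 : F ∈ M24 :=
  SporadicA.GolayWalk.mem_M24_of_table F tF rfl (by decide +kernel) (by decide +kernel)

theorem W_mem24 : W ∈ M24 :=
  SporadicA.GolayWalk.mem_M24_of_table W tW rfl (by decide +kernel) (by decide +kernel)

theorem U_mem24 : U ∈ M24 :=
  SporadicA.GolayWalk.mem_M24_of_table U tU rfl (by decide +kernel) (by decide +kernel)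

open Cfsg.Agent.SporadicStructure.M11InvPerms Cfsg.Agent.MTwelveType.SylowModel in
theorem X_dd : ∀ p ∈ dd, X p ∈ dd := by decide +kernel

open Cfsg.Agent.SporadicStructure.M11InvPerms Cfsg.Agent.MTwelveType.SylowModel in
theorem F_dd : ∀ p ∈ dd, F p ∈ dd := by decide +kernel

open Cfsg.Agent.SporadicStructure.M11InvPerms Cfsg.Agent.MTwelveType.SylowModel in
theorem W_dd : ∀ p ∈ dd, W p ∈ dd := by decide +kernel

open Cfsg.Agent.SporadicStructure.M11InvPerms Cfsg.Agent.MTwelveType.SylowModel in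
theorem U_dd : ∀ p ∈ dd, U p ∈ dd := by decide +kernel

theorem X_mem12 : X ∈ Spor.M12 := MTwelveType.SylowModel.mem_M12 X_mem24 X_dd
theorem F_mem12 : F ∈ Spor.M12 := MTwelveType.SylowModel.mem_M12 F_mem24 F_dd
theorem W_mem12 : W ∈ Spor.M12 := MTwelveType.SylowModel.mem_M12 W_mem24 W_dd
theorem U_mem12 : U ∈ Spor.M12 := MTwelveType.SylowModel.mem_M12 U_mem24 U_dd
theorem X_mem11 : X ∈ Spor.M11 := by
  refine Subgroup.mem_inf.2 ⟨X_mem12, ?_⟩
  rw [MulAction.mem_stabilizer_iff]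
  show X (some 0) = some 0
  decide +kernel
theorem F_mem11 : F ∈ Spor.M11 := by
  refine Subgroup.mem_inf.2 ⟨F_mem12, ?_⟩
  rw [MulAction.mem_stabilizer_iff]
  show F (some 0) = some 0
  decide +kernel
theorem W_mem11 : W ∈ Spor.M11 := by
  refine Subgroup.mem_inf.2 ⟨W_mem12, ?_⟩
  rw [MulAction.mem_stabilizer_iff]
  show W (some 0) = some 0
  decide +kernel
theorem U_mem11 : U ∈ Spor.M11 := by
  refine Subgroup.mem_inf.2 ⟨U_mem12, ?_⟩
  rw [MulAction.mem_stabilizer_iff]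
  show U (some 0) = some 0
  decide +kernel
/-- the stabiliser chain of `M11` -/
def chain11 : List (GolayPt × List (List ℕ)) :=
  [(some 1, [[], [0], [1], [2], [3], [0, 1], [0, 3], [2, 1], [2, 2], [3, 2], [0, 0, 1]]), (some 2, [[], [1, 0, 0], [1,
   1, 0], [2, 1, 1], [2, 2, 3], [1, 0, 1, 1], [1, 1, 2, 3], [2, 2, 1, 0], [0, 3, 0, 0, 0], [2, 2, 1, 2, 3]]), (some
   3, [[], [0, 1, 0, 0, 1, 0], [0, 3, 0, 1, 2, 3], [0, 3, 2, 1, 0, 1], [2, 3, 0, 3, 0, 0], [2, 3, 2, 2, 3, 2], [1,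
   0, 0, 0, 3, 0, 3], [1, 2, 1, 2, 2, 2, 3], [0, 1, 0, 1, 2, 1, 0, 0]]), (some 4, [[], [0, 0, 0, 1, 2, 2, 2], [0, 0,
   0, 3, 2, 2, 2], [0, 0, 0, 0, 3, 0, 0, 3], [0, 0, 0, 1, 1, 2, 2, 2], [0, 1, 0, 1, 1, 2, 2, 1], [0, 0, 0, 1, 0, 3,
   0, 0, 3], [0, 0, 0, 3, 0, 3, 0, 0, 3]])]

theorem chain11_ok : ok (X) (U) [] chain11 = true := by decide +kernel

theorem size11 : size chain11 = 7920 := by decide +kernel

theorem closure11 : Subgroup.closure ({X, U} : Set (Equiv.Perm GolayPt)) = Spor.M11 :=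
  Chain.closure_eq X_mem11 U_mem11 chain11 chain11_ok (by rw [size11, H807.El.card_M11])

end Cfsg.Agent.H837.JM.Math
end

-- part: H837/E83/NM11
section
/-!
# S5925 box N3: the row `F*(H) ≅ M11` (helper837)

If `F*(H) ≅ M11` then `H = F*(H)` and `H` is the group of permutations of the 12 points `0, …, 10, 11 = ∞` generated by
`x = (i ↦ i+1)`, `y = (i ↦ 3i)`, `t`, `f` (letters 0, 1, 2, 3); every relation between words in these letters is checked by the
Bool test `eqP`.  `⟨x, y, t⟩ = L₂(11)` is the stabiliser of `∞`, `A_I = ⟨y, t, x t x⁻¹⟩ = A₅` is the stabiliser of `∞` and `0`,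
and `f` normalises `A_I` (`f` swaps `∞` and `0`).
-/

set_option autoImplicit false

namespace Cfsg.Agent.H837.E83.NM11

open Cfsg Cfsg.Agent.H837.JM

/-! ### The words -/

/-- the four tables -/
def tab : ℕ → List ℕ
  | 0 => [1, 2, 3, 4, 5, 6, 7, 8, 9, 10, 0, 11]
  | 1 => [0, 3, 6, 9, 1, 4, 7, 10, 2, 5, 8, 11]
  | 2 => [0, 9, 6, 3, 5, 4, 2, 8, 7, 1, 10, 11]
  | 3 => [11, 6, 1, 10, 8, 7, 9, 4, 5, 2, 3, 0]
  | _ => [0, 1, 2, 3, 4, 5, 6, 7, 8, 9, 10, 11]

/-- the action of a letter on the points `0, …, 11` -/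
def ap (l i : ℕ) : ℕ := (tab l).getD i 0

/-- the action of a word on the points -/
def ev (w : List ℕ) (i : ℕ) : ℕ := w.foldr (fun l j => ap l j) i

/-- the test for the equality of two words in `M11` -/
def eqP (w w' : List ℕ) : Bool := (List.range 12).all fun i => ev w i == ev w' i

/-- the letters in `M11` -/
def let11 : ℕ → Equiv.Perm GolayPt
  | 0 => Math.X
  | 1 => Math.F
  | 2 => Math.W
  | 3 => Math.U
  | _ => 1

/-- the twelve points of the second orbit of `M11` -/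
def pt : ℕ → GolayPt
  | 0 => some 15
  | 1 => some 7
  | 2 => some 14
  | 3 => some 5
  | 4 => some 10
  | 5 => some 20
  | 6 => some 17
  | 7 => some 11
  | 8 => some 22
  | 9 => some 21
  | 10 => some 19
  | _ => none

theorem let11_mem (l : ℕ) : let11 l ∈ Spor.M11 := by
  match l with
  | 0 => exact Math.X_mem11
  | 1 => exact Math.F_mem11
  | 2 => exact Math.W_mem11
  | 3 => exact Math.U_mem11
  | (n + 4) => exact Spor.M11.one_mem

theorem ap_lt (l : ℕ) {i : ℕ} (hi : i < 12) : ap l i < 12 := by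
  have h : ∀ l : Fin 5, ∀ i : Fin 12, ap l i < 12 := by decide +kernel
  rcases Nat.lt_or_ge l 5 with h1 | h1
  · exact h ⟨l, h1⟩ ⟨i, hi⟩
  · obtain ⟨n, rfl⟩ := Nat.exists_eq_add_of_le' h1
    exact h 4 ⟨i, hi⟩

theorem let11_pt (l : ℕ) {i : ℕ} (hi : i < 12) : let11 l (pt i) = pt (ap l i) := by
  have h : ∀ l : Fin 5, ∀ i : Fin 12, let11 l (pt i) = pt (ap l i) := by decide +kernel
  rcases Nat.lt_or_ge l 5 with h1 | h1
  · exact h ⟨l, h1⟩ ⟨i, hi⟩
  · obtain ⟨n, rfl⟩ := Nat.exists_eq_add_of_le' h1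
    exact h 4 ⟨i, hi⟩

theorem pt_inj {i j : ℕ} (hi : i < 12) (hj : j < 12) (h : pt i = pt j) : i = j := by
  have h1 : ∀ i j : Fin 12, pt i = pt j → i = j := by decide +kernel
  exact congrArg Fin.val (h1 ⟨i, hi⟩ ⟨j, hj⟩ h)

theorem ev_lt (w : List ℕ) {i : ℕ} (hi : i < 12) : ev w i < 12 := by
  induction w with
  | nil => exact hi
  | cons l w ih => exact ap_lt l ih

theorem ev_pt (w : List ℕ) {i : ℕ} (hi : i < 12) : (w.map let11).prod (pt i) = pt (ev w i) := by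
  induction w with
  | nil => rfl
  | cons l w ih =>
    rw [List.map_cons, List.prod_cons, Equiv.Perm.mul_apply, ih, let11_pt l (ev_lt w hi)]
    rfl

/-- the pointwise stabiliser in `M11` of the twelve points -/
def Ker : Subgroup Spor.M11 where
  carrier := {g | ∀ i < 12, (g : Equiv.Perm GolayPt) (pt i) = pt i}
  mul_mem' {a b} ha hb i hi := by
    show (a : Equiv.Perm GolayPt) ((b : Equiv.Perm GolayPt) (pt i)) = pt i
    rw [hb i hi, ha i hi]
  one_mem' i hi := rfl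
  inv_mem' {a} ha i hi := by
    show (a : Equiv.Perm GolayPt)⁻¹ (pt i) = pt i
    rw [Equiv.Perm.inv_eq_iff_eq, ha i hi]

/-- `M11` preserves the twelve points -/
theorem stab {g : Equiv.Perm GolayPt} (hg : g ∈ Spor.M11) : ∀ i < 12, ∃ j < 12, g (pt i) = pt j := by
  rw [← Math.closure11] at hg
  induction hg using Subgroup.closure_induction with
  | mem g hg =>
    intro i hi
    rcases hg with rfl | rfl
    · exact ⟨ap 0 i, ap_lt 0 hi, let11_pt 0 hi⟩
    · exact ⟨ap 3 i, ap_lt 3 hi, let11_pt 3 hi⟩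
  | one => exact fun i hi => ⟨i, hi, rfl⟩
  | mul a b _ _ ha hb =>
    intro i hi
    obtain ⟨j, hj, h⟩ := hb i hi
    obtain ⟨k, hk, h'⟩ := ha j hj
    exact ⟨k, hk, by rw [Equiv.Perm.mul_apply, h, h']⟩
  | inv a _ ha =>
    intro i hi
    classical
    choose! s hs hs' using ha
    have hinj : Function.Injective (fun i : Fin 12 => (⟨s i, hs i i.2⟩ : Fin 12)) := by
      intro i j hij
      have h1 : s i = s j := congrArg Fin.val hij
      have h2 : a (pt i) = a (pt j) := by rw [hs' i i.2, hs' j j.2, h1]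
      exact Fin.ext (pt_inj i.2 j.2 (a.injective h2))
    obtain ⟨j, hj⟩ := (Finite.injective_iff_surjective.1 hinj) ⟨i, hi⟩
    have h1 : s j = i := congrArg Fin.val hj
    refine ⟨j, j.2, ?_⟩
    rw [Equiv.Perm.inv_eq_iff_eq, hs' j j.2, h1]

theorem Ker_normal : Ker.Normal := by
  refine ⟨fun n hn g i hi => ?_⟩
  obtain ⟨j, hj, h⟩ := stab (g := (g : Equiv.Perm GolayPt)⁻¹) (inv_mem g.2) i hi
  show (g : Equiv.Perm GolayPt) ((n : Equiv.Perm GolayPt) ((g : Equiv.Perm GolayPt)⁻¹ (pt i))) = pt i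
  rw [h, hn j hj, ← h]
  exact Equiv.apply_symm_apply (g : Equiv.Perm GolayPt) (pt i)

theorem Ker_eq : Ker = ⊥ := by
  have := H807.El.simple_M11
  rcases Ker_normal.eq_bot_or_eq_top with h | h
  · exact h
  · exfalso
    have h1 : (⟨Math.X, Math.X_mem11⟩ : Spor.M11) ∈ Ker := h ▸ Subgroup.mem_top _
    have h2 : Math.X (pt 0) = pt 0 := h1 0 (by norm_num)
    revert h2
    decide +kernel

/-- the words in `M11` -/
theorem eqP_iff11 (w w' : List ℕ) : eqP w w' = true ↔ (w.map let11).prod = (w'.map let11).prod := by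
  have hm : ∀ w : List ℕ, (w.map let11).prod ∈ Spor.M11 := fun w =>
    list_prod_mem (fun g hg => by
      obtain ⟨l, -, rfl⟩ := List.mem_map.1 hg
      exact let11_mem l)
  constructor
  · intro h
    have h1 : ∀ i < 12, ev w i = ev w' i := by
      intro i hi
      have h2 := List.all_eq_true.1 h i (List.mem_range.2 hi)
      exact beq_iff_eq.1 h2
    have h2 : (⟨(w'.map let11).prod⁻¹ * (w.map let11).prod, mul_mem (inv_mem (hm w')) (hm w)⟩ : Spor.M11) ∈ Ker := by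
      intro i hi
      show (w'.map let11).prod⁻¹ ((w.map let11).prod (pt i)) = pt i
      rw [Equiv.Perm.inv_eq_iff_eq, ev_pt w hi, ev_pt w' hi, h1 i hi]
    rw [Ker_eq, Subgroup.mem_bot] at h2
    have h3 : (w'.map let11).prod⁻¹ * (w.map let11).prod = 1 := congrArg Subtype.val h2
    exact (inv_mul_eq_one.1 h3).symm
  · intro h
    refine List.all_eq_true.2 fun i hi => beq_iff_eq.2 ?_
    have hi' : i < 12 := List.mem_range.1 hi
    refine pt_inj (ev_lt w hi') (ev_lt w' hi') ?_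
    rw [← ev_pt w hi', ← ev_pt w' hi', h]

/-! ### The words in an abstract group -/

/-- `v 0, v 1, v 2, v 3` are `x, y, t, f` in a group `M11` (the whole of `H`) -/
structure M11Gen {H : Type*} [Group H] (v : ℕ → H) : Prop where
  /-- the letters `x, f` generate -/
  gen2 : Subgroup.closure {v 0, v 3} = ⊤
  /-- the letters `x, y, t, f` generate -/
  gen4 : Subgroup.closure {v 0, v 1, v 2, v 3} = ⊤
  /-- **all relations** -/
  rel : ∀ w w' : List ℕ, eqP w w' = true ↔ (w.map v).prod = (w'.map v).prod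
  /-- the other letters are trivial -/
  triv : ∀ n, 4 ≤ n → v n = 1

theorem list_map_comp {A B : Type*} [Group A] [Group B] (φ : A →* B) (u : ℕ → A) (w : List ℕ) :
    (w.map fun n => φ (u n)).prod = φ ((w.map u).prod) := by
  rw [map_list_prod, List.map_map]
  rfl

/-- `M11` itself -/
theorem M11Gen.model : M11Gen (fun n => (⟨let11 n, let11_mem n⟩ : Spor.M11)) := by
  have h2 : Subgroup.closure {(⟨let11 0, let11_mem 0⟩ : Spor.M11), ⟨let11 3, let11_mem 3⟩} = ⊤ := by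
    refine (Subgroup.map_injective Spor.M11.subtype_injective) ?_
    rw [MonoidHom.map_closure, Set.image_pair, ← MonoidHom.range_eq_map, Subgroup.range_subtype]
    exact Math.closure11
  refine ⟨h2, ?_, fun w w' => ?_, fun n hn => Subtype.ext ?_⟩
  · rw [eq_top_iff, ← h2]
    refine Subgroup.closure_mono ?_
    rintro g (rfl | rfl)
    · exact Or.inl rfl
    · exact Or.inr (Or.inr (Or.inr rfl))
  · rw [eqP_iff11, ← Spor.M11.subtype_injective.eq_iff, ← list_map_comp, ← list_map_comp]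
    rfl
  · obtain ⟨m, rfl⟩ := Nat.exists_eq_add_of_le' hn
    rfl

/-- transport by an isomorphism -/
theorem M11Gen.map {A B : Type*} [Group A] [Group B] {v : ℕ → A} (h : M11Gen v) (e : A ≃* B) :
    M11Gen (fun n => e (v n)) := by
  refine ⟨?_, ?_, fun w w' => ?_, fun n hn => by rw [h.triv n hn, map_one]⟩
  · have h1 := congrArg (Subgroup.map e.toMonoidHom) h.gen2
    rw [MonoidHom.map_closure, Set.image_pair, ← MonoidHom.range_eq_map, MonoidHom.range_eq_top.2 e.surjective] at h1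
    exact h1
  · have h1 := congrArg (Subgroup.map e.toMonoidHom) h.gen4
    rw [MonoidHom.map_closure, Set.image_insert_eq, Set.image_insert_eq, Set.image_pair, ← MonoidHom.range_eq_map,
      MonoidHom.range_eq_top.2 e.surjective] at h1
    exact h1
  · rw [h.rel, ← e.injective.eq_iff]
    have h1 := list_map_comp e.toMonoidHom v w
    have h2 := list_map_comp e.toMonoidHom v w'
    exact (show e _ = e _ ↔ _ by rw [show (w.map fun n => e (v n)).prod = e ((w.map v).prod) from h1,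
      show (w'.map fun n => e (v n)).prod = e ((w'.map v).prod) from h2])

namespace M11Gen

variable {H : Type*} [Group H] {v : ℕ → H} (h : M11Gen v)

include h

/-- a relation between positive words -/
theorem eq (w w' : List ℕ) (he : eqP w w' = true) : (w.map v).prod = (w'.map v).prod := (h.rel w w').1 he

theorem y_pow : v 1 ^ 5 = 1 := by
  simpa only [← mul_assoc, pow_succ, _root_.pow_zero, _root_.one_mul, _root_.List.map_cons, _root_.List.map_nil, _root_.List.prod_cons, _root_.List.prod_nil, _root_.mul_one] using h.eq [1, 1, 1, 1, 1] [] (by decide +kernel)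

theorem xt : (v 0 * v 2) ^ 3 = 1 := by
  simpa only [← mul_assoc, pow_succ, _root_.pow_zero, _root_.one_mul, _root_.List.map_cons, _root_.List.map_nil, _root_.List.prod_cons, _root_.List.prod_nil, _root_.mul_one] using h.eq [0, 2, 0, 2, 0, 2] [] (by decide +kernel)

theorem f_y : v 3 * v 1 * (v 3)⁻¹ = v 1 ^ 2 := by
  rw [mul_inv_eq_iff_eq_mul]
  simpa only [← mul_assoc, pow_succ, _root_.pow_zero, _root_.one_mul, _root_.List.map_cons, _root_.List.map_nil, _root_.List.prod_cons, _root_.List.prod_nil, _root_.mul_one] using h.eq [3, 1] [1, 1, 3] (by decide +kernel)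

end M11Gen

/-! ### The row -/

/-- **`F*(H) ≅ M11` implies `H = F*(H)`** (`Out(M11) = 1`) -/
theorem fst_eq_top {H : Type*} [Group H] [Finite H] (hH : Spor.IsoM11 ↥(generalizedFittingSubgroup H)) :
    generalizedFittingSubgroup H = ⊤ := by
  have hnor : (generalizedFittingSubgroup H).Normal := Lib.GenFitting.genFitting_normal (G := H)
  rw [eq_top_iff]
  intro a _
  obtain ⟨g, hg⟩ := Cit.Eleven.aut_inner hH (MulAut.conjNormal a : MulAut ↥(generalizedFittingSubgroup H))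
  have h1 : ∀ n : H, n ∈ generalizedFittingSubgroup H → a * n * a⁻¹ = (g : H) * n * (g : H)⁻¹ := by
    intro n hn
    have h2 := DFunLike.congr_fun hg ⟨n, hn⟩
    have h3 := congrArg Subtype.val h2
    rw [MulAut.conjNormal_apply, MulAut.conj_apply] at h3
    exact h3
  have h2 : (g : H)⁻¹ * a ∈ generalizedFittingSubgroup H := by
    refine Lib.GenFitting.centralizer_genFitting_le (G := H) (Subgroup.mem_centralizer_iff.2 fun n hn => ?_)
    have h3 := h1 n hn
    have h4 : (g : H)⁻¹ * (a * n * a⁻¹) * a = n * ((g : H)⁻¹ * a) := by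
      rw [h3]; group
    rw [← h4]
    group
  have h3 := mul_mem g.2 h2
  rwa [mul_inv_cancel_left] at h3

/-- **S5925 box N3**: `F*(H) ≅ M11` gives generators of `H` satisfying all the relations of `x, y, t, f`. -/
theorem main {H : Type*} [Group H] [Finite H] (hH : Spor.IsoM11 ↥(generalizedFittingSubgroup H)) :
    ∃ v : ℕ → H, M11Gen v := by
  have h1 := fst_eq_top hH
  obtain ⟨e⟩ := hH
  exact ⟨_, M11Gen.model.map (e.symm.trans ((MulEquiv.subgroupCongr h1).trans Subgroup.topEquiv))⟩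

/-- the same for a subgroup `H` of a group `G`: the elements in `G` -/
theorem main_sub {G : Type*} [Group G] [Finite G] (H : Subgroup G)
    (hH : Spor.IsoM11 ↥(generalizedFittingSubgroup ↥H)) :
    ∃ v : ℕ → G, (∃ v' : ℕ → ↥H, M11Gen v' ∧ ∀ n, (v' n : G) = v n) ∧
      Subgroup.closure {v 0, v 1, v 2, v 3} = H ∧ Subgroup.closure {v 0, v 3} = H ∧
      (∀ w w' : List ℕ, eqP w w' = true ↔ (w.map v).prod = (w'.map v).prod) := by
  obtain ⟨v', h⟩ := main hH
  refine ⟨fun n => v' n, ⟨v', h, fun n => rfl⟩, ?_, ?_, fun w w' => ?_⟩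
  · have h1 := congrArg (Subgroup.map H.subtype) h.gen4
    rw [MonoidHom.map_closure, Set.image_insert_eq, Set.image_insert_eq, Set.image_pair, ← MonoidHom.range_eq_map,
      Subgroup.range_subtype] at h1
    exact h1
  · have h1 := congrArg (Subgroup.map H.subtype) h.gen2
    rw [MonoidHom.map_closure, Set.image_pair, ← MonoidHom.range_eq_map, Subgroup.range_subtype] at h1
    exact h1
  · rw [h.rel, ← H.subtype_injective.eq_iff, ← list_map_comp, ← list_map_comp]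
    rfl

end Cfsg.Agent.H837.E83.NM11
end
end

-- part: H837/E83/NM11Fin
section
set_option linter.all false
open scoped Cfsg.Agent.FastGrp

/-!
# S5925 box N3: words with letters in `Fin 4` (form of `H114.E8L.BM`, `H114.E8L.BK`) (helper837)
-/

set_option autoImplicit false

namespace Cfsg.Agent.H837.E83.NM11

open Cfsg

/-- the test for words in `Fin 4` -/
def eqP4 (w w' : List (Fin 4)) : Bool := eqP (w.map Fin.val) (w'.map Fin.val)

theorem map_val {H : Type*} [Group H] (v : ℕ → H) (w : List (Fin 4)) :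
    ((w.map Fin.val).map v).prod = (w.map ![v 0, v 1, v 2, v 3]).prod := by
  rw [List.map_map]
  congr 1
  refine List.map_congr_left fun i _ => ?_
  fin_cases i <;> rfl

/-- **all relations between positive words** in the letters of `Fin 4`, for a subgroup -/
theorem main_sub4 {G : Type*} [Group G] [Finite G] (H : Subgroup G)
    (hH : Spor.IsoM11 ↥(generalizedFittingSubgroup ↥H)) :
    ∃ x y t f : G, Subgroup.closure {x, y, t, f} = H ∧ Subgroup.closure {x, f} = H ∧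
      (∀ w w' : List (Fin 4), eqP4 w w' = true ↔ (w.map ![x, y, t, f]).prod = (w'.map ![x, y, t, f]).prod) := by
  obtain ⟨v, -, h4, h2, h⟩ := main_sub H hH
  refine ⟨v 0, v 1, v 2, v 3, h4, h2, fun w w' => ?_⟩
  rw [eqP4, h, map_val, map_val]

end Cfsg.Agent.H837.E83.NM11

private theorem dce_503dccf46b7c : _root_.True := by
  try have : _root_.True := by simp only [_root_.Cfsg.Agent.H837.E83.NM11.eqP4.eq_1]
  exact _root_.True.intro
end

-- part: H332/E83/Card
section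
prune_inst 0x5200000410002080000258611002024440001900020000158800f44030fb3220900290048a03d00002aaa1020000040000000d0025000000e0004000001000000a852063340a10426001e802084000000000000000000000000000000041004000000000
set_option linter.all false
open scoped Cfsg.Agent.FastGrp

-- part: H828/E83/Rel
section
/-!
# S5925 box N: the relations of `L₂(11)` and the extension by an outer automorphism
-/

set_option autoImplicit false

namespace Cfsg.Agent.H828.E83

/-- the relations of `L₂(11)` used for `E₈(3)` -/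
structure Rel {H : Type*} [Group H] (x y t : H) : Prop where
  x11 : x ^ 11 = 1
  x1 : x ≠ 1
  y5 : y ^ 5 = 1
  y1 : y ≠ 1
  yx : y * x * y⁻¹ = x ^ 3
  tt : t * t = 1
  ty : t * y * t⁻¹ = y⁻¹
  xt : x * t * (x * t) * (x * t) = 1

/-- facts on the group generated by `x, y, t` -/
structure Dat {H : Type*} [Group H] (S : Subgroup H) (x y t : H) : Prop extends Rel x y t where
  cl : Subgroup.closure {x, y, t} = S
  cent : ∀ z ∈ S, z * x = x * z → ∃ k : ℕ, z = x ^ k
  centy : ∀ z ∈ S, z * y = y * z → ∃ k : ℕ, z = y ^ k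
  eleven : ∀ z ∈ S, z ^ 11 = 1 → z ≠ 1 → ∃ c ∈ S, ∃ k : ℕ, k < 11 ∧ k ≠ 0 ∧ c * z * c⁻¹ = x ^ k
  inv : ∀ k : ℕ, x ^ k * t * (x ^ k * t) * (x ^ k * t) = 1 → k % 11 = 1 ∨ k % 11 = 10

section

variable {H : Type*} [Group H]

theorem Rel.map {K : Type*} [Group K] {x y t : H} (h : Rel x y t) (f : H →* K) (hf : Function.Injective f) :
    Rel (f x) (f y) (f t) where
  x11 := by rw [← map_pow, h.x11, map_one]
  x1 := fun h1 => h.x1 (hf (h1.trans (map_one f).symm))
  y5 := by rw [← map_pow, h.y5, map_one]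
  y1 := fun h1 => h.y1 (hf (h1.trans (map_one f).symm))
  yx := by rw [← map_inv, ← map_mul, ← map_mul, h.yx, map_pow]
  tt := by rw [← map_mul, h.tt, map_one]
  ty := by rw [← map_inv, ← map_mul, ← map_mul, h.ty, map_inv]
  xt := by rw [← map_mul, ← map_mul, ← map_mul, h.xt, map_one]

theorem pow_mod {x : H} {n : ℕ} (h : x ^ n = 1) (k : ℕ) : x ^ k = x ^ (k % n) := by
  conv_lhs => rw [← Nat.div_add_mod k n]
  rw [pow_add, pow_mul, h, one_pow, one_mul]

theorem pow_eq {x : H} {n : ℕ} (h : x ^ n = 1) {a b : ℕ} (hab : a % n = b % n) : x ^ a = x ^ b := by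
  rw [pow_mod h a, hab, ← pow_mod h b]

theorem cj_pow (g z : H) (n : ℕ) : g * z ^ n * g⁻¹ = (g * z * g⁻¹) ^ n := (conj_pow).symm

theorem Rel.yxk {x y t : H} (h : Rel x y t) (k : ℕ) : y * x ^ k * y⁻¹ = x ^ (3 * k) := by
  rw [cj_pow, h.yx, ← pow_mul]

theorem Rel.yxk' {x y t : H} (h : Rel x y t) (k : ℕ) : y * x ^ k = x ^ (3 * k) * y := by
  rw [← h.yxk, inv_mul_cancel_right]

theorem Rel.yixk {x y t : H} (h : Rel x y t) (i k : ℕ) : y ^ i * x ^ k * (y ^ i)⁻¹ = x ^ (3 ^ i * k) := by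
  induction i with
  | zero => rw [pow_zero, pow_zero, one_mul, one_mul, inv_one, mul_one]
  | succ i ih =>
    have h1 : y ^ (i + 1) * x ^ k * (y ^ (i + 1))⁻¹ = y * (y ^ i * x ^ k * (y ^ i)⁻¹) * y⁻¹ := by
      rw [pow_succ']; group
    rw [h1, ih, h.yxk]
    congr 1
    rw [pow_succ]; ring

theorem Rel.tinv {x y t : H} (h : Rel x y t) : t⁻¹ = t := inv_eq_of_mul_eq_one_right h.tt

theorem Rel.tyk {x y t : H} (h : Rel x y t) (k : ℕ) : t * y ^ k = (y ^ k)⁻¹ * t := by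
  rw [← inv_pow, ← h.ty, ← cj_pow, inv_mul_cancel_right]

end

section

variable {H : Type*} [Group H] {S : Subgroup H} {x y t : H}

/-- every element of the overgroup is, modulo `S`, `1` or the outer automorphism -/
theorem Dat.key (hD : Dat S x y t) [hn : S.Normal] (g : H) : ∃ s ∈ S, (s * g) * y = y * (s * g) ∧ (s * g) * t = t * (s * g) ∧
    ((s * g) * x * (s * g)⁻¹ = x ∨ (s * g) * x * (s * g)⁻¹ = x⁻¹) := by
  have hR := hD.toRel
  have hx : x ∈ S := by rw [← hD.cl]; exact Subgroup.subset_closure (by simp)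
  have hy : y ∈ S := by rw [← hD.cl]; exact Subgroup.subset_closure (by simp)
  have ht : t ∈ S := by rw [← hD.cl]; exact Subgroup.subset_closure (by simp)
  -- first step
  obtain ⟨c, hc, k, hk, hk0, hck⟩ := hD.eleven (g * x * g⁻¹) (hn.conj_mem x hx g)
    (by rw [← cj_pow, hR.x11, mul_one, mul_inv_cancel]) (fun h => hR.x1 (conj_eq_one_iff.1 h))
  obtain ⟨g1, hg1⟩ : ∃ g1, g1 = c * g := ⟨_, rfl⟩
  have e1 : g1 * x * g1⁻¹ = x ^ k := by rw [← hck, hg1]; group
  obtain ⟨k', hk'⟩ : ∃ k' : ℕ, k * k' % 11 = 1 := by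
    have : ∀ k < 11, k ≠ 0 → ∃ k' < 11, k * k' % 11 = 1 := by decide
    obtain ⟨k', -, h⟩ := this k hk hk0
    exact ⟨k', h⟩
  have e2 : ∀ m : ℕ, (g1 * y * g1⁻¹) * x ^ m * (g1 * y * g1⁻¹)⁻¹ = x ^ (3 * m) := by
    intro m
    have h1 : x = (x ^ k) ^ k' := by
      rw [← pow_mul, pow_mod hR.x11, hk', pow_one]
    have h2 : (g1 * y * g1⁻¹) * x ^ k * (g1 * y * g1⁻¹)⁻¹ = (x ^ k) ^ 3 := by
      rw [← e1]
      have : g1 * y * g1⁻¹ * (g1 * x * g1⁻¹) * (g1 * y * g1⁻¹)⁻¹ = g1 * (y * x * y⁻¹) * g1⁻¹ := by group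
      rw [this, hR.yx, cj_pow]
    have h3 : (g1 * y * g1⁻¹) * x * (g1 * y * g1⁻¹)⁻¹ = x ^ 3 := by
      conv_lhs => rw [h1]
      rw [cj_pow, h2, ← pow_mul, ← pow_mul]
      refine pow_eq hR.x11 ?_
      rw [show k * (3 * k') = 3 * (k * k') by ring, Nat.mul_mod, hk']
    rw [cj_pow, h3, ← pow_mul, mul_comm]
  have e3 : (g1 * y * g1⁻¹ * y⁻¹) * x = x * (g1 * y * g1⁻¹ * y⁻¹) := by
    have h1 : y⁻¹ * x = x ^ 4 * y⁻¹ := by
      rw [inv_mul_eq_iff_eq_mul, ← mul_assoc, hR.yxk', mul_inv_cancel_right, pow_eq hR.x11 (b := 1) (by norm_num), pow_one]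
    rw [mul_assoc _ y⁻¹, h1, ← mul_assoc]
    have h2 := e2 4
    rw [mul_inv_eq_iff_eq_mul, pow_eq hR.x11 (a := 3 * 4) (b := 1) (by norm_num), pow_one] at h2
    rw [h2]
    simp only [mul_assoc]
  obtain ⟨j, hj⟩ := hD.cent _ (S.mul_mem (hn.conj_mem y hy g1) (S.inv_mem hy)) e3
  rw [mul_inv_eq_iff_eq_mul] at hj
  obtain ⟨g2, hg2⟩ : ∃ g2, g2 = x ^ (6 * j) * g1 := ⟨_, rfl⟩
  have f1 : g2 * x * g2⁻¹ = x ^ k := by
    have : g2 * x * g2⁻¹ = x ^ (6 * j) * (g1 * x * g1⁻¹) * (x ^ (6 * j))⁻¹ := by rw [hg2]; group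
    rw [this, e1, ← pow_add, add_comm, pow_add, mul_inv_cancel_right]
  have f2 : g2 * y * g2⁻¹ = y := by
    have : g2 * y * g2⁻¹ = x ^ (6 * j) * (g1 * y * g1⁻¹) * (x ^ (6 * j))⁻¹ := by rw [hg2]; group
    rw [this, hj, mul_inv_eq_iff_eq_mul, hR.yxk', ← mul_assoc, ← pow_add]
    congr 1
    refine pow_eq hR.x11 ?_
    (clear * -; solve | lia | omega)
  have f3 : (g2 * t * g2⁻¹ * t) * y = y * (g2 * t * g2⁻¹ * t) := by
    have h1 : (g2 * t * g2⁻¹) * y * (g2 * t * g2⁻¹)⁻¹ = y⁻¹ := by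
      conv_lhs => rw [← f2]
      have : g2 * t * g2⁻¹ * (g2 * y * g2⁻¹) * (g2 * t * g2⁻¹)⁻¹ = g2 * (t * y * t⁻¹) * g2⁻¹ := by group
      rw [this, hR.ty]
      have h0 : g2 * y⁻¹ * g2⁻¹ = (g2 * y * g2⁻¹)⁻¹ := by group
      rw [h0, f2]
    have h2 : t * y = y⁻¹ * t := by rw [← hR.ty, inv_mul_cancel_right]
    obtain ⟨t1, ht1⟩ : ∃ t1, t1 = g2 * t * g2⁻¹ := ⟨_, rfl⟩
    rw [← ht1] at h1 ⊢
    have h3 : t1 * y⁻¹ = y * t1 := by
      rw [mul_inv_eq_iff_eq_mul] at h1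
      rw [mul_inv_eq_iff_eq_mul, mul_assoc, h1, mul_inv_cancel_left]
    rw [mul_assoc, h2, ← mul_assoc, h3, mul_assoc]
  obtain ⟨i, hi⟩ := hD.centy _ (S.mul_mem (hn.conj_mem t ht g2) ht) f3
  have hi' : g2 * t * g2⁻¹ = y ^ i * t := by
    rw [← hi, mul_assoc _ t t, hR.tt, mul_one]
  obtain ⟨g3, hg3⟩ : ∃ g3, g3 = y ^ (2 * i) * g2 := ⟨_, rfl⟩
  have p1 : g3 * x * g3⁻¹ = x ^ (3 ^ (2 * i) * k) := by
    have : g3 * x * g3⁻¹ = y ^ (2 * i) * (g2 * x * g2⁻¹) * (y ^ (2 * i))⁻¹ := by rw [hg3]; group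
    rw [this, f1, hR.yixk]
  have p2 : g3 * y * g3⁻¹ = y := by
    have : g3 * y * g3⁻¹ = y ^ (2 * i) * (g2 * y * g2⁻¹) * (y ^ (2 * i))⁻¹ := by rw [hg3]; group
    rw [this, f2, ← pow_succ, pow_succ', mul_inv_cancel_right]
  have p3 : g3 * t * g3⁻¹ = t := by
    have : g3 * t * g3⁻¹ = y ^ (2 * i) * (g2 * t * g2⁻¹) * (y ^ (2 * i))⁻¹ := by rw [hg3]; group
    rw [this, hi', mul_inv_eq_iff_eq_mul, hR.tyk, ← mul_assoc, ← pow_add]
    congr 1
    rw [eq_inv_iff_mul_eq_one, ← pow_add, pow_eq hR.y5 (b := 0) (by omega), pow_zero]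
  refine ⟨y ^ (2 * i) * (x ^ (6 * j) * c), S.mul_mem (S.pow_mem hy _) (S.mul_mem (S.pow_mem hx _) hc), ?_⟩
  have hg : y ^ (2 * i) * (x ^ (6 * j) * c) * g = g3 := by rw [hg3, hg2, hg1]; group
  rw [hg]
  refine ⟨by rwa [mul_inv_eq_iff_eq_mul] at p2, by rwa [mul_inv_eq_iff_eq_mul] at p3, ?_⟩
  obtain ⟨m, hm⟩ : ∃ m, m = 3 ^ (2 * i) * k := ⟨_, rfl⟩
  rw [← hm] at p1
  have q1 : x ^ m * t * (x ^ m * t) * (x ^ m * t) = 1 := by
    have h1 : x ^ m * t = g3 * (x * t) * g3⁻¹ := by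
      have h0 : g3 * (x * t) * g3⁻¹ = (g3 * x * g3⁻¹) * (g3 * t * g3⁻¹) := by group
      rw [h0, p1, p3]
    rw [h1]
    have : g3 * (x * t) * g3⁻¹ * (g3 * (x * t) * g3⁻¹) * (g3 * (x * t) * g3⁻¹) = g3 * (x * t * (x * t) * (x * t)) * g3⁻¹ := by
      group
    rw [this, hR.xt, mul_one, mul_inv_cancel]
  rcases hD.inv m q1 with h | h
  · left
    rw [p1, pow_mod hR.x11, h, pow_one]
  · right
    rw [p1, pow_mod hR.x11, h, eq_inv_iff_mul_eq_one, ← pow_succ, hR.x11]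

/-- the extension -/
theorem Dat.ext (hD : Dat S x y t) [hn : S.Normal] (hC : ∀ z : H, (∀ s ∈ S, s * z = z * s) → z = 1) (hS : S ≠ ⊤) :
    ∃ h : H, h ∉ S ∧ h * h = 1 ∧ h * x * h⁻¹ = x⁻¹ ∧ h * y = y * h ∧ h * t = t * h ∧
      Subgroup.closure {x, y, t, h} = ⊤ := by
  have hcen : ∀ z : H, z * x = x * z → z * y = y * z → z * t = t * z → z = 1 := by
    intro z hx hy ht
    refine hC z fun s hs => ?_
    have h1 : Subgroup.closure {x, y, t} ≤ Subgroup.centralizer {z} := by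
      rw [Subgroup.closure_le]
      rintro w (rfl | rfl | rfl)
      · exact Subgroup.mem_centralizer_singleton_iff.2 hx.symm
      · exact Subgroup.mem_centralizer_singleton_iff.2 hy.symm
      · exact Subgroup.mem_centralizer_singleton_iff.2 ht.symm
    rw [hD.cl] at h1
    exact Subgroup.mem_centralizer_singleton_iff.1 (h1 hs)
  -- an element outside
  have hout : ∀ g : H, g ∉ S → ∃ s ∈ S, (s * g) * y = y * (s * g) ∧ (s * g) * t = t * (s * g) ∧
      (s * g) * x * (s * g)⁻¹ = x⁻¹ := by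
    intro g hg
    obtain ⟨s, hs, h1, h2, h3⟩ := hD.key g
    refine ⟨s, hs, h1, h2, h3.resolve_left fun h4 => hg ?_⟩
    rw [mul_inv_eq_iff_eq_mul] at h4
    have h5 := hcen _ h4 h1 h2
    rw [mul_eq_one_iff_inv_eq] at h5
    rw [← h5]
    exact S.inv_mem hs
  obtain ⟨g0, hg0⟩ : ∃ g0, g0 ∉ S := by
    by_contra h
    push Not at h
    exact hS (eq_top_iff.2 fun g _ => h g)
  obtain ⟨s0, hs0, h1, h2, h3⟩ := hout g0 hg0
  set h := s0 * g0 with hh
  have hxx : h * x⁻¹ * h⁻¹ = x := by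
    have := congrArg (fun z => z⁻¹) h3
    simp only [mul_inv_rev, inv_inv] at this
    rw [← mul_assoc] at this
    exact this
  have hsq : h * h = 1 := by
    refine hcen _ ?_ ?_ ?_
    · rw [← mul_inv_eq_iff_eq_mul]
      have : h * h * x * (h * h)⁻¹ = h * (h * x * h⁻¹) * h⁻¹ := by group
      rw [this, h3, hxx]
    · rw [mul_assoc, h1, ← mul_assoc, h1, mul_assoc]
    · rw [mul_assoc, h2, ← mul_assoc, h2, mul_assoc]
  refine ⟨h, fun hc => hg0 ((Subgroup.mul_mem_cancel_left S hs0).1 hc), hsq, h3, h1, h2, ?_⟩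
  rw [eq_top_iff]
  intro g _
  have hle : S ≤ Subgroup.closure {x, y, t, h} := by
    rw [← hD.cl, Subgroup.closure_le]
    rintro w (rfl | rfl | rfl) <;> exact Subgroup.subset_closure (by simp)
  have hh' : h ∈ Subgroup.closure {x, y, t, h} := Subgroup.subset_closure (by simp)
  by_cases hg : g ∈ S
  · exact hle hg
  · obtain ⟨s, hs, k1, k2, k3⟩ := hout g hg
    have h4 : h * (s * g) = 1 := by
      refine hcen _ ?_ ?_ ?_
      · rw [← mul_inv_eq_iff_eq_mul]
        have : h * (s * g) * x * (h * (s * g))⁻¹ = h * ((s * g) * x * (s * g)⁻¹) * h⁻¹ := by group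
        rw [this, k3, hxx]
      · rw [mul_assoc, k1, ← mul_assoc, h1, mul_assoc]
      · rw [mul_assoc, k2, ← mul_assoc, h2, mul_assoc]
    have h5 : g = s⁻¹ * h⁻¹ := by
      rw [eq_inv_mul_iff_mul_eq]
      exact (mul_eq_one_iff_eq_inv'.1 h4)
    rw [h5]
    exact Subgroup.mul_mem _ (Subgroup.inv_mem _ (hle hs)) (Subgroup.inv_mem _ hh')

end

end Cfsg.Agent.H828.E83
end

-- part: H828/E83/Psl
section
/-!
# S5925 box N: groups with generalized Fitting subgroup `L₂(11)`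
-/

set_option autoImplicit false

namespace Cfsg.Agent.H828.E83

open Matrix Cfsg.Agent.H911.SLTwo Cfsg.Agent.H911 Cfsg.Agent.H912.Eleven

theorem relT : (Rel (mk (U 1) : TT) (mk (hh L211.two))⁻¹ (mk ww) :) where
  x11 := u11
  x1 := L211.U_ne_one'
  y5 := by rw [inv_pow, h5, inv_one]
  y1 := by
    intro h
    rw [inv_eq_one] at h
    have h1 := L211.conj_four
    rw [h, one_mul, inv_one, mul_one] at h1
    apply L211.U_ne_one'
    have h2 : (mk (U 1) : TT) ^ 3 = 1 := by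
      have : (mk (U 1) : TT) * (mk (U 1)) ^ 3 = mk (U 1) * 1 := by rw [← pow_succ', mul_one, ← h1]
      exact (mul_left_cancel this :)
    have h3 : (mk (U 1) : TT) = (mk (U 1)) ^ 12 * ((mk (U 1)) ^ 11)⁻¹ := by group
    rw [h3, u11, show 12 = 3 * 4 from rfl, pow_mul, h2, one_pow, inv_one, mul_one]
  yx := by
    rw [inv_inv]
    have h1 := L211.conj_four
    have h2 : (mk (U 1) : TT) = (mk (hh L211.two))⁻¹ * (mk (U 1)) ^ 4 * mk (hh L211.two) := by
      rw [← h1]; group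
    have h4 : ∀ (a b : TT) (n : ℕ), (a⁻¹ * b * a) ^ n = a⁻¹ * b ^ n * a := fun a b n => by
      have := conj_pow (a := a⁻¹) (b := b) (i := n)
      rwa [inv_inv] at this
    obtain ⟨b, hb⟩ : ∃ b : TT, b = (mk (hh L211.two))⁻¹ * mk (U 1) * mk (hh L211.two) := ⟨_, rfl⟩
    have h3 : b ^ 4 = mk (U 1) := by rw [hb, h4, ← h2]
    have h5 : b ^ 11 = 1 := by
      rw [hb, h4, u11]
      group
    rw [← hb, ← h3, ← pow_mul, pow_eq h5 (b := 1) (by norm_num), pow_one]
  tt := w2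
  ty := by
    have h1 := wh2
    rw [inv_inv]
    have h2 : (mk ww : TT) * (mk (hh L211.two))⁻¹ * (mk ww)⁻¹ = ((mk ww : TT) * mk (hh L211.two) * (mk ww)⁻¹)⁻¹ := by
      group
    rw [h2, h1, inv_inv]
  xt := uw3

theorem centy_aux : ∀ a d : ZMod 11, a * d = 1 → ∃ k : Fin 10, a = 2 ^ (k : ℕ) ∧ d = 6 ^ (k : ℕ) := by decide +kernel

/-- centralizer of the element of order five -/
theorem cent_five (z : TT) (hz : z * mk (hh L211.two) = mk (hh L211.two) * z) : ∃ k : ℕ, z = (mk (hh L211.two)) ^ k := by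
  obtain ⟨g, rfl⟩ := mk_surj z
  rw [← mk_mul', ← mk_mul'] at hz
  have hdet := det_eq g
  have two0 : ((L211.two : (ZMod 11)ˣ) : ZMod 11) = 2 := rfl
  have two1 : (((L211.two : (ZMod 11)ˣ)⁻¹ : (ZMod 11)ˣ) : ZMod 11) = 6 := by
    rw [Units.val_inv_eq_inv_val, two0]
    exact inv_eq_of_mul_eq_one_right (by decide)
  have key : g.1 0 1 = 0 ∧ g.1 1 0 = 0 := by
    rcases mk_eq_mk hz with h | h
    · have e1 := congrArg (fun A : SS => A.1 0 1) h
      have e2 := congrArg (fun A : SS => A.1 1 0) h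
      simp only [m01, m10, hh00, hh01, hh10, hh11, two0, two1] at e1 e2
      constructor
      · have h2 : (4 : ZMod 11) * g.1 0 1 = 0 := by linear_combination -e1
        exact (mul_eq_zero.1 h2).resolve_left (by decide)
      · have h2 : (4 : ZMod 11) * g.1 1 0 = 0 := by linear_combination e2
        exact (mul_eq_zero.1 h2).resolve_left (by decide)
    · exfalso
      have e1 := congrArg (fun A : SS => A.1 0 1) h
      have e2 := congrArg (fun A : SS => A.1 1 0) h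
      have e3 := congrArg (fun A : SS => A.1 0 0) h
      have e4 := congrArg (fun A : SS => A.1 1 1) h
      simp only [n00, n01, n10, n11, m00, m01, m10, m11, hh00, hh01, hh10, hh11, two0, two1] at e1 e2 e3 e4
      have a0 : g.1 0 0 = 0 := by
        have h2 : (4 : ZMod 11) * g.1 0 0 = 0 := by linear_combination e3
        exact (mul_eq_zero.1 h2).resolve_left (by decide)
      have a1 : g.1 0 1 = 0 := by
        have h2 : (8 : ZMod 11) * g.1 0 1 = 0 := by linear_combination e1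
        exact (mul_eq_zero.1 h2).resolve_left (by decide)
      rw [a0, a1] at hdet
      simp only [_root_.Fin.isValue, _root_.MulZeroClass.zero_mul, _root_.sub_self, _root_.zero_ne_one] at hdet
  obtain ⟨h01, h10⟩ := key
  rw [h01, zero_mul, sub_zero] at hdet
  obtain ⟨k, hk1, hk2⟩ := centy_aux _ _ hdet
  refine ⟨k, ?_⟩
  rw [← mk_pow', hh_pow]
  congr 1
  apply ext'
  · rw [hh00, hk1, Units.val_pow_eq_pow_val]; rfl
  · rw [hh01, h01]
  · rw [hh10, h10]
  · rw [hh11, hk2, ← inv_pow, Units.val_pow_eq_pow_val, two1]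

theorem inv_aux : ∀ k : ZMod 11, ((U k * ww) * (U k * ww) * (U k * ww) : SS).1 0 1 = 0 → k = 1 ∨ k = 10 := by
  intro k
  simp only [m00, m01, m10, m11, U00, U01, U10, U11, ww00, ww01, ww10, ww11]
  revert k
  decide

theorem inv_eleven (k : ℕ) (h : (mk (U 1) : TT) ^ k * mk ww * ((mk (U 1)) ^ k * mk ww) * ((mk (U 1)) ^ k * mk ww) = 1) :
    k % 11 = 1 ∨ k % 11 = 10 := by
  rw [← mk_pow', U_pow, mul_one, ← mk_mul', ← mk_mul', ← mk_mul', ← mk_one'] at h
  have h1 : ((U (k : ZMod 11) * ww) * (U (k : ZMod 11) * ww) * (U (k : ZMod 11) * ww) : SS).1 0 1 = 0 := by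
    rcases mk_eq_mk h with h | h
    · rw [← h]; rfl
    · have e1 := congrArg (fun A : SS => A.1 0 1) h
      simp only [n01] at e1
      have : (1 : SS).1 0 1 = (0 : ZMod 11) := rfl
      rw [this] at e1
      rwa [zero_eq_neg] at e1
  rcases inv_aux _ h1 with h2 | h2
  · left
    have h3 : (k : ZMod 11) = (1 : ℕ) := by rw [h2]; rfl
    exact (ZMod.natCast_eq_natCast_iff' _ _ _).1 h3
  · right
    have h3 : (k : ZMod 11) = (10 : ℕ) := by rw [h2]; rfl
    exact (ZMod.natCast_eq_natCast_iff' _ _ _).1 h3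

/-- the data for a subgroup isomorphic to `L₂(11)` -/
theorem exists_dat {H : Type*} [Group H] {S : Subgroup H} (e : S ≃* TT) : ∃ x y t : H, Dat S x y t := by
  have hinj : Function.Injective (S.subtype.comp e.symm.toMonoidHom) :=
    S.subtype_injective.comp e.symm.injective
  obtain ⟨f, hf⟩ : ∃ f : TT →* H, f = S.subtype.comp e.symm.toMonoidHom := ⟨_, rfl⟩
  rw [← hf] at hinj
  have hr : f.range = S := by
    rw [hf, MonoidHom.range_comp, MonoidHom.range_eq_top.2 e.symm.surjective, ← MonoidHom.range_eq_map, Subgroup.range_subtype]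
  have hS : ∀ z ∈ S, ∃ w : TT, f w = z := fun z hz => by rw [← hr] at hz; exact hz
  have hS' : ∀ w : TT, f w ∈ S := fun w => by rw [← hr]; exact ⟨w, rfl⟩
  refine ⟨f (mk (U 1)), (f (mk (hh L211.two))⁻¹ :), f (mk ww), ?_⟩
  refine { toRel := relT.map f hinj, cl := ?_, cent := ?_, centy := ?_, eleven := ?_, inv := ?_ }
  · have h1 : Subgroup.closure {(mk (U 1) : TT), (mk (hh L211.two))⁻¹, mk ww} = ⊤ := by
      rw [eq_top_iff, ← gen, Subgroup.closure_le]
      rintro w (rfl | rfl | rfl)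
      · exact Subgroup.subset_closure (by simp only [_root_.Set.mem_insert_iff, _root_.Set.mem_singleton_iff, _root_.true_or])
      · exact (Subgroup.inv_mem_iff _).1 (Subgroup.subset_closure (by simp only [_root_.Set.mem_insert_iff, _root_.Set.mem_singleton_iff, _root_.true_or, _root_.or_true]))
      · exact Subgroup.subset_closure (by simp only [_root_.Set.mem_insert_iff, _root_.Set.mem_singleton_iff, _root_.or_true])
    have h2 := congrArg (Subgroup.map f) h1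
    rw [MonoidHom.map_closure, Set.image_insert_eq, Set.image_pair, ← MonoidHom.range_eq_map, hr] at h2
    exact h2
  · intro z hz h
    obtain ⟨w, rfl⟩ := hS z hz
    rw [← map_mul, ← map_mul] at h
    obtain ⟨k, hk⟩ := Cfsg.Agent.H912.Eleven.cent w (hinj h)
    exact ⟨k, by rw [hk, map_pow]⟩
  · intro z hz h
    obtain ⟨w, rfl⟩ := hS z hz
    rw [← map_mul, ← map_mul] at h
    have h1 := hinj h
    rw [mul_inv_eq_iff_eq_mul, mul_assoc, eq_inv_mul_iff_mul_eq] at h1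
    obtain ⟨k, hk⟩ := cent_five w h1.symm
    refine ⟨4 * k, ?_⟩
    rw [hk, map_pow, map_inv, inv_pow, eq_inv_iff_mul_eq_one, ← pow_add, ← map_pow,
      pow_eq h5 (b := 0) (by omega), pow_zero, map_one]
  · intro z hz h11 h1
    obtain ⟨w, rfl⟩ := hS z hz
    obtain ⟨c, k, hk, hk0, h⟩ := conj_eleven w (hinj (by rw [map_pow, h11, map_one]))
      (fun h => h1 (by rw [h, map_one]))
    exact ⟨f c, hS' c, k, hk, hk0, by rw [← map_inv, ← map_mul, ← map_mul, h, map_pow]⟩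
  · intro k h
    refine inv_eleven k (hinj ?_)
    rw [map_one, ← h]
    simp only [map_mul, map_pow]

/-- **Box N, `F*(H) ≅ L₂(11)`.** -/
theorem psl {H : Type*} [Group H] [Finite H] {F : Type*} [Field F] [Fintype F] (hF : Fintype.card F = 11)
    (e : Nonempty (↥(Cfsg.generalizedFittingSubgroup H) ≃* ProjectiveSpecialLinearGroup (Fin 2) F)) :
    ∃ x y t : H, Rel x y t ∧ (Subgroup.closure {x, y, t} = ⊤ ∨
      ∃ h : H, h ∉ Subgroup.closure {x, y, t} ∧ h * h = 1 ∧ h * x * h⁻¹ = x⁻¹ ∧ h * y = y * h ∧ h * t = t * h ∧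
        Subgroup.closure {x, y, t, h} = ⊤) := by
  have : Fact (Nat.Prime 11) := ⟨by norm_num⟩
  obtain ⟨e⟩ := e
  have e' : ↥(Cfsg.generalizedFittingSubgroup H) ≃* TT :=
    e.trans (LieClassical.FieldTransfer.pslCongr ((ZMod.ringEquivOfPrime F (by norm_num) hF :))).symm
  obtain ⟨x, y, t, hD⟩ := exists_dat e'
  refine ⟨x, y, t, hD.toRel, ?_⟩
  rw [hD.cl]
  by_cases hS : Cfsg.generalizedFittingSubgroup H = ⊤
  · exact Or.inl hS
  right
  have hn : (Cfsg.generalizedFittingSubgroup H).Normal := Lib.GenFitting.genFitting_normal (G := H)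
  refine hD.ext (fun z hz => ?_) hS
  have hs : IsSimpleGroup ↥(Cfsg.generalizedFittingSubgroup H) := by
    have h1 : IsSimpleGroup TT := Cfsg.Agent.TwoFusion.SLTwoFacts.isSimpleGroup_psl (by rw [ZMod.card]; norm_num)
    exact (MulEquiv.isSimpleGroup_congr e').2 h1
  refine UGT.End.OfFix.centralizer_fstar hs ?_ hz
  intro hc
  have h1 := hc.1.1
  have hx : x ∈ Cfsg.generalizedFittingSubgroup H := by rw [← hD.cl]; exact Subgroup.subset_closure (by simp)
  have hy : y ∈ Cfsg.generalizedFittingSubgroup H := by rw [← hD.cl]; exact Subgroup.subset_closure (by simp)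
  have h2 := congrArg Subtype.val (h1 ⟨y, hy⟩ ⟨x, hx⟩)
  have h3 : y * x = x * y := h2
  have h4 := hD.yx
  rw [h3, mul_inv_cancel_right] at h4
  apply hD.x1
  have h5 : x ^ 2 = 1 := by
    have : x * x ^ 2 = x * 1 := by rw [← pow_succ', mul_one, ← h4]
    exact mul_left_cancel this
  have h6 : x = x ^ 12 := by rw [pow_eq hD.x11 (a := 12) (b := 1) (by norm_num), pow_one]
  rw [h6, show 12 = 2 * 6 from rfl, pow_mul, h5, one_pow]

end Cfsg.Agent.H828.E83
end

-- part: H332/E83/Card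
section
/-!
# S5925 box END: `121` does not divide the order of `H`, `F*(H) ≅ L₂(11)` or `M₁₁` (helper332, for helper64)
-/

set_option autoImplicit false

namespace Cfsg.Agent.H332.E83

open Matrix Cfsg.Agent.H911.SLTwo Cfsg.Agent.H911 Cfsg.Agent.H912.Eleven Cfsg.Agent.H828.E83

/-- `F*(H) ≅ L₂(11)` -/
theorem card_psl {H : Type*} [Group H] [Finite H] {F : Type*} [Field F] [Fintype F] (hF : Fintype.card F = 11)
    (e : Nonempty (↥(Cfsg.generalizedFittingSubgroup H) ≃* ProjectiveSpecialLinearGroup (Fin 2) F)) :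
    ¬ 121 ∣ Nat.card H := by
  have : Fact (Nat.Prime 11) := ⟨by norm_num⟩
  obtain ⟨e⟩ := e
  have e' : ↥(Cfsg.generalizedFittingSubgroup H) ≃* TT :=
    e.trans (LieClassical.FieldTransfer.pslCongr ((ZMod.ringEquivOfPrime F (by norm_num) hF :))).symm
  have hc : Nat.card ↥(Cfsg.generalizedFittingSubgroup H) = 660 := by
    rw [Nat.card_congr e'.toEquiv]
    exact L211.card_T
  obtain ⟨x, y, t, hD⟩ := exists_dat e'
  have hn : (Cfsg.generalizedFittingSubgroup H).Normal := Lib.GenFitting.genFitting_normal (G := H)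
  have hi : (Cfsg.generalizedFittingSubgroup H).index ∣ 2 := by
    by_cases hS : Cfsg.generalizedFittingSubgroup H = ⊤
    · rw [hS, Subgroup.index_top]
      exact one_dvd _
    have hx : x ∈ Cfsg.generalizedFittingSubgroup H := by rw [← hD.cl]; exact Subgroup.subset_closure (by simp)
    have hy : y ∈ Cfsg.generalizedFittingSubgroup H := by rw [← hD.cl]; exact Subgroup.subset_closure (by simp)
    have ht : t ∈ Cfsg.generalizedFittingSubgroup H := by rw [← hD.cl]; exact Subgroup.subset_closure (by simp)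
    obtain ⟨h, -, hh, -, -, -, hcl⟩ := hD.ext (fun z hz => by
      have hs : IsSimpleGroup ↥(Cfsg.generalizedFittingSubgroup H) := by
        have h1 : IsSimpleGroup TT := Cfsg.Agent.TwoFusion.SLTwoFacts.isSimpleGroup_psl (by rw [ZMod.card]; norm_num)
        exact (MulEquiv.isSimpleGroup_congr e').2 h1
      refine UGT.End.OfFix.centralizer_fstar hs ?_ hz
      intro hc
      have h1 := hc.1.1
      have h2 := congrArg Subtype.val (h1 ⟨y, hy⟩ ⟨x, hx⟩)
      have h3 : y * x = x * y := h2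
      have h4 := hD.yx
      rw [h3, mul_inv_cancel_right] at h4
      apply hD.x1
      have h5 : x ^ 2 = 1 := by
        have : x * x ^ 2 = x * 1 := by rw [← pow_succ', mul_one, ← h4]
        exact mul_left_cancel this
      have h6 : x = x ^ 12 := by rw [pow_eq hD.x11 (a := 12) (b := 1) (by norm_num), pow_one]
      rw [h6, show 12 = 2 * 6 from rfl, pow_mul, h5, one_pow]) hS
    let π : H →* H ⧸ Cfsg.generalizedFittingSubgroup H := QuotientGroup.mk' _
    have h1 : Subgroup.zpowers (π h) = ⊤ := by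
      have h2 := congrArg (Subgroup.map π) hcl
      rw [← MonoidHom.range_eq_map, MonoidHom.range_eq_top.2 (QuotientGroup.mk'_surjective _), MonoidHom.map_closure] at h2
      rw [eq_top_iff, ← h2, Subgroup.closure_le]
      rintro _ ⟨w, rfl | rfl | rfl | rfl, rfl⟩
      · rw [show π w = 1 from (QuotientGroup.eq_one_iff _).2 hx]
        exact one_mem _
      · rw [show π w = 1 from (QuotientGroup.eq_one_iff _).2 hy]
        exact one_mem _
      · rw [show π w = 1 from (QuotientGroup.eq_one_iff _).2 ht]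
        exact one_mem _
      · exact Subgroup.mem_zpowers _
    rw [Subgroup.index, ← Subgroup.card_top, ← h1, Nat.card_zpowers]
    refine orderOf_dvd_of_pow_eq_one ?_
    rw [pow_two, ← map_mul, hh, map_one]
  intro h
  rw [← (Cfsg.generalizedFittingSubgroup H).card_mul_index, hc] at h
  have h2 : 121 ∣ 660 * 2 := h.trans (Nat.mul_dvd_mul_left _ hi)
  norm_num at h2

/-- `F*(H) ≅ M₁₁` -/
theorem card_m11 {H : Type*} [Group H] [Finite H] (hH : Spor.IsoM11 ↥(Cfsg.generalizedFittingSubgroup H)) :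
    ¬ 121 ∣ Nat.card H := by
  have h1 := H837.E83.NM11.fst_eq_top hH
  obtain ⟨e⟩ := hH
  rw [← Subgroup.card_top (G := H), ← h1, Nat.card_congr e.toEquiv, H807.El.card_M11]
  norm_num

end Cfsg.Agent.H332.E83
end
end

-- part: H238/E8/Wt
section
set_option linter.all false
open scoped Cfsg.Agent.FastGrp

/-!
# Diagonal matrices in the frame of `E₈(K)` (helper238)
-/

set_option autoImplicit false
set_option linter.unusedSectionVars false

namespace Cfsg.Agent.H238.E8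

open Matrix Cfsg Cfsg.Lie Cfsg.Agent.ChevalleyStructure Cfsg.Agent.ChevalleyStructure.Elts
open Cfsg.Agent.TitsThree.KExcRT Cfsg.Agent.AGraded
open Cfsg.Agent.H992.E8X hiding e8T
open Cfsg.Agent.GpExc.Field (emb emb_injective glMap glMap_xG coe_emb)
open Cfsg.Agent.BpExc.FamUntw (phi)
open Cfsg.Agent.ChevalleyStructure.CoxeterGeomTypes Cfsg.Agent.ChevalleyStructure.RootVec
open Cfsg.Agent.ChevalleyStructure.HMatDiagAll (expo hMat_eq_diagonal)
open Cfsg.Agent.KFacts.RgdChevCoord Cfsg.Agent.H129.TorusChar Cfsg.Agent.Nodes.RGDChev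
open Cfsg.Agent.H942.E8Tab Cfsg.Agent.H942.CB
open Cfsg.Agent.CTFrame.Weyl Cfsg.Agent.CTFrame.Torus

variable {k : Type} [Field k]

/-! ### the elements `h_r(u)` -/

/-- `h_r(u)` in the group -/
def Hh (r : ℕ) (u : k) : ↥(chevE8.group k) := ⟨hG hE8 r u, hG_mem_group hE8 r u⟩

theorem Hh_mem {r : ℕ} (hr : r < 240) {u : k} (hu : u ≠ 0) : Hh r u ∈ TT chevE8 k := by
  show Hh r u ∈ (chevE8.diagonalSubgroup k).subgroupOf (chevE8.group k)
  rw [Subgroup.mem_subgroupOf]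
  exact hG_mem_diagonal hE8 hr hu

theorem cX_Hh {r : ℕ} (hr : r < 240) {u : k} (hu : u ≠ 0) (s : Fin 240) :
    cX e8T (Hh r u) (vec chevE8 8 s.val) = u ^ expo chevE8 r s.val := by
  have h1 := TT_diag' e8T (Hh_mem hr hu)
  have h2 : (((Hh r u : ↥(chevE8.group k)) : GL chevE8.Idx k) : Matrix chevE8.Idx chevE8.Idx k) = chevE8.hMat k r u :=
    coe_hG hE8 r u
  rw [h2, hMat_eq_diagonal hE8 hr hu] at h1
  have h3 := congrFun (congrFun h1 (Sum.inr s)) (Sum.inr s)
  rw [Matrix.diagonal_apply_eq, Matrix.diagonal_apply_eq] at h3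
  exact h3.symm

/-! ### diagonal matrices -/

/-- transvections as a system -/
def tvx (i j : Fin 5) (a : k) : SpecialLinearGroup (Fin 5) k :=
  if h : i = j then 1 else SpecialLinearGroup.transvection h a

theorem tvx_ne {i j : Fin 5} (h : i ≠ j) (a : k) : tvx i j a = SpecialLinearGroup.transvection h a := dif_neg h

/-- a diagonal matrix -/
def dg (d : Fin 5 → kˣ) (h : ∏ i, d i = 1) : SpecialLinearGroup (Fin 5) k :=
  ⟨Matrix.diagonal fun i => (d i : k), by
    rw [Matrix.det_diagonal, ← Units.coe_prod, h, Units.val_one]⟩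

theorem dg_smul (d : Fin 5 → kˣ) (h : ∏ i, d i = 1) (v : Fin 5 → k) (i : Fin 5) : (dg d h • v) i = (d i : k) * v i := by
  rw [Matrix.SpecialLinearGroup.smul_def]
  show (Matrix.diagonal (fun i => (d i : k)) *ᵥ v) i = _
  rw [Matrix.mulVec_diagonal]

/-- the partial products -/
def pp (d : Fin 5 → kˣ) : Fin 4 → kˣ := ![d 0, d 0 * d 1, d 0 * d 1 * d 2, d 0 * d 1 * d 2 * d 3]

theorem dg_eq (d : Fin 5 → kˣ) (h : ∏ i, d i = 1) : dg d h =
    t tvx 0 1 (pp d 0 : k) * t tvx 1 2 (pp d 1 : k) * t tvx 2 3 (pp d 2 : k) * t tvx 3 4 (pp d 3 : k) := by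
  have hφ : ∀ i j (hij : i ≠ j) (a : k), (MonoidHom.id (SpecialLinearGroup (Fin 5) k)) (tvx i j a) =
      SpecialLinearGroup.transvection hij a := fun i j hij a => tvx_ne hij a
  apply Cfsg.Agent.LieClassical.SLGen.smul_ext
  intro v
  funext i
  have h01 : (0 : Fin 5) ≠ 1 := by decide
  have h12 : (1 : Fin 5) ≠ 2 := by decide
  have h23 : (2 : Fin 5) ≠ 3 := by decide
  have h34 : (3 : Fin 5) ≠ 4 := by decide
  have e1 := fun v => phi_t hφ h01 (pp d 0).ne_zero v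
  have e2 := fun v => phi_t hφ h12 (pp d 1).ne_zero v
  have e3 := fun v => phi_t hφ h23 (pp d 2).ne_zero v
  have e4 := fun v => phi_t hφ h34 (pp d 3).ne_zero v
  simp only [MonoidHom.id_apply] at e1 e2 e3 e4
  rw [dg_smul, mul_smul, mul_smul, mul_smul, e1, e2, e3, e4]
  have hd4 : ((d 4 : kˣ) : k) = ((d 0 * d 1 * d 2 * d 3 : kˣ) : k)⁻¹ := by
    rw [← Units.val_inv_eq_inv_val]
    congr 1
    rw [eq_inv_iff_mul_eq_one, mul_comm]
    rw [Fin.prod_univ_five] at h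
    exact h
  have n0 := (d 0).ne_zero
  have n1 := (d 1).ne_zero
  have n2 := (d 2).ne_zero
  have n3 := (d 3).ne_zero
  fin_cases i
  · simp [df, pp]
  · simp [df, pp]
    field_simp
  · simp [df, pp]
    field_simp
  · simp [df, pp]
    field_simp
  · show (d 4 : k) * v 4 = _
    rw [hd4]
    simp [df, pp]

/-- the value of the weight -/
def wv (rt : Fin 5 → Fin 5 → ℕ) (d : Fin 5 → kˣ) (s : ℕ) : kˣ :=
  pp d 0 ^ expo chevE8 (rt 0 1) s * pp d 1 ^ expo chevE8 (rt 1 2) s * pp d 2 ^ expo chevE8 (rt 2 3) s *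
    pp d 3 ^ expo chevE8 (rt 3 4) s

theorem img_t {r : Fin 5 → Fin 5 → ℕ} {s : Fin 5 → Fin 5 → ℤ} {φ : SpecialLinearGroup (Fin 5) k →* ↥(chevE8.group k)}
    (hφ : ∀ i j (hij : i ≠ j) c, φ (SpecialLinearGroup.transvection hij c) = X (r i j) ((s i j : k) * c))
    {i j : Fin 5} (hij : i ≠ j) (h1 : s i j = 1) (h2 : s j i = 1) (h3 : r j i = chevE8.neg (r i j)) (u : k) :
    φ (t tvx i j u) = Hh (r i j) u := by
  have hX : ∀ c : k, φ (tvx i j c) = X (r i j) c := by
    intro c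
    rw [tvx_ne hij, hφ, h1, Int.cast_one, one_mul]
  have hY : ∀ c : k, φ (tvx j i c) = X (chevE8.neg (r i j)) c := by
    intro c
    rw [tvx_ne hij.symm, hφ, h2, Int.cast_one, one_mul, h3]
  have hw : ∀ c : k, φ (w tvx i j c) = ⟨nG hE8 (r i j) c, nG_mem_group hE8 _ _⟩ := by
    intro c
    unfold w
    rw [map_mul, map_mul, hX, hY]
    apply Subtype.ext
    show xG hE8 (r i j) c * xG hE8 _ _ * xG hE8 (r i j) c = nG hE8 (r i j) c
    rw [nG_def, mul_assoc]
  unfold t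
  rw [map_mul, hw, hw]
  apply Subtype.ext
  show nG hE8 (r i j) u * nG hE8 (r i j) (-1) = hG hE8 (r i j) u
  rw [hG_def]

theorem img_dg {r : Fin 5 → Fin 5 → ℕ} {s : Fin 5 → Fin 5 → ℤ} {φ : SpecialLinearGroup (Fin 5) k →* ↥(chevE8.group k)}
    (hφ : ∀ i j (hij : i ≠ j) c, φ (SpecialLinearGroup.transvection hij c) = X (r i j) ((s i j : k) * c))
    (hr : ∀ i j, r i j < 240) (hs : ∀ i : Fin 4, s i.castSucc i.succ = 1 ∧ s i.succ i.castSucc = 1)
    (hneg : ∀ a b, a ≠ b → r b a = chevE8.neg (r a b)) (d : Fin 5 → kˣ) (h : ∏ i, d i = 1) :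
    φ (dg d h) ∈ TT chevE8 k ∧ ∀ s : Fin 240, cX e8T (φ (dg d h)) (vec chevE8 8 s.val) = (wv r d s.val : k) := by
  have h01 : (0 : Fin 5) ≠ 1 := by decide
  have h12 : (1 : Fin 5) ≠ 2 := by decide
  have h23 : (2 : Fin 5) ≠ 3 := by decide
  have h34 : (3 : Fin 5) ≠ 4 := by decide
  have g0 := img_t hφ h01 (hs 0).1 (hs 0).2 (hneg _ _ h01) (pp d 0 : k)
  have g1 := img_t hφ h12 (hs 1).1 (hs 1).2 (hneg _ _ h12) (pp d 1 : k)
  have g2 := img_t hφ h23 (hs 2).1 (hs 2).2 (hneg _ _ h23) (pp d 2 : k)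
  have g3 := img_t hφ h34 (hs 3).1 (hs 3).2 (hneg _ _ h34) (pp d 3 : k)
  have m0 := Hh_mem (k := k) (hr 0 1) (pp d 0).ne_zero
  have m1 := Hh_mem (k := k) (hr 1 2) (pp d 1).ne_zero
  have m2 := Hh_mem (k := k) (hr 2 3) (pp d 2).ne_zero
  have m3 := Hh_mem (k := k) (hr 3 4) (pp d 3).ne_zero
  rw [dg_eq, map_mul, map_mul, map_mul, g0, g1, g2, g3]
  refine ⟨mul_mem (mul_mem (mul_mem m0 m1) m2) m3, fun s => ?_⟩
  rw [cX_mul e8T (mul_mem (mul_mem m0 m1) m2) m3, cX_mul e8T (mul_mem m0 m1) m2, cX_mul e8T m0 m1,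
    cX_Hh (hr 0 1) (pp d 0).ne_zero, cX_Hh (hr 1 2) (pp d 1).ne_zero, cX_Hh (hr 2 3) (pp d 2).ne_zero,
    cX_Hh (hr 3 4) (pp d 3).ne_zero]
  unfold wv
  rw [Units.val_mul, Units.val_mul, Units.val_mul, Units.val_zpow_eq_zpow_val, Units.val_zpow_eq_zpow_val,
    Units.val_zpow_eq_zpow_val, Units.val_zpow_eq_zpow_val]

theorem hs1 : ∀ i : Fin 4, sg1 i.castSucc i.succ = 1 ∧ sg1 i.succ i.castSucc = 1 := by decide
theorem hs2 : ∀ i : Fin 4, sg2 i.castSucc i.succ = 1 ∧ sg2 i.succ i.castSucc = 1 := by decide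

theorem ph1_dg (d : Fin 5 → kˣ) (h : ∏ i, d i = 1) : ph1 k (dg d h) ∈ TT chevE8 k ∧
    ∀ s : Fin 240, cX e8T (ph1 k (dg d h)) (vec chevE8 8 s.val) = (wv rt1 d s.val : k) :=
  img_dg (fun _ _ hij c => ph1_tv k hij c) rt1_lt hs1 tn1 d h

theorem ph2_dg (d : Fin 5 → kˣ) (h : ∏ i, d i = 1) : ph2 k (dg d h) ∈ TT chevE8 k ∧
    ∀ s : Fin 240, cX e8T (ph2 k (dg d h)) (vec chevE8 8 s.val) = (wv rt2 d s.val : k) :=
  img_dg (fun _ _ hij c => ph2_tv k hij c) rt2_lt hs2 tn2 d h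

end Cfsg.Agent.H238.E8

private theorem dce_80e4fa565bc9 : _root_.True := by
  try have : _root_.True := by simp only [_root_.Cfsg.Agent.CTFrame.Weyl.df.congr_simp]
  try have : _root_.True := by simp only [_root_.Cfsg.Agent.H238.E8.pp.eq_1]
  exact _root_.True.intro
end
end
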